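/-
A cyclic TI subgroup with normalizer twice as large in a perfect group is inverted by that normalizer
(namespace `Cfsg.Agent.PrimeDegreeTI`).

* `mem_normalizer_of_ti` : a conjugation moving a nontrivial element of `E` into `E` normalizes `E`
* `conj_eq_inv` : the elements of `N(E) \ E` invert `E`
-/
import Cfsg.Agent.Lib.Transfer.Focal

set_option autoImplicit false

open scoped commutatorElement

namespace Cfsg.Agent.PrimeDegreeTI

variable {G : Type*} [Group G]

theorem mem_normalizer_of_ti {E : Subgroup G}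
    (hTI : ∀ g : G, g ∉ Subgroup.normalizer (E : Set G) → E ⊓ E.map (MulAut.conj g).toMonoidHom = ⊥)
    {g a : G} (ha : a ∈ E) (ha1 : a ≠ 1) (hga : g * a * g⁻¹ ∈ E) :
    g ∈ Subgroup.normalizer (E : Set G) := by
  by_contra hg
  have h : g * a * g⁻¹ ∈ E ⊓ E.map (MulAut.conj g).toMonoidHom :=
    ⟨hga, Subgroup.mem_map.mpr ⟨a, ha, rfl⟩⟩
  rw [hTI g hg, Subgroup.mem_bot] at h
  exact ha1 (by simpa using h)

variable [Finite G]

theorem index_subgroupOf_eq_two {E : Subgroup G}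
    (hNE : Nat.card (Subgroup.normalizer (E : Set G)) = 2 * Nat.card E) :
    (E.subgroupOf (Subgroup.normalizer (E : Set G))).index = 2 := by
  have h := (E.subgroupOf (Subgroup.normalizer (E : Set G))).card_mul_index
  rw [Nat.card_congr (Subgroup.subgroupOfEquivOfLe Subgroup.le_normalizer).toEquiv, hNE, mul_comm 2] at h
  exact Nat.eq_of_mul_eq_mul_left Nat.card_pos h

theorem mem_of_index_two {E : Subgroup G}
    (hNE : Nat.card (Subgroup.normalizer (E : Set G)) = 2 * Nat.card E) {u v : G}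
    (hu : u ∈ Subgroup.normalizer (E : Set G)) (hv : v ∈ Subgroup.normalizer (E : Set G))
    (hu' : u ∉ E) (hv' : v ∉ E) : u⁻¹ * v ∈ E := by
  have h := Subgroup.mul_mem_iff_of_index_two (index_subgroupOf_eq_two hNE)
    (a := (⟨u, hu⟩ : Subgroup.normalizer (E : Set G))⁻¹) (b := ⟨v, hv⟩)
  simp only [Subgroup.mem_subgroupOf, Subgroup.coe_mul, InvMemClass.coe_inv, inv_mem_iff] at h
  exact h.mpr (iff_of_false hu' hv')

theorem sq_mem {E : Subgroup G}
    (hNE : Nat.card (Subgroup.normalizer (E : Set G)) = 2 * Nat.card E) {u : G}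
    (hu : u ∈ Subgroup.normalizer (E : Set G)) : u ^ 2 ∈ E := by
  have h := Subgroup.sq_mem_of_index_two (index_subgroupOf_eq_two hNE) (⟨u, hu⟩ : Subgroup.normalizer (E : Set G))
  rwa [Subgroup.mem_subgroupOf, Subgroup.coe_pow] at h

theorem pow_eq_pow_iff_int {x : G} {a b : ℕ} : x ^ a = x ^ b ↔ (orderOf x : ℤ) ∣ (b : ℤ) - a := by
  rw [pow_eq_pow_iff_modEq, Nat.modEq_iff_dvd]

/-- The elements of `N(E) \ E` invert `E`. -/
theorem conj_eq_inv (hG : commutator G = ⊤) (E : Subgroup G) [IsCyclic E]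
    (hNE : Nat.card (Subgroup.normalizer (E : Set G)) = 2 * Nat.card E)
    (hTI : ∀ g : G, g ∉ Subgroup.normalizer (E : Set G) → E ⊓ E.map (MulAut.conj g).toMonoidHom = ⊥)
    {w : G} (hw : w ∈ Subgroup.normalizer (E : Set G)) (hwE : w ∉ E) {r : G} (hr : r ∈ E) :
    w * r * w⁻¹ = r⁻¹ := by
  classical
  set N := Subgroup.normalizer (E : Set G) with hN
  have hENle : E ≤ N := Subgroup.le_normalizer
  obtain ⟨r₀, hgen⟩ : ∃ r₀ : G, E = Subgroup.zpowers r₀ := by
    obtain ⟨g, hg⟩ := (Subgroup.isCyclic_iff_exists_zpowers_eq_top E).mp inferInstance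
    exact ⟨g, hg.symm⟩
  have hr₀ : r₀ ∈ E := hgen ▸ Subgroup.mem_zpowers r₀
  have hcomm : ∀ a ∈ E, ∀ b ∈ E, a * b = b * a := fun a ha b hb => by
    rw [hgen] at ha hb
    obtain ⟨i, rfl⟩ := ha
    obtain ⟨k, rfl⟩ := hb
    exact zpow_mul_comm r₀ i k
  have hnat : ∀ a ∈ E, ∃ i : ℕ, a = r₀ ^ i := fun a ha => by
    rw [hgen] at ha
    obtain ⟨i, hi⟩ := (isOfFinOrder_of_finite r₀).mem_powers_iff_mem_zpowers.mpr ha
    exact ⟨i, hi.symm⟩
  obtain ⟨j, hj⟩ := hnat _ ((Subgroup.mem_normalizer_iff.mp hw r₀).mp hr₀)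
  have hjpow : ∀ i : ℕ, w * r₀ ^ i * w⁻¹ = r₀ ^ (j * i) := fun i => by rw [← conj_pow, hj, ← pow_mul]
  suffices key : (orderOf r₀ : ℤ) ∣ (j : ℤ) + 1 by
    obtain ⟨i, rfl⟩ := hnat r hr
    rw [hjpow, eq_inv_iff_mul_eq_one, ← pow_add, ← orderOf_dvd_iff_pow_eq_one]
    have : orderOf r₀ ∣ j + 1 := by exact_mod_cast key
    rw [show j * i + i = (j + 1) * i by ring]
    exact this.mul_right i
  -- `w ^ 2` centralizes `E`
  have hj2 : (orderOf r₀ : ℤ) ∣ (j : ℤ) * j - 1 := by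
    have h1 : w * (w * r₀ * w⁻¹) * w⁻¹ = r₀ := by
      have h2 := hcomm _ (sq_mem hNE hw) _ hr₀
      rw [pow_two] at h2
      calc w * (w * r₀ * w⁻¹) * w⁻¹ = (w * w * r₀) * w⁻¹ * w⁻¹ := by group
        _ = r₀ := by rw [h2]; group
    rw [hj, hjpow] at h1
    have h2 := (pow_eq_pow_iff_int (x := r₀) (a := 1) (b := j * j)).mp (by rw [pow_one]; exact h1.symm)
    push_cast at h2
    exact h2
  by_contra hkey
  set e := orderOf r₀ with he
  have he0 : e ≠ 0 := (orderOf_pos r₀).ne'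
  obtain ⟨q, hq, hqk⟩ : ∃ q, q.Prime ∧ ¬ ((q ^ e.factorization q : ℕ) : ℤ) ∣ (j : ℤ) + 1 := by
    by_contra hc
    push Not at hc
    apply hkey
    have : e ∣ j + 1 := by
      rw [← Nat.factorization_le_iff_dvd he0 (by omega)]
      intro q
      by_cases hq : q.Prime
      · refine (hq.pow_dvd_iff_le_factorization (by omega)).mp ?_
        exact_mod_cast hc q hq
      · simp [Nat.factorization_eq_zero_of_not_prime _ hq]
    exact_mod_cast this
  haveI := Fact.mk hq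
  set k := e.factorization q with hk
  have hqe : q ^ k ∣ e := Nat.ordProj_dvd e q
  have hk0 : k ≠ 0 := fun h => hqk (by simp [h])
  have hqkI : ((q ^ k : ℕ) : ℤ) ∣ ((j : ℤ) - 1) * ((j : ℤ) + 1) := by
    rw [show ((j : ℤ) - 1) * ((j : ℤ) + 1) = (j : ℤ) * j - 1 by ring]
    exact (Int.natCast_dvd_natCast.mpr hqe).trans hj2
  have hqI : Prime (q : ℤ) := Nat.prime_iff_prime_int.mp hq
  have hqj : (q : ℤ) ∣ (j : ℤ) - 1 := by
    by_contra h
    apply hqk
    push_cast at hqkI ⊢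
    exact hqI.pow_dvd_of_dvd_mul_left k h hqkI
  have hqk3 : 3 ≤ q ^ k := by
    by_contra h
    have h2 := Nat.le_self_pow hk0 q
    have := hq.two_le
    have e1 : q ^ k = 2 := by omega
    have e2 : q = 2 := by omega
    apply hqk
    rw [e1]
    have : ((2 : ℕ) : ℤ) ∣ (j : ℤ) - 1 := e2 ▸ hqj
    omega
  -- the element `x`
  set m := e / q ^ k with hm
  have hqm : ¬ q ∣ m := Nat.not_dvd_ordCompl hq he0
  have hme : q ^ k * m = e := Nat.mul_div_cancel' hqe
  set x := r₀ ^ m with hxdef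
  have hm0 : m ≠ 0 := fun h => hqm (h ▸ dvd_zero q)
  have hxE : x ∈ E := E.pow_mem hr₀ m
  have hxo : orderOf x = q ^ k := by
    rw [hxdef, orderOf_pow' _ hm0, ← he, Nat.gcd_eq_right (Dvd.intro_left _ hme), ← hme,
      Nat.mul_div_cancel _ (Nat.pos_of_ne_zero hm0)]
  have hx2 : x ^ 2 ≠ 1 := fun h => by
    have := Nat.le_of_dvd two_pos (hxo ▸ orderOf_dvd_of_pow_eq_one h)
    omega
  -- the subgroup of `q`-th powers in `E`
  set Eq := Subgroup.zpowers (r₀ ^ q) with hEq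
  have hEqE : Eq ≤ E := Subgroup.zpowers_le.mpr (E.pow_mem hr₀ q)
  have hEqmem : ∀ i : ℕ, r₀ ^ i ∈ Eq ↔ q ∣ i := by
    intro i
    constructor
    · intro h
      obtain ⟨l, hl⟩ := (isOfFinOrder_of_finite (r₀ ^ q)).mem_powers_iff_mem_zpowers.mpr h
      simp only [← pow_mul] at hl
      have h1 : ((q : ℕ) : ℤ) ∣ (i : ℤ) - (q * l : ℕ) :=
        (Int.natCast_dvd_natCast.mpr ((dvd_pow_self q hk0).trans hqe)).trans (pow_eq_pow_iff_int.mp hl)
      have h2 : ((q : ℕ) : ℤ) ∣ ((q * l : ℕ) : ℤ) := Int.natCast_dvd_natCast.mpr (dvd_mul_right q l)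
      exact_mod_cast (dvd_sub_left h2).mp h1
    · rintro ⟨l, rfl⟩
      rw [pow_mul]
      exact Subgroup.pow_mem _ (Subgroup.mem_zpowers _) l
  have hxEq : x ∉ Eq := fun h => hqm ((hEqmem m).mp h)
  have hnorm : ∀ u ∈ N, ∀ a ∈ Eq, u * a * u⁻¹ ∈ Eq := by
    intro u hu a ha
    obtain ⟨i, rfl⟩ := Subgroup.mem_zpowers_iff.mp ha
    rw [← conj_zpow, ← conj_pow]
    obtain ⟨i', hi'⟩ := hnat _ ((Subgroup.mem_normalizer_iff.mp hu r₀).mp hr₀)
    rw [hi', ← pow_mul]
    exact Subgroup.zpow_mem _ ((hEqmem _).mpr (dvd_mul_left q i')) _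
  have hcw : ∀ u ∈ N, u ∉ E → ∀ i : ℕ, u * r₀ ^ i * u⁻¹ = r₀ ^ (j * i) := by
    intro u hu hu' i
    have hc := hcomm _ (mem_of_index_two hNE hw hu hwE hu') _ (E.pow_mem hr₀ i)
    calc u * r₀ ^ i * u⁻¹ = w * ((w⁻¹ * u) * r₀ ^ i * (w⁻¹ * u)⁻¹) * w⁻¹ := by group
      _ = w * r₀ ^ i * w⁻¹ := by rw [hc, mul_inv_cancel_right]
      _ = r₀ ^ (j * i) := hjpow i
  have hcommE : ∀ u ∈ N, ∀ a ∈ E, u * a * u⁻¹ * a⁻¹ ∈ Eq := by
    intro u hu a ha
    by_cases hu' : u ∈ E
    · rw [hcomm u hu' a ha, mul_inv_cancel_right, mul_inv_cancel]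
      exact one_mem _
    obtain ⟨i, rfl⟩ := hnat a ha
    rw [hcw u hu hu' i]
    rcases Nat.eq_zero_or_pos j with h0 | h0
    · -- `j = 0` forces `q ∣ 1`
      rw [h0] at hqj
      simp only [Nat.cast_zero, zero_sub, dvd_neg] at hqj
      exact absurd (Int.natCast_dvd_natCast.mp (by exact_mod_cast hqj : (q : ℤ) ∣ ((1 : ℕ) : ℤ)))
        (by simpa using hq.ne_one)
    obtain ⟨j', rfl⟩ : ∃ j', j = j' + 1 := ⟨j - 1, by omega⟩
    rw [show (j' + 1) * i = j' * i + i by ring, pow_add, mul_inv_cancel_right, hEqmem]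
    push_cast at hqj
    simp only [add_sub_cancel_right, Int.natCast_dvd_natCast] at hqj
    exact hqj.mul_right i
  have hNcomm : ∀ u ∈ N, ∀ v ∈ N, ⁅u, v⁆ ∈ Eq := by
    intro u hu v hv
    by_cases hv' : v ∈ E
    · exact hcommE u hu v hv'
    by_cases hu' : u ∈ E
    · rw [← commutatorElement_inv]
      exact Eq.inv_mem (hcommE v hv u hu')
    have ha := mem_of_index_two hNE hu hv hu' hv'
    have := hnorm u hu _ (hcommE u hu _ ha)
    rw [commutatorElement_def]
    convert this using 1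
    group
  -- a Sylow subgroup of `G` through `x` lies in `N`
  have hxP : IsPGroup q (Subgroup.zpowers x) := IsPGroup.of_card (n := k) (by rw [Nat.card_zpowers, hxo])
  obtain ⟨S, hS⟩ := hxP.exists_le_sylow
  have hxS : x ∈ (S : Subgroup G) := hS (Subgroup.mem_zpowers x)
  have hSN : (S : Subgroup G) ≤ N := by
    by_contra hle
    have hnc : NormalizerCondition (S : Subgroup G) :=
      Group.normalizerCondition_of_isNilpotent (h := S.isPGroup'.isNilpotent)
    have hlt : N.subgroupOf (S : Subgroup G) < ⊤ := by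
      rw [lt_top_iff_ne_top, Ne, Subgroup.subgroupOf_eq_top]; exact hle
    obtain ⟨g, hgN, hgR⟩ := Set.exists_of_ssubset (hnc _ hlt)
    apply hgR
    have hxR : (⟨x, hxS⟩ : (S : Subgroup G)) ∈ N.subgroupOf (S : Subgroup G) :=
      Subgroup.mem_subgroupOf.mpr (hENle hxE)
    have hconj := Subgroup.mem_subgroupOf.mp ((Subgroup.mem_normalizer_iff.mp hgN _).mp hxR)
    simp only [Subgroup.coe_mul, InvMemClass.coe_inv] at hconj
    show (g : G) ∈ N
    refine mem_normalizer_of_ti hTI (E.pow_mem hxE 2) hx2 ?_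
    rw [← conj_pow]
    exact sq_mem hNE hconj
  -- the subgroup `T`
  obtain ⟨c, hcN, hcE, hcq, hcU⟩ : ∃ c, c ∈ N ∧ (c ∈ E → c = 1) ∧ c * c = 1 ∧
      ∀ u ∈ (S : Subgroup G), u ^ 2 = 1 → u ∈ Eq ∨ c⁻¹ * u ∈ Eq := by
    by_cases hq2 : q = 2
    swap
    · refine ⟨1, N.one_mem, fun _ => rfl, one_mul 1, fun u hu hu2 => Or.inl ?_⟩
      obtain ⟨n, hn⟩ := IsPGroup.iff_orderOf.mp S.isPGroup' ⟨u, hu⟩
      rw [Subgroup.orderOf_mk] at hn
      have h1 := hn ▸ orderOf_dvd_of_pow_eq_one hu2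
      rcases Nat.eq_zero_or_pos n with rfl | hn0
      · rw [pow_zero, orderOf_eq_one_iff] at hn
        rw [hn]; exact one_mem _
      · exact absurd ((Nat.prime_dvd_prime_iff_eq hq Nat.prime_two).mp ((dvd_pow_self q hn0.ne').trans h1)) hq2
    have hinE : ∀ u ∈ E, u ^ 2 = 1 → u ∈ Eq := by
      intro u hu hu2
      obtain ⟨i, rfl⟩ := hnat u hu
      rw [← pow_mul, ← orderOf_dvd_iff_pow_eq_one, ← he] at hu2
      rw [hEqmem, hq2]
      have h4 : 4 ∣ i * 2 := by
        refine (Dvd.dvd.trans ?_ hqe).trans hu2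
        obtain ⟨k', hk'⟩ : ∃ k', k = k' + 2 := ⟨k - 2, by
          by_contra h
          have : k = 1 := by omega
          rw [this, hq2] at hqk3
          norm_num at hqk3⟩
        rw [hk', hq2, pow_add]
        exact dvd_mul_left _ _
      omega
    by_cases hex : ∃ c ∈ N, c ∉ E ∧ c * c = 1
    · obtain ⟨c, hc, hc', hcc⟩ := hex
      refine ⟨c, hc, fun h => absurd h hc', hcc, fun u hu hu2 => ?_⟩
      by_cases hu' : u ∈ E
      · exact Or.inl (hinE u hu' hu2)
      refine Or.inr ?_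
      obtain ⟨i, hi⟩ := hnat _ (mem_of_index_two hNE hc (hSN hu) hc' hu')
      rw [hi, hEqmem]
      by_contra hqi
      apply hqk
      have h1 := hcw c hc hc' i
      rw [← hi] at h1
      have h2 : r₀ ^ (j * i) * r₀ ^ i = 1 := by
        rw [← h1, ← hi]
        rw [show c * (c⁻¹ * u) * c⁻¹ * (c⁻¹ * u) = u * (c * c)⁻¹ * u by group, hcc, inv_one, mul_one,
          ← pow_two, hu2]
      rw [← pow_add, ← orderOf_dvd_iff_pow_eq_one, ← he, show j * i + i = i * (j + 1) by ring] at h2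
      have h3 : q ^ k ∣ j + 1 :=
        (Nat.Coprime.pow_left k (hq.coprime_iff_not_dvd.mpr hqi)).dvd_of_dvd_mul_left (hqe.trans h2)
      exact_mod_cast h3
    · push Not at hex
      refine ⟨1, N.one_mem, fun _ => rfl, one_mul 1, fun u hu hu2 => Or.inl ?_⟩
      refine hinE u ?_ hu2
      by_contra hu'
      exact hex u (hSN hu) hu' (by rw [← pow_two]; exact hu2)
  let T : Subgroup G :=
    { carrier := {g | g ∈ Eq ∨ c⁻¹ * g ∈ Eq}
      one_mem' := Or.inl Eq.one_mem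
      mul_mem' := by
        rintro a b (ha | ha) (hb | hb)
        · exact Or.inl (Eq.mul_mem ha hb)
        · refine Or.inr ?_
          have := Eq.mul_mem (hnorm _ (N.inv_mem hcN) a ha) hb
          convert this using 1; group
        · exact Or.inr (by rw [← mul_assoc]; exact Eq.mul_mem ha hb)
        · refine Or.inl ?_
          have h1 := Eq.mul_mem (hnorm c hcN _ ha) hb
          have : c * (c⁻¹ * a) * c⁻¹ * (c⁻¹ * b) = a * b := by
            rw [show c * (c⁻¹ * a) * c⁻¹ * (c⁻¹ * b) = a * (c * c)⁻¹ * b by group, hcq, inv_one, mul_one]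
          rwa [this] at h1
      inv_mem' := by
        rintro a (ha | ha)
        · exact Or.inl (Eq.inv_mem ha)
        · refine Or.inr ?_
          have h1 := hnorm c hcN _ (Eq.inv_mem ha)
          have : c * (c⁻¹ * a)⁻¹ * c⁻¹ = (c * a⁻¹) * (c * c⁻¹) := by group
          rw [this, mul_inv_cancel, mul_one] at h1
          rwa [inv_eq_of_mul_eq_one_right hcq] }
  have hxT : x ∉ T := by
    rintro (h | h)
    · exact hxEq h
    · have hcEm : c ∈ E := by
        have h' := E.mul_mem hxE (E.inv_mem (hEqE h))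
        convert h' using 1; group
      rw [hcE hcEm, inv_one, one_mul] at h
      exact hxEq h
  apply hxT
  have hfoc : (S : Subgroup G).focalSubgroup = (S : Subgroup G) := by
    rw [Transfer.focalSubgroup_eq_of_coprime _ (Transfer.coprime_index_relIndex_sylow S), hG, top_inf_eq]
  have hle : (S : Subgroup G).focalSubgroup ≤ T := by
    rw [Subgroup.focalSubgroup_def, Subgroup.closure_le]
    rintro _ ⟨hgS, a, ha, u, rfl⟩
    have hy : u * a⁻¹ * u⁻¹ ∈ (S : Subgroup G) := by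
      have := (S : Subgroup G).mul_mem ((S : Subgroup G).inv_mem ha) hgS
      simpa [commutatorElement_def, mul_assoc] using this
    show ⁅a, u⁆ ∈ T
    by_cases ha2 : a ^ 2 = 1
    · have hy2 : (u * a⁻¹ * u⁻¹) ^ 2 = 1 := by rw [conj_pow, inv_pow, ha2]; group
      have := T.mul_mem (hcU a ha ha2 : a ∈ T) (hcU _ hy hy2 : u * a⁻¹ * u⁻¹ ∈ T)
      simpa [commutatorElement_def, mul_assoc] using this
    · refine Or.inl (hNcomm a (hSN ha) u ?_)
      refine mem_normalizer_of_ti hTI (E.inv_mem (sq_mem hNE (hSN ha))) (by simpa using ha2) ?_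
      rw [← inv_pow, ← conj_pow]
      exact sq_mem hNE (hSN hy)
  exact hle (hfoc.symm ▸ hxS)

end Cfsg.Agent.PrimeDegreeTI
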