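/-
Exceptional characters of a perfect group with an inverted cyclic TI subgroup `E`
(namespace `Cfsg.Agent.PrimeDegreeTI`).

* `F` : the function induced from `1 - μ`, with `F_one`, `F_mem`, `F_off`, `F_real`, `F_inner`, `F_norm`
* `exists_mult_data` : eigenvalue multiplicities of a generator of `E` in a character
-/
import Cfsg.Agent.Lib.PrimeDegreeTI.Inversion
import Cfsg.Agent.Lib.Char.Induced
import Cfsg.Agent.Lib.Char.Eigen
import Mathlib.RingTheory.RootsOfUnity.PrimitiveRoots

set_option autoImplicit false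
set_option linter.unusedSectionVars false
set_option linter.style.haveILetI false

open scoped ComplexConjugate

namespace Cfsg.Agent.PrimeDegreeTI

open Cfsg Cfsg.Agent

variable {G : Type*} [Group G] [Fintype G] (E : Subgroup G)

/-- The function induced from `1 - μ`. -/
noncomputable def F (μ : E →* ℂ) : G → ℂ := indFun E (fun r => 1 - μ r)

theorem conj_hom (μ : E →* ℂ) (r : E) : conj (μ r) = μ r⁻¹ :=
  (Char.IsCharacter.apply_inv (Char.IsIrrCharacter.isCharacter (Char.isIrrCharacter_of_hom μ)) r).symm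

theorem F_isClassFunction (μ : E →* ℂ) : IsClassFunction G (F E μ) :=
  Char.indFun_isClassFunction E _

theorem F_one (μ : E →* ℂ) : F E μ 1 = 0 := by
  rw [F, Char.indFun_one_apply, map_one, sub_self, mul_zero]

theorem F_off (μ : E →* ℂ) {g : G} (h : ∀ x : G, x⁻¹ * g * x ∉ E) : F E μ g = 0 := by
  rw [F, indFun, Finset.sum_eq_zero (fun x _ => Char.extendByZero_not_mem E _ (h x)), mul_zero]

theorem F_inner [Fintype E] (μ : E →* ℂ) {χ : G → ℂ} (hχ : IsIrrCharacter G χ) :
    classInner (F E μ) χ =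
      conj (classInner (fun r : E => χ r) (fun r : E => (1 : E →* ℂ) r)) -
        conj (classInner (fun r : E => χ r) (μ : E → ℂ)) := by
  rw [F, Char.frobenius_reciprocity E _ (Char.IsIrrCharacter.isClassFunction hχ),
    show (fun r : E => 1 - μ r) = (fun r : E => (1 : E →* ℂ) r) - (μ : E → ℂ) from
      funext fun r => by simp,
    Char.classInner_sub_left, Char.classInner_conj_symm, Char.classInner_conj_symm]

variable (hNE : Nat.card (Subgroup.normalizer (E : Set G)) = 2 * Nat.card E)
  (hTI : ∀ g : G, g ∉ Subgroup.normalizer (E : Set G) → E ⊓ E.map (MulAut.conj g).toMonoidHom = ⊥)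
  {w : G} (hw : w ∈ Subgroup.normalizer (E : Set G)) (hwE : w ∉ E)
  (hinv : ∀ r ∈ E, w * r * w⁻¹ = r⁻¹) (hcomm : ∀ a ∈ E, ∀ b ∈ E, a * b = b * a)

include hNE hw hwE hinv hcomm in
theorem conj_out {x : G} (hx : x ∈ Subgroup.normalizer (E : Set G)) (hx' : x ∉ E) {r : G} (hr : r ∈ E) :
    x⁻¹ * r * x = r⁻¹ := by
  have h1 := mem_of_index_two hNE hw hx hwE hx'
  have h2 := hcomm _ h1 _ (E.inv_mem hr)
  have h3 : w * r⁻¹ * w⁻¹ = r := by rw [hinv _ (E.inv_mem hr), inv_inv]
  calc x⁻¹ * r * x = x⁻¹ * (w * r⁻¹ * w⁻¹) * x := by rw [h3]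
    _ = (w⁻¹ * x)⁻¹ * (r⁻¹ * (w⁻¹ * x)) := by group
    _ = r⁻¹ := by rw [← h2]; group

include hTI hNE hw hwE hinv hcomm in
theorem F_mem (μ : E →* ℂ) (r : E) (hr : r ≠ 1) : F E μ r = 2 - μ r - conj (μ r) := by
  classical
  set N := Subgroup.normalizer (E : Set G) with hN
  have hr' : (r : G) ≠ 1 := fun h => hr (Subtype.ext h)
  have hval : ∀ x : G, extendByZero E (fun s => 1 - μ s) (x⁻¹ * r * x) =
      (if x ∈ E then 1 - μ r else 0) + (if x ∈ N ∧ x ∉ E then 1 - conj (μ r) else 0) := by
    intro x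
    by_cases hxE : x ∈ E
    · have e : x⁻¹ * r * x = r := by rw [mul_assoc, hcomm _ r.2 _ hxE, inv_mul_cancel_left]
      rw [if_pos hxE, if_neg (fun h => h.2 hxE), add_zero, e, Char.extendByZero_coe]
    · rw [if_neg hxE, zero_add]
      by_cases hxN : x ∈ N
      · rw [if_pos ⟨hxN, hxE⟩, conj_out E hNE hw hwE hinv hcomm hxN hxE r.2, conj_hom]
        exact Char.extendByZero_mem E _ (E.inv_mem r.2)
      · rw [if_neg (fun h => hxN h.1)]
        refine Char.extendByZero_not_mem E _ fun h => hxN ?_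
        have := mem_normalizer_of_ti hTI (g := x⁻¹) r.2 hr' (by simpa using h)
        simpa using N.inv_mem this
  rw [F, indFun, Finset.sum_congr rfl fun x _ => hval x, Finset.sum_add_distrib]
  simp only [← Finset.sum_filter, Finset.sum_const, nsmul_eq_mul]
  have c1 : (Finset.univ.filter (· ∈ E)).card = Nat.card E := by
    rw [Nat.card_eq_fintype_card, Fintype.card_subtype]
  have c2 : (Finset.univ.filter fun x => x ∈ N ∧ x ∉ E).card = Nat.card E := by
    have h1 : (Finset.univ.filter (· ∈ N)).card = 2 * Nat.card E := by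
      rw [← hNE, Nat.card_eq_fintype_card, Fintype.card_subtype]
    have h2 := Finset.card_filter_add_card_filter_not (s := Finset.univ.filter (· ∈ N)) (fun x => x ∈ E)
    rw [Finset.filter_filter, Finset.filter_filter, h1,
      show (Finset.univ.filter fun x => x ∈ N ∧ x ∈ E) = Finset.univ.filter (· ∈ E) from
        Finset.filter_congr fun x _ => ⟨fun h => h.2, fun h => ⟨Subgroup.le_normalizer h, h⟩⟩, c1] at h2
    omega
  rw [c1, c2]
  have : (Nat.card E : ℂ) ≠ 0 := Nat.cast_ne_zero.2 Nat.card_pos.ne'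
  field_simp
  ring

include hTI hNE hw hwE hinv hcomm in
theorem F_real (μ : E →* ℂ) (g : G) : conj (F E μ g) = F E μ g := by
  classical
  by_cases h : ∃ x : G, x⁻¹ * g * x ∈ E
  · obtain ⟨x, hx⟩ := h
    have e : F E μ g = F E μ (x⁻¹ * g * x) := by
      have := F_isClassFunction E μ g x⁻¹
      rw [inv_inv] at this
      exact this.symm
    rw [e]
    by_cases h1 : x⁻¹ * g * x = 1
    · rw [h1, F_one, map_zero]
    · have := F_mem E hNE hTI hw hwE hinv hcomm μ ⟨_, hx⟩ (fun hh => h1 (congrArg Subtype.val hh))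
      rw [this]
      simp only [map_sub, Complex.conj_conj, map_ofNat]
      ring
  · push Not at h
    rw [F_off E μ h, map_zero]

theorem sum_hom [Fintype E] (μ : E →* ℂ) :
    ∑ r : E, μ r = if μ = 1 then (Nat.card E : ℂ) else 0 := by
  split_ifs with h
  · subst h; simp [Nat.card_eq_fintype_card]
  · obtain ⟨s, hs⟩ : ∃ s, μ s ≠ 1 := by
      by_contra hc
      push Not at hc
      exact h (MonoidHom.ext hc)
    have : μ s * ∑ r : E, μ r = ∑ r : E, μ r := by
      rw [Finset.mul_sum]
      exact Fintype.sum_equiv (Equiv.mulLeft s) _ _ fun r => by simp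
    have h2 : (μ s - 1) * ∑ r : E, μ r = 0 := by linear_combination this
    exact (mul_eq_zero.mp h2).resolve_left (sub_ne_zero.mpr hs)

include hTI hNE hw hwE hinv hcomm in
theorem F_norm [Fintype E] (μ : E →* ℂ) (hμ : μ ≠ 1) :
    classInner (F E μ) (F E μ) = if μ * μ = 1 then 4 else 3 := by
  classical
  nth_rewrite 1 [F]
  rw [Char.frobenius_reciprocity E _ (F_isClassFunction E μ), classInner]
  have hterm : ∀ r : E, (1 - μ r) * conj (F E μ r) = (3 : ℂ) - 3 * μ r - conj (μ r) + (μ * μ) r := by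
    intro r
    rw [F_real E hNE hTI hw hwE hinv hcomm]
    have hmm : μ r * conj (μ r) = 1 := by rw [conj_hom, ← map_mul, mul_inv_cancel, map_one]
    by_cases hr : r = 1
    · subst hr
      rw [OneMemClass.coe_one, F_one]
      simp

    · rw [F_mem E hNE hTI hw hwE hinv hcomm μ r hr, MonoidHom.mul_apply]
      linear_combination hmm
  rw [Finset.sum_congr rfl fun r _ => hterm r]
  simp only [Finset.sum_add_distrib, Finset.sum_sub_distrib, ← Finset.mul_sum, sum_hom, ← map_sum,
    if_neg hμ, map_zero, Finset.sum_const, Finset.card_univ, nsmul_eq_mul, ← Nat.card_eq_fintype_card]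
  have : (Nat.card E : ℂ) ≠ 0 := Nat.cast_ne_zero.2 Nat.card_pos.ne'
  split_ifs <;> field_simp <;> ring

/-- Multiplicities of the eigenvalues of a generator of `E`. -/
theorem exists_mult_data [Fintype E] (hG : commutator G = ⊤) {r₀ : E} (hgen : ∀ r : E, r ∈ Subgroup.zpowers r₀)
    (φ : E →* ℂ) (hφ : IsPrimitiveRoot (φ r₀) (Nat.card E)) {χ : G → ℂ} (hχ : IsCharacter G χ) :
    ∃ m : ℕ → ℕ, (∀ i < Nat.card E, classInner (fun r : E => χ r) ((φ ^ i : E →* ℂ) : E → ℂ) = m i) ∧
      (∑ i ∈ Finset.range (Nat.card E), (m i : ℂ)) = χ 1 ∧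
      Nat.card E ∣ ∑ i ∈ Finset.range (Nat.card E), i * m i ∧
      (∀ r : E, χ r = ∑ i ∈ Finset.range (Nat.card E), (m i : ℂ) * (φ r) ^ i) := by
  classical
  obtain ⟨n, ρ, rfl⟩ := hχ
  set e := Nat.card E with he
  have he0 : e ≠ 0 := Nat.card_pos.ne'
  haveI : NeZero e := ⟨he0⟩
  have hord : orderOf r₀ = e := orderOf_eq_card_of_forall_mem_zpowers hgen
  obtain ⟨b, lam, hlam, hroot⟩ := Char.exists_eigenbasis ρ (r₀ : G)
  rw [Subgroup.orderOf_coe, hord] at hroot
  choose s hs hs' using fun i => hφ.eq_pow_of_pow_eq_one (hroot i)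
  have hval : ∀ r : E, ρ.character r = ∑ i, (φ r) ^ (s i) := by
    intro r
    obtain ⟨k, rfl⟩ := (isOfFinOrder_of_finite r₀).mem_powers_iff_mem_zpowers.mpr (hgen r)
    rw [Subgroup.coe_pow, Char.character_pow ρ _ b lam hlam]
    refine Finset.sum_congr rfl fun i _ => ?_
    rw [← hs' i, map_pow, ← pow_mul, ← pow_mul, mul_comm]
  refine ⟨fun i => (Finset.univ.filter fun j => s j = i).card, ?_, ?_, ?_, ?_⟩
  · intro i hi
    have hfun : (fun r : E => ρ.character r) = ∑ j, ((φ ^ s j : E →* ℂ) : E → ℂ) := funext fun r => by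
      rw [hval r, Finset.sum_apply]
      simp
    rw [hfun, Char.classInner_sum_left,
      Finset.sum_congr rfl fun j _ => Char.classInner_irr (Char.isIrrCharacter_of_hom _) (Char.isIrrCharacter_of_hom _),
      Finset.sum_boole]
    simp only [Nat.cast_inj]
    refine congrArg Finset.card (Finset.filter_congr fun j _ => ⟨fun h => ?_, fun h => by rw [h]⟩)
    have := congrFun h r₀
    exact hφ.pow_inj (hs j) hi (by simpa using this)
  · rw [Representation.char_one, ← Nat.cast_sum,
      ← Finset.card_eq_sum_card_fiberwise (fun j _ => Finset.mem_range.mpr (hs j))]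
    simp
  · -- the determinant is trivial
    let d : G →* ℂ := LinearMap.det.comp ρ
    have hd : d (r₀ : G) = 1 := by
      have h1 : commutator G ≤ d.toHomUnits.ker := Abelianization.commutator_subset_ker _
      have h2 := congrArg Units.val (MonoidHom.mem_ker.mp (h1 (hG.symm ▸ Subgroup.mem_top (r₀ : G))))
      simpa using h2
    have hmat : LinearMap.toMatrix b b (ρ (r₀ : G)) = Matrix.diagonal lam := by
      ext i j
      rw [LinearMap.toMatrix_apply, hlam, map_smul, b.repr_self]
      by_cases h : i = j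
      · subst h; simp
      · simp [h, Ne.symm h]
    have h3 : ∏ i, lam i = 1 := by
      rw [← Matrix.det_diagonal, ← hmat, LinearMap.det_toMatrix]
      exact hd
    simp only [← hs', Finset.prod_pow_eq_pow_sum, hφ.pow_eq_one_iff_dvd] at h3
    rw [← Finset.sum_fiberwise_of_maps_to (fun j _ => Finset.mem_range.mpr (hs j)) s] at h3
    refine h3.trans (dvd_of_eq (Finset.sum_congr rfl fun i _ => ?_))
    rw [Finset.sum_congr rfl fun j hj => (Finset.mem_filter.mp hj).2, Finset.sum_const, smul_eq_mul, mul_comm]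
  · intro r
    rw [hval r, ← Finset.sum_fiberwise_of_maps_to (fun j _ => Finset.mem_range.mpr (hs j))]
    refine Finset.sum_congr rfl fun i _ => ?_
    rw [Finset.sum_congr rfl fun j hj => congrArg (fun t => (φ r) ^ t) (Finset.mem_filter.mp hj).2,
      Finset.sum_const, nsmul_eq_mul]

end Cfsg.Agent.PrimeDegreeTI
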