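/-
Transitive groups of prime degree with exactly one irreducible character of degree `p` and a TI complement `E`
in the Sylow normalizer (namespace `Cfsg.Agent.PrimeDegreeTI`): group theoretic part.

* `exists_rep_char` : the character of degree `p`
* `five_le`, `not_normal`, `commutator_eq_top`, `isSimpleGroup`
* `exists_mult` : `E` acts on `P = ⟨x⟩` by a faithful multiplier, has a common fixed point, and every
  nontrivial element of `E` has only one fixed point
* `conj_eq_inv` : the elements of `N(E) \ E` invert `E`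
-/
import Cfsg.Agent.Lib.Perm.PrimeSylow
import Cfsg.Agent.Lib.Char.Perm
import Cfsg.Agent.Lib.Char.Linear
import Cfsg.Agent.Lib.Char.PRegular
import Cfsg.Agent.Lib.CliffordChar.Basic
import Cfsg.Agent.Lib.Transfer.Focal

set_option autoImplicit false
set_option linter.unusedSectionVars false
set_option linter.style.haveILetI false

open scoped ComplexConjugate commutatorElement

namespace Cfsg.Agent.PrimeDegreeTI

open Cfsg Cfsg.Agent MulAction

universe u v

variable {α : Type v} [Fintype α] {p : ℕ} [hp : Fact p.Prime]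
  {G : Type u} [Group G] [Finite G] [MulAction G α] [FaithfulSMul G α] [IsPretransitive G α]

/-- A degree `p` character from a `charDegree` hypothesis. -/
theorem exists_rep_char (huniq : ∃! χ : IrrCharacter G, charDegree (χ : G → ℂ) = p) :
    ∃ St : IrrCharacter G, (St : G → ℂ) 1 = p ∧
      ∀ χ : IrrCharacter G, (χ : G → ℂ) 1 = p → χ = St := by
  obtain ⟨χ, h, hu⟩ := huniq
  refine ⟨χ, ?_, fun ψ hψ => hu ψ ?_⟩
  · obtain ⟨n, -, hn⟩ := Char.IsIrrCharacter.exists_degree χ.2
    have : charDegree (χ : G → ℂ) = n := by simp [charDegree, hn]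
    rw [hn, ← this]
    exact_mod_cast congrArg (Nat.cast (R := ℂ)) h
  · show charDegree (ψ : G → ℂ) = p
    simp [charDegree, hψ]

variable (hα : Fintype.card α = p) (St : IrrCharacter G) (hSt : (St : G → ℂ) 1 = p)
  (hu : ∀ χ : IrrCharacter G, (χ : G → ℂ) 1 = p → χ = St)

include hSt in
theorem sq_add_one_le : p * p + 1 ≤ Nat.card G := by
  classical
  have := Fintype.ofFinite G
  haveI : Fintype (IrrCharacter G) := Fintype.ofFinite _
  let one : IrrCharacter G := ⟨fun g => (1 : G →* ℂ) g, Char.isIrrCharacter_of_hom 1⟩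
  have hne : St ≠ one := by
    intro h
    rw [h] at hSt
    simp only [one, MonoidHom.one_apply] at hSt
    have : (1 : ℕ) = p := by exact_mod_cast hSt
    exact hp.out.one_lt.ne this
  have hsum := Char.sum_sq_degrees (G := G)
  choose d hd0 hd using fun χ : IrrCharacter G => Char.IsIrrCharacter.exists_degree χ.2
  simp only [hd, ← Nat.cast_pow, ← Nat.cast_sum, Nat.cast_inj] at hsum
  rw [← hsum]
  have h2 : ∑ χ ∈ ({St, one} : Finset (IrrCharacter G)), d χ ^ 2 ≤ ∑ χ, d χ ^ 2 :=
    Finset.sum_le_sum_of_subset (Finset.subset_univ _)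
  rw [Finset.sum_pair hne] at h2
  have e1 : d St = p := by exact_mod_cast (hd St).symm.trans hSt
  have e2 : d one = 1 := by
    have := (hd one).symm
    simp only [one, MonoidHom.one_apply] at this
    exact_mod_cast this
  rw [e1, e2] at h2
  simpa [pow_two] using h2

include hα hSt in
theorem five_le : 5 ≤ p := by
  have h := sq_add_one_le St hSt
  have h2 : Nat.card G ≤ p.factorial := by
    rw [← hα, ← Nat.card_eq_fintype_card, ← Nat.card_perm]
    exact Nat.card_le_card_of_injective _ (MulAction.toPerm_injective (α := G) (β := α))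
  by_contra hc
  have hp1 := hp.out.two_le
  have : p = 2 ∨ p = 3 ∨ p = 4 := by omega
  rcases this with e | e | e <;> subst e <;> simp [Nat.factorial] at h2 ⊢ <;> try omega
  exact absurd hp.out (by norm_num)

include hα in
theorem sylow_data (P : Sylow p G) : Nat.card (P : Subgroup G) = p ∧
    IsPretransitive (P : Subgroup G) α ∧ Subgroup.centralizer ((P : Subgroup G) : Set G) = (P : Subgroup G) ∧
      ∃ d, d ∣ p - 1 ∧ Nat.card (Subgroup.normalizer ((P : Subgroup G) : Set G)) = p * d :=
  Perm.sylow_prime_degree (Nat.card_eq_fintype_card.trans hα) P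

include hα hSt in
theorem not_normal (P : Sylow p G) : ¬ (P : Subgroup G).Normal := by
  intro hn
  obtain ⟨-, -, -, d, hd, hN⟩ := sylow_data hα P
  rw [Subgroup.normalizer_eq_top_iff.mpr hn, Subgroup.card_top] at hN
  have h := sq_add_one_le St hSt
  have hd' := Nat.le_of_dvd (by have := hp.out.two_le; omega) hd
  rw [hN] at h
  have : p * d ≤ p * p := Nat.mul_le_mul_left _ (by omega)
  omega

include hα in
theorem not_sq_dvd : ¬ p ^ 2 ∣ Nat.card G :=
  Perm.not_sq_dvd_card_of_prime_degree (Nat.card_eq_fintype_card.trans hα)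

include hα in
theorem factorization_le_one : (Nat.card G).factorization p ≤ 1 := by
  by_contra h
  exact not_sq_dvd (G := G) hα ((hp.out.pow_dvd_iff_le_factorization Nat.card_pos.ne').mpr (by omega))

include hα hSt in
theorem St_vanishes {y : G} (hy : p ∣ orderOf y) : (St : G → ℂ) y = 0 :=
  Char.vanishes_of_defect_zero hp.out St.2 hSt
    (by rw [hp.out.factorization_self]; exact factorization_le_one hα) y hy

include hα in
/-- A nontrivial normal subgroup contains every Sylow `p`-subgroup. -/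
theorem sylow_le_normal (M : Subgroup G) [M.Normal] (hM : M ≠ ⊥) (P : Sylow p G) :
    (P : Subgroup G) ≤ M := by
  classical
  obtain ⟨hPc, -, -, -⟩ := sylow_data hα P
  have hdvd : p ∣ Nat.card M := by
    obtain ⟨⟨m, hmM⟩, hm⟩ : ∃ m : M, (m : G) ≠ 1 := by
      by_contra hc
      push Not at hc
      exact hM (eq_bot_iff.mpr fun x hx => Subgroup.mem_bot.mpr (hc ⟨x, hx⟩))
    obtain ⟨a, ha⟩ : ∃ a : α, m • a ≠ a := by
      by_contra hc
      push Not at hc
      exact hm (eq_of_smul_eq_smul (α := α) fun a => by rw [hc a, one_smul])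
    -- all orbits of `M` have the same size, which divides `p`
    have hB : MulAction.IsBlock G (MulAction.orbit M a) := MulAction.IsBlock.orbit_of_normal a
    have h1 := hB.ncard_dvd_card ⟨a, MulAction.mem_orbit_self a⟩
    rw [Nat.card_eq_fintype_card, hα] at h1
    rcases (Nat.dvd_prime hp.out).mp h1 with h | h
    · exfalso
      obtain ⟨b, hb⟩ := Set.ncard_eq_one.mp h
      have e1 : a = b := Set.mem_singleton_iff.mp (hb ▸ MulAction.mem_orbit_self a)
      have e2 : m • a = b := Set.mem_singleton_iff.mp (hb ▸ (⟨⟨m, hmM⟩, rfl⟩ : m • a ∈ MulAction.orbit M a))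
      exact ha (e2.trans e1.symm)
    · rw [← h, ← Nat.card_coe_set_eq, Nat.card_congr (MulAction.orbitEquivQuotientStabilizer M a)]
      exact (Subgroup.index_dvd_card _)
  obtain ⟨Q⟩ : Nonempty (Sylow p M) := inferInstance
  have hQ : Nat.card (Q : Subgroup M) = p := by
    obtain ⟨n, hn⟩ := IsPGroup.iff_card.mp Q.2
    have h1 : n ≤ 1 := by
      by_contra h
      apply not_sq_dvd (G := G) hα
      exact ((pow_dvd_pow p (by omega : 2 ≤ n)).trans hn.symm.dvd).trans
        ((Subgroup.card_subgroup_dvd_card _).trans (Subgroup.card_subgroup_dvd_card M))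
    have h2 : p ∣ Nat.card (Q : Subgroup M) := Q.dvd_card_of_dvd_card hdvd
    rw [hn] at h2
    rcases Nat.le_one_iff_eq_zero_or_eq_one.mp h1 with e | e
    · rw [e, pow_zero, Nat.dvd_one] at h2; exact absurd h2 hp.out.ne_one
    · rw [hn, e, pow_one]
  let Q' : Sylow p G := Sylow.ofCard ((Q : Subgroup M).map M.subtype) (by
    rw [Subgroup.card_map_of_injective M.subtype_injective, hQ]
    have := P.card_eq_multiplicity
    rw [hPc] at this
    exact this)
  obtain ⟨g, hg⟩ := MulAction.exists_smul_eq G Q' P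
  intro x hx
  rw [← hg, Sylow.coe_subgroup_smul] at hx
  rw [Subgroup.mem_pointwise_smul_iff_inv_smul_mem] at hx
  have hsub : (Q' : Subgroup G) ≤ M := by
    simp only [Q', Sylow.coe_ofCard]
    exact Subgroup.map_subtype_le _
  have := hsub hx
  have h' := (inferInstance : M.Normal).conj_mem _ this g
  simp only [MulAut.smul_def, MulAut.conj_apply, map_inv, MulAut.inv_apply, MulAut.conj_symm_apply] at h'
  simpa [mul_assoc] using h'

include hα hSt hu in
theorem commutator_eq_top : commutator G = ⊤ := by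
  classical
  have := Fintype.ofFinite G
  obtain ⟨P⟩ : Nonempty (Sylow p G) := inferInstance
  obtain ⟨hPc, -, -, -⟩ := sylow_data hα P
  haveI : IsCyclic (P : Subgroup G) := isCyclic_of_prime_card hPc
  have hnn := not_normal hα St hSt P
  set M := commutator G with hM
  have hχ := St.2
  have hoff : ∀ g : G, g ∉ M → (St : G → ℂ) g = 0 := by
    intro g hg
    have hg1 : (Abelianization.of g) ≠ 1 := fun h => hg ((QuotientGroup.eq_one_iff g).mp h)
    have : NeZero (Monoid.exponent (Abelianization G)) := ⟨Monoid.exponent_ne_zero_of_finite⟩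
    have : NeZero ((Monoid.exponent (Abelianization G) : ℕ) : ℂ) := ⟨Nat.cast_ne_zero.2 (NeZero.ne _)⟩
    obtain ⟨l, hl⟩ := CommGroup.exists_apply_ne_one_of_hasEnoughRootsOfUnity (Abelianization G) ℂ hg1
    let l' : G →* ℂ := ((Units.coeHom ℂ).comp l).comp Abelianization.of
    have he : (⟨_, Char.IsIrrCharacter.mul_linear hχ l'⟩ : IrrCharacter G) = St :=
      hu _ (by simp [hSt])
    have h2 : (St : G → ℂ) g * l' g = (St : G → ℂ) g := congrFun (congrArg Subtype.val he) g
    have h3 : l' g ≠ 1 := fun h => hl (Units.ext (by simpa [l'] using h))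
    have : (St : G → ℂ) g * (l' g - 1) = 0 := by linear_combination h2
    exact (mul_eq_zero.mp this).resolve_right (sub_ne_zero.mpr h3)
  have hMne : M ≠ ⊥ := by
    intro h
    refine hnn ⟨fun n hn g => ?_⟩
    have h1 : ⁅g, n⁆ ∈ M := Subgroup.commutator_mem_commutator (Subgroup.mem_top g) (Subgroup.mem_top n)
    rw [h, Subgroup.mem_bot, commutatorElement_eq_one_iff_mul_comm] at h1
    rw [h1, mul_inv_cancel_right]
    exact hn
  have hPM := sylow_le_normal hα M hMne P
  -- norm of the restriction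
  have hnorm : classInner (fun m : M => (St : G → ℂ) m) (fun m : M => (St : G → ℂ) m) = (M.index : ℂ) := by
    have h1 : ∑ m : M, (St : G → ℂ) m * conj ((St : G → ℂ) m) =
        ∑ g : G, (St : G → ℂ) g * conj ((St : G → ℂ) g) := by
      rw [← Finset.sum_subtype (s := Finset.univ.filter (· ∈ M)) (p := (· ∈ M)) (by simp)
        (fun g => (St : G → ℂ) g * conj ((St : G → ℂ) g))]
      refine Finset.sum_subset (Finset.subset_univ _) fun g _ hg => ?_
      rw [hoff g (by simpa using hg), zero_mul]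
    have h2 := Char.classInner_irr_self hχ
    rw [classInner] at h2 ⊢
    rw [h1]
    have hcard : (Nat.card G : ℂ) = (M.index : ℂ) * Nat.card M := by
      rw [← Nat.cast_mul, M.index_mul_card]
    have hc0 : (Nat.card M : ℂ) ≠ 0 := Nat.cast_ne_zero.2 Nat.card_pos.ne'
    have hi0 : (M.index : ℂ) ≠ 0 := Nat.cast_ne_zero.2 Subgroup.index_ne_zero_of_finite
    rw [hcard] at h2
    field_simp at h2 ⊢
    linear_combination h2
  by_cases hirr : IsIrrCharacter M (fun m : M => (St : G → ℂ) m)
  · rw [Char.classInner_irr_self hirr] at hnorm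
    exact Subgroup.index_eq_one.mp (by exact_mod_cast hnorm.symm)
  exfalso
  haveI : Fintype (IrrCharacter M) := Fintype.ofFinite _
  have hdec : ∀ θ : IrrCharacter M, ∃ n : ℕ,
      classInner (fun m : M => (St : G → ℂ) m) (θ : M → ℂ) = n := fun θ =>
    Char.IsCharacter.classInner_nat (Char.IsCharacter.restrict (Char.IsIrrCharacter.isCharacter hχ) M)
      (Char.IsIrrCharacter.isCharacter θ.2)
  choose c hc using hdec
  choose d hd0 hd using fun θ : IrrCharacter M => Char.IsIrrCharacter.exists_degree θ.2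
  have hcl : IsClassFunction M (fun m : M => (St : G → ℂ) m) :=
    Char.IsCharacter.isClassFunction (Char.IsCharacter.restrict (Char.IsIrrCharacter.isCharacter hχ) M)
  have hexp := Char.classFunction_eq_sum hcl
  have hdeg : ∑ θ, c θ * d θ = p := by
    have h1 := congrFun hexp 1
    simp only [Finset.sum_apply, Pi.smul_apply, smul_eq_mul, hc, hd, OneMemClass.coe_one, hSt] at h1
    exact_mod_cast h1.symm
  obtain ⟨θ₀, hθ₀⟩ : ∃ θ, c θ ≠ 0 := by
    by_contra hall
    push Not at hall
    simp [hall] at hdeg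
    exact hp.out.ne_zero hdeg.symm
  have hsame : ∀ θ, c θ ≠ 0 → d θ = d θ₀ := by
    intro θ hθ
    obtain ⟨x, hx⟩ := CliffordChar.constituents_conjugate M hχ θ₀.2 θ.2
      (by rw [hc]; exact_mod_cast hθ₀) (by rw [hc]; exact_mod_cast hθ)
    have h1 := congrFun hx 1
    simp only [CliffordChar.conjFun_apply] at h1
    have e : (⟨x⁻¹ * ((1 : M) : G) * x, by simp⟩ : M) = 1 := Subtype.ext (by simp)
    rw [e] at h1
    exact_mod_cast ((hd θ).symm.trans (h1.symm.trans (hd θ₀)))
  have hfac : (∑ θ, c θ) * d θ₀ = p := by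
    rw [← hdeg, Finset.sum_mul]
    refine Finset.sum_congr rfl fun θ _ => ?_
    rcases eq_or_ne (c θ) 0 with h | h
    · rw [h, zero_mul, zero_mul]
    · rw [hsame θ h]
  have hd1 : d θ₀ = 1 := by
    rcases (Nat.dvd_prime hp.out).mp (Dvd.intro_left _ hfac) with h | h
    · exact h
    exfalso
    have h1 : ∑ θ, c θ = 1 := by
      rw [h] at hfac
      exact Nat.eq_of_mul_eq_mul_right hp.out.pos (hfac.trans (one_mul p).symm)
    have hz : ∀ θ, θ ≠ θ₀ → c θ = 0 := by
      intro θ hne
      have := Finset.sum_le_sum_of_subset (f := c) (Finset.subset_univ ({θ₀, θ} : Finset (IrrCharacter M)))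
      rw [Finset.sum_pair hne.symm, h1] at this
      omega
    have hc1 : c θ₀ = 1 := by
      rw [Finset.sum_eq_single θ₀ (fun θ _ hne => hz θ hne) (by simp)] at h1
      exact h1
    refine hirr ?_
    rw [hexp, Finset.sum_eq_single θ₀ (fun θ _ hne => by rw [hc, hz θ hne]; simp) (by simp), hc, hc1]
    simpa using θ₀.2
  -- all constituents are linear, so `M'` is in the kernel
  have hlin : ∀ m ∈ ⁅M, M⁆, (St : G → ℂ) m = p := by
    intro m hm
    have hm' : m ∈ M := Subgroup.commutator_le_self M hm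
    have h1 := congrFun hexp ⟨m, hm'⟩
    simp only [Finset.sum_apply, Pi.smul_apply, smul_eq_mul, hc] at h1
    rw [h1]
    have h2 : ∀ θ : IrrCharacter M, (c θ : ℂ) * (θ : M → ℂ) ⟨m, hm'⟩ = (c θ : ℂ) := by
      intro θ
      rcases eq_or_ne (c θ) 0 with h | h
      · simp [h]
      obtain ⟨l, hl⟩ := Char.exists_hom_of_degree_one (Char.IsIrrCharacter.isCharacter θ.2)
        (by rw [hd, hsame θ h, hd1, Nat.cast_one])
      have hker : ⟨m, hm'⟩ ∈ (l.toHomUnits).ker := by
        refine (Abelianization.commutator_subset_ker l.toHomUnits) ?_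
        have : (⟨m, hm'⟩ : M) ∈ (commutator M) := by
          rw [← Subgroup.map_subtype_commutator] at hm
          obtain ⟨y, hy, rfl⟩ := Subgroup.mem_map.mp hm
          exact hy
        exact this
      have h3 : l ⟨m, hm'⟩ = 1 := by
        have := congrArg Units.val (MonoidHom.mem_ker.mp hker)
        simpa using this
      rw [← hl, h3, mul_one]
    rw [Finset.sum_congr rfl fun θ _ => h2 θ]
    rw [hd1, mul_one] at hfac
    exact_mod_cast hfac
  by_cases hMM : ⁅M, M⁆ = ⊥
  · -- `M` abelian: its Sylow subgroup is normal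
    refine hnn ⟨fun n hn g => ?_⟩
    obtain ⟨-, -, hC, -⟩ := sylow_data hα P
    have hMC : M ≤ (P : Subgroup G) := by
      rw [← hC]
      intro m hm
      rw [Subgroup.mem_centralizer_iff]
      intro y hy
      have := Subgroup.commutator_mem_commutator (hPM hy) hm
      rw [hMM, Subgroup.mem_bot, commutatorElement_eq_one_iff_mul_comm] at this
      exact this
    exact hMC ((inferInstance : M.Normal).conj_mem _ (hPM hn) g)
  · have hPle := sylow_le_normal hα ⁅M, M⁆ hMM P
    obtain ⟨x, hxP, hx1⟩ : ∃ x ∈ (P : Subgroup G), x ≠ 1 := by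
      by_contra hcon
      push Not at hcon
      have : (P : Subgroup G) = ⊥ := eq_bot_iff.mpr fun x hx => Subgroup.mem_bot.mpr (hcon x hx)
      rw [this, Subgroup.card_bot] at hPc
      exact hp.out.one_lt.ne hPc
    have hox : orderOf x = p := by
      have h1 : orderOf x ∣ p := hPc ▸ Subgroup.orderOf_dvd_natCard _ hxP
      exact ((Nat.dvd_prime hp.out).mp h1).resolve_left fun h => hx1 (orderOf_eq_one_iff.mp h)
    have h1 := hlin x (hPle hxP)
    rw [St_vanishes hα St hSt (hox ▸ dvd_rfl)] at h1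
    exact hp.out.ne_zero (by exact_mod_cast h1.symm)


include hα hSt hu in
theorem isSimpleGroup (P : Sylow p G) (E : Subgroup G)
    (hPE : (P : Subgroup G) ⊔ E = Subgroup.normalizer ((P : Subgroup G) : Set G))
    (hcomm : ∀ a ∈ E, ∀ b ∈ E, a * b = b * a) : IsSimpleGroup G := by
  have hG := commutator_eq_top hα St hSt hu
  haveI : Nontrivial G := by
    rw [← Finite.one_lt_card_iff_nontrivial]
    have := sq_add_one_le St hSt
    have := hp.out.two_le
    nlinarith
  refine ⟨fun N hN => ?_⟩
  by_contra hne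
  push Not at hne
  have hPN := sylow_le_normal hα N hne.1 P
  have htop : Subgroup.normalizer ((P : Subgroup G) : Set G) ⊔ N = ⊤ := Sylow.normalizer_sup_eq_top' P hPN
  rw [← hPE, sup_comm, ← sup_assoc, sup_eq_left.mpr hPN] at htop
  refine hne.2 (eq_top_iff.mpr (hG ▸ ?_))
  rw [commutator_def, Subgroup.commutator_le]
  intro x _ y _
  have hx : x ∈ N ⊔ E := htop ▸ Subgroup.mem_top x
  have hy : y ∈ N ⊔ E := htop ▸ Subgroup.mem_top y
  obtain ⟨n, hn, a, ha, rfl⟩ := Subgroup.mem_sup_of_normal_left.mp hx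
  obtain ⟨m, hm, b, hb, rfl⟩ := Subgroup.mem_sup_of_normal_left.mp hy
  rw [← QuotientGroup.eq_one_iff, ← QuotientGroup.mk'_apply, map_commutatorElement,
    commutatorElement_eq_one_iff_mul_comm]
  have en : QuotientGroup.mk' N n = 1 := (QuotientGroup.eq_one_iff n).mpr hn
  have em : QuotientGroup.mk' N m = 1 := (QuotientGroup.eq_one_iff m).mpr hm
  simp only [map_mul, en, em, one_mul]
  rw [← map_mul, hcomm a ha b hb, map_mul]

variable (P : Sylow p G) (E : Subgroup G)
  (hPE : (P : Subgroup G) ⊔ E = Subgroup.normalizer ((P : Subgroup G) : Set G))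
  (hPE' : (P : Subgroup G) ⊓ E = ⊥)

include hα in
theorem exists_generator : ∃ x : G, orderOf x = p ∧ (P : Subgroup G) = Subgroup.zpowers x := by
  obtain ⟨hPc, -, -, -⟩ := sylow_data hα P
  haveI : IsCyclic (P : Subgroup G) := isCyclic_of_prime_card hPc
  obtain ⟨x₀, hgen⟩ := IsCyclic.exists_generator (α := (P : Subgroup G))
  have hPx : (P : Subgroup G) = Subgroup.zpowers (x₀ : G) := by
    refine le_antisymm (fun y hy => ?_) (Subgroup.zpowers_le.mpr x₀.2)
    obtain ⟨n, hn⟩ := Subgroup.mem_zpowers_iff.mp (hgen ⟨y, hy⟩)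
    exact ⟨n, congrArg Subtype.val hn⟩
  exact ⟨x₀, by rw [← Nat.card_zpowers, ← hPx, hPc], hPx⟩

include hPE in
theorem E_le_normalizer : E ≤ Subgroup.normalizer ((P : Subgroup G) : Set G) := hPE ▸ le_sup_right

include hα hPE hPE' in
/-- The multiplier of `E` on `P = ⟨x⟩`. -/
theorem exists_mult {x : G} (hx : orderOf x = p) (hPx : (P : Subgroup G) = Subgroup.zpowers x) :
    ∃ (m : E →* (ZMod p)ˣ), Function.Injective m ∧
      ∀ r : E, (r : G) * x * (r : G)⁻¹ = x ^ ((m r : ZMod p).val) := by
  have hxP : x ∈ (P : Subgroup G) := hPx ▸ Subgroup.mem_zpowers x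
  have hex : ∀ r : E, ∃ n : ℕ, (r : G) * x * (r : G)⁻¹ = x ^ n := by
    intro r
    have h : (r : G) * x * (r : G)⁻¹ ∈ (P : Subgroup G) :=
      (Subgroup.mem_normalizer_iff.mp (E_le_normalizer P E hPE r.2) x).mp hxP
    rw [hPx] at h
    obtain ⟨n, hn⟩ := (isOfFinOrder_of_finite x).mem_powers_iff_mem_zpowers.mpr h
    exact ⟨n, hn.symm⟩
  choose n hn using hex
  have hinj : ∀ a b : ℕ, x ^ a = x ^ b ↔ (a : ZMod p) = b := fun a b => by
    rw [pow_eq_pow_iff_modEq, hx, ZMod.natCast_eq_natCast_iff]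
  have hconj : ∀ (r : E) (k : ℕ), (r : G) * x ^ k * (r : G)⁻¹ = x ^ (n r * k) := fun r k => by
    rw [← conj_pow, hn r, ← pow_mul]
  let f : E →* ZMod p :=
    { toFun := fun r => (n r : ZMod p)
      map_one' := by
        rw [← Nat.cast_one, ← hinj, pow_one, ← hn 1]; simp
      map_mul' := fun r s => by
        rw [← Nat.cast_mul, ← hinj, ← hconj r (n s), ← hn (r * s), ← hn s]
        push_cast
        group }
  refine ⟨f.toHomUnits, ?_, fun r => ?_⟩
  · rw [← MonoidHom.ker_eq_bot_iff, eq_bot_iff]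
    intro r hr
    have h1 : (n r : ZMod p) = 1 := by
      have := congrArg Units.val (MonoidHom.mem_ker.mp hr)
      simpa [f] using this
    have h2 : (r : G) * x * (r : G)⁻¹ = x := by
      rw [hn r]
      nth_rewrite 2 [← pow_one x]
      rw [hinj, h1, Nat.cast_one]
    have h3 : (r : G) ∈ Subgroup.centralizer ((P : Subgroup G) : Set G) := by
      rw [Subgroup.mem_centralizer_iff]
      intro y hy
      rw [hPx] at hy
      obtain ⟨k, rfl⟩ := hy
      exact ((Commute.zpow_right (show Commute (r : G) x from mul_inv_eq_iff_eq_mul.mp h2) k).eq).symm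
    obtain ⟨-, -, hC, -⟩ := sylow_data hα P
    rw [hC] at h3
    have : (r : G) ∈ (P : Subgroup G) ⊓ E := ⟨h3, r.2⟩
    rw [hPE', Subgroup.mem_bot] at this
    exact Subgroup.mem_bot.mpr (Subtype.ext this)
  · rw [hn r, hinj]
    simp [f]

include hα hPE hPE' in
theorem isCyclic_E : IsCyclic E := by
  obtain ⟨x, hx, hPx⟩ := exists_generator hα P
  obtain ⟨m, hm, -⟩ := exists_mult hα P E hPE hPE' hx hPx
  exact isCyclic_of_injective m hm

include hα hPE hPE' in
theorem card_E_dvd : Nat.card E ∣ p - 1 := by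
  obtain ⟨x, hx, hPx⟩ := exists_generator hα P
  obtain ⟨m, hm, -⟩ := exists_mult hα P E hPE hPE' hx hPx
  have h := Subgroup.card_dvd_of_injective m hm
  rwa [Nat.card_eq_fintype_card (α := (ZMod p)ˣ), ZMod.card_units] at h

include hα hPE hPE' in
theorem E_comm : ∀ a ∈ E, ∀ b ∈ E, a * b = b * a := by
  haveI := isCyclic_E hα P E hPE hPE'
  letI := IsCyclic.commGroup (α := E)
  exact fun a ha b hb => congrArg Subtype.val (mul_comm (⟨a, ha⟩ : E) ⟨b, hb⟩)

include hα hPE hPE' in
theorem exists_fixed {x : G} (hx : orderOf x = p) (hPx : (P : Subgroup G) = Subgroup.zpowers x)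
    (hE : E ≠ ⊥) :
    ∃ a : α, (∀ r ∈ E, r • a = a) ∧ (∀ r ∈ E, ∀ b : α, r ≠ 1 → r • b = b → b = a) ∧
      Function.Bijective (fun i : ZMod p => x ^ i.val • a) := by
  classical
  obtain ⟨hPc, hPt, -, -⟩ := sylow_data hα P
  obtain ⟨m, hminj, hm⟩ := exists_mult hα P E hPE hPE' hx hPx
  haveI := isCyclic_E hα P E hPE hPE'
  obtain ⟨r₀, hr₀⟩ := IsCyclic.exists_generator (α := E)
  have hr01 : r₀ ≠ 1 := by
    intro h
    refine hE (eq_bot_iff.mpr fun y hy => ?_)
    obtain ⟨k, hk⟩ := Subgroup.mem_zpowers_iff.mp (hr₀ ⟨y, hy⟩)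
    rw [h, one_zpow] at hk
    exact Subgroup.mem_bot.mpr (congrArg Subtype.val hk).symm
  obtain ⟨a0⟩ : Nonempty α := Fintype.card_pos_iff.mp (hα ▸ hp.out.pos)
  have hpw : ∀ a b : ℕ, (a : ZMod p) = b → x ^ a = x ^ b := fun a b h => by
    rw [pow_eq_pow_iff_modEq, hx, ← ZMod.natCast_eq_natCast_iff]; exact h
  have hbij : ∀ a : α, Function.Bijective (fun i : ZMod p => x ^ i.val • a) := by
    intro a
    rw [Fintype.bijective_iff_surjective_and_card]
    refine ⟨fun b => ?_, by rw [ZMod.card, hα]⟩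
    obtain ⟨⟨y, hy⟩, hyb⟩ := exists_smul_eq (P : Subgroup G) a b
    rw [hPx] at hy
    obtain ⟨k, rfl⟩ := (isOfFinOrder_of_finite x).mem_powers_iff_mem_zpowers.mpr hy
    refine ⟨(k : ZMod p), ?_⟩
    show x ^ (k : ZMod p).val • a = b
    rw [hpw _ k (by rw [ZMod.natCast_val, ZMod.cast_id])]
    exact hyb
  have hmove : ∀ (r : E) (i : ZMod p) (a : α),
      (r : G) • (x ^ i.val • a) = x ^ ((m r : ZMod p) * i).val • ((r : G) • a) := by
    intro r i a
    rw [← mul_smul, ← mul_smul]
    congr 1
    have := hm r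
    have e : x ^ ((m r : ZMod p) * i).val = (x ^ (m r : ZMod p).val) ^ i.val := by
      rw [← pow_mul]
      exact hpw _ _ (by simp [ZMod.natCast_val, ZMod.cast_id])
    rw [e, ← this, conj_pow]
    group
  obtain ⟨b, hb⟩ := (hbij a0).2 ((r₀ : G) • a0)
  have hne1 : (1 : ZMod p) - (m r₀ : ZMod p) ≠ 0 := by
    rw [sub_ne_zero]
    exact fun h => hr01 (hminj (by rw [map_one]; exact (Units.ext h).symm))
  set i := b / (1 - (m r₀ : ZMod p)) with hi
  set a := x ^ i.val • a0 with ha
  have hfix : (r₀ : G) • a = a := by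
    simp only at hb
    rw [ha, hmove, ← hb, ← mul_smul, ← pow_add]
    congr 1
    refine hpw _ _ ?_
    push_cast
    simp only [ZMod.natCast_val, ZMod.cast_id, id]
    rw [hi]
    field_simp
    ring
  have hfixall : ∀ r ∈ E, r • a = a := by
    intro r hr
    obtain ⟨k, hk⟩ := Subgroup.mem_zpowers_iff.mp (hr₀ ⟨r, hr⟩)
    have h1 : r = (r₀ : G) ^ k := (congrArg Subtype.val hk).symm
    rw [h1]
    exact (MulAction.mem_stabilizer_iff.mp ((Subgroup.zpow_mem _ (MulAction.mem_stabilizer_iff.mpr hfix) k)))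
  refine ⟨a, hfixall, fun r hr c hr1 hc => ?_, hbij a⟩
  obtain ⟨j, rfl⟩ := (hbij a).2 c
  simp only at hc ⊢
  have h1 := hmove ⟨r, hr⟩ j a
  simp only [hfixall r hr] at h1
  rw [hc] at h1
  have h2 := (hbij a).1 h1.symm
  rcases eq_or_ne j 0 with h | h
  · rw [h, ZMod.val_zero, pow_zero, one_smul]
  · exfalso
    apply hr1
    have h3 : (m ⟨r, hr⟩ : ZMod p) = 1 := by
      have := mul_right_cancel₀ h (h2.trans (one_mul j).symm)
      exact this
    have h4 : (⟨r, hr⟩ : E) = 1 := hminj (by rw [map_one]; exact Units.ext h3)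
    exact congrArg Subtype.val h4

end Cfsg.Agent.PrimeDegreeTI
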