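/-
The exceptional character of degree `p + 1` (namespace `Cfsg.Agent.PrimeDegreeTI`).

* `exists_coeffs` : integral coefficients of the exceptional functions, with their norm and degree relations
* `steinberg_restrict` : the character of degree `p` restricted to `E` is `t` regular characters plus the trivial one
* `exists_D` : the character of degree `p + 1`
-/
import Cfsg.Agent.Lib.PrimeDegreeTI.Setup
import Cfsg.Agent.Lib.PrimeDegreeTI.Exceptional
import Cfsg.Agent.Lib.Char.Virtual
import Mathlib.Algebra.CharP.Two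

set_option autoImplicit false
set_option linter.unusedSectionVars false
set_option linter.style.haveILetI false

open scoped ComplexConjugate

namespace Cfsg.Agent.PrimeDegreeTI

open Cfsg Cfsg.Agent MulAction

universe u v

variable {G : Type u} [Group G] [Fintype G]

/-- The trivial character. -/
noncomputable def trivChar (G : Type u) [Group G] : IrrCharacter G :=
  ⟨fun g => (1 : G →* ℂ) g, Char.isIrrCharacter_of_hom 1⟩

theorem trivChar_apply (g : G) : (trivChar G : G → ℂ) g = 1 := rfl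

variable (E : Subgroup G) [Fintype E]
  (hNE : Nat.card (Subgroup.normalizer (E : Set G)) = 2 * Nat.card E)
  (hTI : ∀ g : G, g ∉ Subgroup.normalizer (E : Set G) → E ⊓ E.map (MulAut.conj g).toMonoidHom = ⊥)
  {w : G} (hw : w ∈ Subgroup.normalizer (E : Set G)) (hwE : w ∉ E)
  (hinv : ∀ r ∈ E, w * r * w⁻¹ = r⁻¹) (hcomm : ∀ a ∈ E, ∀ b ∈ E, a * b = b * a)

include hNE hTI hw hwE hinv hcomm in
theorem exists_coeffs [Fintype (IrrCharacter G)] (μ : E →* ℂ) (hμ : μ ≠ 1) :
    ∃ c : IrrCharacter G → ℤ, (∀ χ : IrrCharacter G, classInner (F E μ) (χ : G → ℂ) = c χ) ∧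
      c (trivChar G) = 1 ∧ ∑ χ, c χ ^ 2 = (if μ * μ = 1 then 4 else 3) ∧
      (∀ g, F E μ g = ∑ χ, (c χ : ℂ) * (χ : G → ℂ) g) := by
  classical
  have hnat : ∀ (χ : IrrCharacter G) (ν : E →* ℂ), ∃ n : ℕ,
      classInner (fun r : E => (χ : G → ℂ) r) (ν : E → ℂ) = n := fun χ ν =>
    Char.IsCharacter.classInner_nat (Char.IsCharacter.restrict (Char.IsIrrCharacter.isCharacter χ.2) E)
      (Char.IsIrrCharacter.isCharacter (Char.isIrrCharacter_of_hom ν))
  choose n hn using hnat
  refine ⟨fun χ => (n χ 1 : ℤ) - (n χ μ : ℤ), fun χ => ?_, ?_, ?_, ?_⟩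
  · rw [F_inner E μ χ.2, hn χ μ]
    rw [show (fun r : E => (1 : E →* ℂ) r) = ((1 : E →* ℂ) : E → ℂ) from rfl, hn χ 1]
    push_cast
    simp
  · have h1 : ∀ ν : E →* ℂ, (n (trivChar G) ν : ℂ) = if ν = 1 then 1 else 0 := by
      intro ν
      rw [← hn, show (fun r : E => (trivChar G : G → ℂ) r) = ((1 : E →* ℂ) : E → ℂ) from rfl,
        Char.classInner_irr (Char.isIrrCharacter_of_hom _) (Char.isIrrCharacter_of_hom _)]
      by_cases h : ν = 1
      · subst h; simp
      · rw [if_neg h, if_neg fun hh => h (DFunLike.coe_injective hh.symm)]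
    have e1 := h1 1
    have e2 := h1 μ
    rw [if_pos rfl] at e1
    rw [if_neg hμ] at e2
    have e1' : n (trivChar G) 1 = 1 := by exact_mod_cast e1
    have e2' : n (trivChar G) μ = 0 := by exact_mod_cast e2
    simp [e1', e2']
  · have hc : ∀ χ : IrrCharacter G, classInner (F E μ) (χ : G → ℂ) = ((n χ 1 : ℤ) - (n χ μ : ℤ) : ℤ) := fun χ => by
      rw [F_inner E μ χ.2, hn χ μ]
      rw [show (fun r : E => (1 : E →* ℂ) r) = ((1 : E →* ℂ) : E → ℂ) from rfl, hn χ 1]
      push_cast
      simp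
    have h := F_norm E hNE hTI hw hwE hinv hcomm μ hμ
    rw [Char.classInner_eq_sum (F_isClassFunction E μ)] at h
    simp only [hc, Complex.conj_ofReal, map_intCast] at h
    have : ((∑ χ : IrrCharacter G, ((n χ 1 : ℤ) - (n χ μ : ℤ)) ^ 2 : ℤ) : ℂ) =
        (((if μ * μ = 1 then 4 else 3 : ℤ)) : ℂ) := by
      rw [apply_ite (Int.cast (R := ℂ))]
      push_cast at h ⊢
      rw [← h]
      exact Finset.sum_congr rfl fun χ _ => by ring
    exact_mod_cast this
  · intro g
    conv_lhs => rw [Char.classFunction_eq_sum (F_isClassFunction E μ)]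
    simp only [Finset.sum_apply, Pi.smul_apply, smul_eq_mul]
    refine Finset.sum_congr rfl fun χ _ => ?_
    rw [F_inner E μ χ.2, hn χ μ]
    rw [show (fun r : E => (1 : E →* ℂ) r) = ((1 : E →* ℂ) : E → ℂ) from rfl, hn χ 1]
    push_cast
    simp

variable {α : Type v} [Fintype α] {p : ℕ} [hp : Fact p.Prime] [MulAction G α] [FaithfulSMul G α]
  [IsPretransitive G α] (hα : Fintype.card α = p)
  (St : IrrCharacter G) (hSt : (St : G → ℂ) 1 = p)
  (hu : ∀ χ : IrrCharacter G, (χ : G → ℂ) 1 = p → χ = St)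
  (hG : commutator G = ⊤) {r₀ : E} (hgen : ∀ r : E, r ∈ Subgroup.zpowers r₀)
  (φ : E →* ℂ) (hφ : IsPrimitiveRoot (φ r₀) (Nat.card E))
  (he : 3 ≤ Nat.card E) {t : ℕ} (hpt : p = t * Nat.card E + 1)
  (hfix : ∀ r : E, r ≠ 1 → Nat.card (fixedBy α (r : G)) = 1)

include hφ in
theorem phi_pow_ne_one {i : ℕ} (hi : i ≠ 0) (hi' : i < Nat.card E) : (φ ^ i : E →* ℂ) ≠ 1 := fun h =>
  hφ.pow_ne_one_of_pos_of_lt hi hi' (by simpa using congrArg (fun f : E →* ℂ => f r₀) h)

include hα hφ hG hgen hpt hfix in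
theorem t_even {h : ℕ} (hh : Nat.card E = 2 * h) : Even t := by
  classical
  set e := Nat.card E with hedef
  have he0 : (e : ℂ) ≠ 0 := Nat.cast_ne_zero.2 Nat.card_pos.ne'
  obtain ⟨m, hm, -, hdvd, -⟩ := exists_mult_data E hG hgen φ hφ (Char.isCharacter_fixedPoints (G := G) α)
  have hmi : ∀ i, i ≠ 0 → i < e → m i = t := by
    intro i hi hi'
    have h1 := hm i hi'
    rw [classInner] at h1
    have hsum : ∑ r : E, (Nat.card (fixedBy α (r : G)) : ℂ) * conj ((φ ^ i : E →* ℂ) r) = (p : ℂ) - 1 := by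
      have h2 : ∀ r : E, (Nat.card (fixedBy α (r : G)) : ℂ) * conj ((φ ^ i : E →* ℂ) r) =
          conj ((φ ^ i : E →* ℂ) r) + (if r = 1 then (p : ℂ) - 1 else 0) := by
        intro r
        by_cases hr : r = 1
        · subst hr
          rw [if_pos rfl, map_one, map_one, mul_one, add_sub_cancel, OneMemClass.coe_one]
          have : fixedBy α (1 : G) = Set.univ := Set.eq_univ_of_forall fun a => one_smul G a
          rw [this, Nat.card_coe_set_eq, Set.ncard_univ, Nat.card_eq_fintype_card, hα]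
        · rw [if_neg hr, hfix r hr]; simp
      rw [Finset.sum_congr rfl fun r _ => h2 r, Finset.sum_add_distrib, ← map_sum, sum_hom,
        if_neg (phi_pow_ne_one E φ hφ hi hi'), map_zero, zero_add, Finset.sum_ite_eq',
        if_pos (Finset.mem_univ _)]
    rw [hsum, hpt] at h1
    push_cast at h1
    rw [add_sub_cancel_right, mul_comm (t : ℂ), inv_mul_cancel_left₀ he0] at h1
    exact_mod_cast h1.symm
  have h2 : ∑ i ∈ Finset.range e, i * m i = (∑ i ∈ Finset.range e, i) * t := by
    rw [Finset.sum_mul]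
    refine Finset.sum_congr rfl fun i hi => ?_
    rcases eq_or_ne i 0 with h0 | h0
    · simp [h0]
    · rw [hmi i h0 (Finset.mem_range.mp hi)]
  rw [h2] at hdvd
  have h3 : (∑ i ∈ Finset.range e, i) = h * (e - 1) := by
    have := Finset.sum_range_id_mul_two e
    rw [hh] at this ⊢
    have h4 : (∑ i ∈ Finset.range (2 * h), i) * 2 = h * (2 * h - 1) * 2 := by rw [this]; ring
    exact Nat.eq_of_mul_eq_mul_right two_pos h4
  have hdvd' : h * 2 ∣ h * ((2 * h - 1) * t) := by
    rw [mul_comm h 2, ← hh, ← mul_assoc, ← h3]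
    exact hdvd
  have h5 := Nat.dvd_of_mul_dvd_mul_left (by have := Nat.card_pos (α := E); omega) hdvd'
  rcases Nat.prime_two.dvd_mul.mp h5 with h6 | h6
  · have := Nat.card_pos (α := E); omega
  · exact even_iff_two_dvd.mpr h6

theorem two_dvd_sum_of_reflect {e : ℕ} (m : ℕ → ℕ) (hodd : ¬ 2 ∣ e) (hsym : ∀ i, i ≠ 0 → i < e → m i = m (e - i)) :
    2 ∣ ∑ i ∈ (Finset.range e).erase 0, m i := by
  classical
  rw [← ZMod.natCast_eq_zero_iff]
  rw [Nat.cast_sum]
  refine Finset.sum_involution (fun i _ => e - i) ?_ ?_ ?_ ?_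
  · intro i hi
    simp only [Finset.mem_erase, Finset.mem_range] at hi
    rw [← hsym i hi.1 hi.2]
    exact CharTwo.add_self_eq_zero _
  · intro i hi _
    simp only [Finset.mem_erase, Finset.mem_range] at hi
    omega
  · intro i hi
    simp only [Finset.mem_erase, Finset.mem_range] at hi ⊢
    omega
  · intro i hi
    simp only [Finset.mem_erase, Finset.mem_range] at hi
    omega

include hNE hTI hw hwE hinv hcomm hα hSt hu hG hgen hφ he hpt hfix in
theorem steinberg_restrict :
    (∀ i, i ≠ 0 → i < Nat.card E → classInner (F E (φ ^ i)) (St : G → ℂ) = 1) ∧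
      (∀ r : E, r ≠ 1 → (St : G → ℂ) r = 1) := by
  classical
  haveI : Fintype (IrrCharacter G) := Fintype.ofFinite _
  set e := Nat.card E with hedef
  obtain ⟨m, hm, hsum, hdvd, hval⟩ := exists_mult_data E hG hgen φ hφ (Char.IsIrrCharacter.isCharacter St.2)
  have hreal : ∀ g, conj ((St : G → ℂ) g) = (St : G → ℂ) g := fun g =>
    congrFun (congrArg Subtype.val (hu ⟨_, Char.IsIrrCharacter.conj St.2⟩ (by simp [hSt]))) g
  have hsym : ∀ i, i ≠ 0 → i < e → m i = m (e - i) := by
    intro i hi hi'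
    have h1 := hm i hi'
    have h2 := hm (e - i) (by omega)
    have hc : ∀ r : E, conj ((φ ^ i : E →* ℂ) r) = (φ ^ (e - i) : E →* ℂ) r := by
      intro r
      rw [conj_hom]
      simp only [MonoidHom.pow_apply]
      have hr : φ r ^ e = 1 := by rw [← map_pow, hedef, pow_card_eq_one', map_one]
      have hne : φ r ^ i ≠ 0 := by
        intro h0
        have := congrArg (· * φ r ^ (e - i)) h0
        simp only [zero_mul, ← pow_add, Nat.add_sub_cancel' hi'.le, hr] at this
        exact one_ne_zero this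
      refine mul_left_cancel₀ hne ?_
      rw [← pow_add, Nat.add_sub_cancel' hi'.le, hr, ← mul_pow, ← map_mul, mul_inv_cancel, map_one, one_pow]
    have h3 : classInner (fun r : E => (St : G → ℂ) r) ((φ ^ (e - i) : E →* ℂ) : E → ℂ) =
        conj (classInner (fun r : E => (St : G → ℂ) r) ((φ ^ i : E →* ℂ) : E → ℂ)) := by
      simp only [classInner, map_mul, map_inv₀, Complex.conj_natCast, map_sum, hreal, hc]
    rw [h1, h2, Complex.conj_natCast] at h3
    exact_mod_cast h3.symm
  have hc1 : ∀ i, i ≠ 0 → i < e → classInner (F E (φ ^ i)) (St : G → ℂ) = ((m 0 : ℤ) - m i : ℤ) := by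
    intro i hi hi'
    have h0 := hm 0 (by omega)
    rw [pow_zero] at h0
    rw [F_inner E _ St.2, hm i hi',
      show (fun r : E => (1 : E →* ℂ) r) = ((1 : E →* ℂ) : E → ℂ) from rfl, h0]
    push_cast
    simp
  have hbound : ∀ i, i ≠ 0 → i < e → ((m 0 : ℤ) - m i) ≤ 1 ∧ -1 ≤ ((m 0 : ℤ) - m i) := by
    intro i hi hi'
    obtain ⟨c, hc, hc0, hnorm, -⟩ := exists_coeffs E hNE hTI hw hwE hinv hcomm (φ ^ i)
      (phi_pow_ne_one E φ hφ hi hi')
    have hne : trivChar G ≠ St := by
      intro h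
      have : ((1 : ℕ) : ℂ) = p := by rw [Nat.cast_one, ← hSt, ← h, trivChar_apply]
      exact hp.out.one_lt.ne (by exact_mod_cast this)
    have hle := Finset.sum_le_sum_of_subset_of_nonneg (f := fun χ => c χ ^ 2)
      (Finset.subset_univ ({trivChar G, St} : Finset (IrrCharacter G))) (fun χ _ _ => sq_nonneg (c χ))
    rw [Finset.sum_pair hne, hnorm, hc0] at hle
    have hcs : c St = (m 0 : ℤ) - m i := by
      have := (hc St).symm.trans (hc1 i hi hi')
      exact_mod_cast this
    rw [hcs] at hle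
    have h4 : ((m 0 : ℤ) - m i) ^ 2 ≤ 3 := by
      split_ifs at hle <;> linarith
    constructor <;> nlinarith
  -- the total
  have hsumN : ∑ i ∈ Finset.range e, m i = p := by
    have : ((∑ i ∈ Finset.range e, m i : ℕ) : ℂ) = (p : ℂ) := by push_cast; rw [hsum, hSt]
    exact_mod_cast this
  have hsplit : m 0 + ∑ i ∈ (Finset.range e).erase 0, m i = p := by
    rw [← hsumN]
    exact Finset.add_sum_erase _ _ (Finset.mem_range.mpr (by omega))
  have hcard : ((Finset.range e).erase 0).card = e - 1 := by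
    rw [Finset.card_erase_of_mem (Finset.mem_range.mpr (by omega)), Finset.card_range]
  have hSS : ∑ i ∈ (Finset.range e).erase 0, ((m 0 : ℤ) - m i) = (e : ℤ) * m 0 - p := by
    rw [Finset.sum_sub_distrib, Finset.sum_const, hcard, nsmul_eq_mul, ← Nat.cast_sum]
    have := congrArg (Nat.cast (R := ℤ)) hsplit
    rw [Nat.cast_add] at this
    rw [show ((e - 1 : ℕ) : ℤ) = (e : ℤ) - 1 by omega]
    linarith
  have hup : ∑ i ∈ (Finset.range e).erase 0, ((m 0 : ℤ) - m i) ≤ (e : ℤ) - 1 := by
    refine (Finset.sum_le_card_nsmul _ _ 1 fun i hi => ?_).trans (by rw [hcard]; simp; omega)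
    simp only [Finset.mem_erase, Finset.mem_range] at hi
    exact (hbound i hi.1 hi.2).1
  have hlo : -((e : ℤ) - 1) ≤ ∑ i ∈ (Finset.range e).erase 0, ((m 0 : ℤ) - m i) := by
    refine le_trans ?_ (Finset.card_nsmul_le_sum _ _ (-1) fun i hi => ?_)
    · rw [hcard]; simp; omega
    simp only [Finset.mem_erase, Finset.mem_range] at hi
    exact (hbound i hi.1 hi.2).2
  rw [hSS] at hup hlo
  have hptZ : (p : ℤ) = t * e + 1 := by exact_mod_cast hpt
  -- the multiplicity of the trivial character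
  have hm0 : m 0 = t + 1 := by
    have h1 : (e : ℤ) * ((m 0 : ℤ) - t) ≤ (e : ℤ) * 1 := by linarith
    have h2 : (e : ℤ) * (-1) < (e : ℤ) * ((m 0 : ℤ) - t) := by linarith
    have h1' := le_of_mul_le_mul_left h1 (by omega : (0 : ℤ) < e)
    have h2' := lt_of_mul_lt_mul_left h2 (by omega : (0 : ℤ) ≤ e)
    by_contra hne
    have h0 : m 0 = t := by omega
    rw [h0] at hsplit
    by_cases hodd : 2 ∣ e
    · obtain ⟨h, hh⟩ := hodd
      have hteven := t_even E hα hG hgen φ hφ hpt hfix hh
      -- the determinant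
      have hA : ∑ i ∈ (Finset.range e).erase 0, (e - i) * m i = ∑ i ∈ (Finset.range e).erase 0, i * m i := by
        refine Finset.sum_nbij' (fun i => e - i) (fun i => e - i) ?_ ?_ ?_ ?_ ?_ <;>
          intro i hi <;> simp only [Finset.mem_coe, Finset.mem_erase, Finset.mem_range] at hi ⊢
        · omega
        · omega
        · omega
        · omega
        · rw [← hsym i hi.1 hi.2]
      have hB : ∑ i ∈ (Finset.range e).erase 0, i * m i + ∑ i ∈ (Finset.range e).erase 0, (e - i) * m i =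
          e * ∑ i ∈ (Finset.range e).erase 0, m i := by
        rw [← Finset.sum_add_distrib, Finset.mul_sum]
        refine Finset.sum_congr rfl fun i hi => ?_
        simp only [Finset.mem_erase, Finset.mem_range] at hi
        rw [← add_mul, Nat.add_sub_cancel' hi.2.le]
      rw [hA] at hB
      rw [← Finset.add_sum_erase _ _ (Finset.mem_range.mpr (by omega : 0 < e)), zero_mul, zero_add] at hdvd
      obtain ⟨d, hd⟩ := hdvd
      rw [hd, ← two_mul, ← mul_assoc, mul_comm 2 e, mul_assoc] at hB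
      have h7 : 2 * d = ∑ i ∈ (Finset.range e).erase 0, m i :=
        Nat.eq_of_mul_eq_mul_left (by omega) hB
      rw [← h7] at hsplit
      obtain ⟨t', ht'⟩ := hteven
      rw [hpt, hh, ht', show (t' + t') * (2 * h) = 4 * (t' * h) by ring] at hsplit
      omega
    · obtain ⟨d, hd⟩ := two_dvd_sum_of_reflect m hodd hsym
      rw [hd] at hsplit
      obtain ⟨e', he'⟩ : ∃ e', e = 2 * e' + 1 := ⟨e / 2, by omega⟩
      rw [hpt, he', show t * (2 * e' + 1) = 2 * (t * e') + t by ring] at hsplit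
      omega
  have hall : ∀ i, i ≠ 0 → i < e → m i = t := by
    intro i hi hi'
    have hsum2 : ∑ j ∈ (Finset.range e).erase 0, (1 - ((m 0 : ℤ) - m j)) = 0 := by
      rw [Finset.sum_sub_distrib, hSS, Finset.sum_const, hcard, hm0, nsmul_eq_mul, mul_one,
        show ((e - 1 : ℕ) : ℤ) = (e : ℤ) - 1 by omega]
      push_cast
      linarith
    have := (Finset.sum_eq_zero_iff_of_nonneg (fun j hj => ?_)).mp hsum2 i
      (Finset.mem_erase.mpr ⟨hi, Finset.mem_range.mpr hi'⟩)
    · omega
    · simp only [Finset.mem_erase, Finset.mem_range] at hj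
      have := (hbound j hj.1 hj.2).1
      omega
  refine ⟨fun i hi hi' => ?_, fun r hr => ?_⟩
  · rw [hc1 i hi hi', hm0, hall i hi hi']; push_cast; ring
  · obtain ⟨k, rfl⟩ := (isOfFinOrder_of_finite r₀).mem_powers_iff_mem_zpowers.mpr (hgen r)
    have hne : φ r₀ ^ k ≠ 1 := fun h => hr (by
      rw [← orderOf_dvd_iff_pow_eq_one, orderOf_eq_card_of_forall_mem_zpowers hgen]
      exact (hφ.pow_eq_one_iff_dvd k).mp h)
    have hgeom : ∑ i ∈ Finset.range e, (φ (r₀ ^ k)) ^ i = 0 := by
      rw [map_pow, geom_sum_eq hne, ← pow_mul, mul_comm k e, pow_mul, hφ.pow_eq_one, one_pow, sub_self, zero_div]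
    rw [hval (r₀ ^ k)]
    have : ∀ i ∈ Finset.range e, (m i : ℂ) * φ (r₀ ^ k) ^ i =
        (t : ℂ) * φ (r₀ ^ k) ^ i + if i = 0 then 1 else 0 := by
      intro i hi
      rcases eq_or_ne i 0 with h0 | h0
      · subst h0; rw [hm0]; simp
      · rw [hall i h0 (Finset.mem_range.mp hi), if_neg h0, add_zero]
    rw [Finset.sum_congr rfl this, Finset.sum_add_distrib, ← Finset.mul_sum, hgeom, mul_zero, zero_add,
      Finset.sum_ite_eq', if_pos (Finset.mem_range.mpr (by omega))]

include hNE hTI hw hwE hinv hcomm hα hSt hu hG hgen hφ he hpt hfix in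
/-- The character of degree `p + 1`. -/
theorem exists_D : ∃ D : IrrCharacter G, (D : G → ℂ) 1 = p + 1 ∧
    (∀ g, conj ((D : G → ℂ) g) = (D : G → ℂ) g) ∧
    (∀ r : E, r ≠ 1 → (D : G → ℂ) r = φ r + conj (φ r)) ∧
    (∀ g : G, orderOf g = p → (D : G → ℂ) g = 1) ∧
    classInner (D : G → ℂ) (fun g => (Nat.card (fixedBy α g) : ℂ)) = 0 := by
  classical
  haveI : Fintype (IrrCharacter G) := Fintype.ofFinite _
  obtain ⟨hn, hStval⟩ := steinberg_restrict E hNE hTI hw hwE hinv hcomm hα St hSt hu hG hgen φ hφ he hpt hfix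
  have hφ1 : φ ≠ 1 := by simpa using phi_pow_ne_one E φ hφ one_ne_zero (by omega)
  have hφ2 : φ * φ ≠ 1 := by simpa [pow_two] using phi_pow_ne_one E φ hφ two_ne_zero (by omega)
  obtain ⟨c, hc, hc0, hnorm, hexp⟩ := exists_coeffs E hNE hTI hw hwE hinv hcomm φ hφ1
  rw [if_neg hφ2] at hnorm
  have hne : trivChar G ≠ St := by
    intro h
    have : ((1 : ℕ) : ℂ) = p := by rw [Nat.cast_one, ← hSt, ← h, trivChar_apply]
    exact hp.out.one_lt.ne (by exact_mod_cast this)
  have hcS : c St = 1 := by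
    have h1 := hn 1 one_ne_zero (by omega)
    rw [pow_one, hc] at h1
    exact_mod_cast h1
  set A : Finset (IrrCharacter G) := {trivChar G, St} with hA
  have hrest : ∑ χ ∈ Aᶜ, c χ ^ 2 = 1 := by
    rw [← Finset.sum_add_sum_compl A, hA, Finset.sum_pair hne, hc0, hcS] at hnorm
    rw [hA]; linarith
  obtain ⟨D, hDA, hDne⟩ : ∃ D ∈ Aᶜ, c D ≠ 0 := by
    by_contra hcon
    push Not at hcon
    rw [Finset.sum_eq_zero fun χ hχ => by rw [hcon χ hχ]; ring] at hrest
    exact zero_ne_one hrest
  have hz : ∀ χ ∈ Aᶜ, χ ≠ D → c χ = 0 := by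
    intro χ hχ hne'
    have hle := Finset.sum_le_sum_of_subset_of_nonneg (f := fun χ => c χ ^ 2)
      (show ({χ, D} : Finset (IrrCharacter G)) ⊆ Aᶜ from Finset.insert_subset hχ (Finset.singleton_subset_iff.mpr hDA))
      (fun ψ _ _ => sq_nonneg (c ψ))
    rw [Finset.sum_pair hne', hrest] at hle
    by_contra h
    have h1 : 0 < c χ ^ 2 := by positivity
    have h2 : 0 < c D ^ 2 := by positivity
    omega
  have hF : ∀ g, F E φ g = 1 + (St : G → ℂ) g + (c D : ℂ) * (D : G → ℂ) g := by
    intro g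
    rw [hexp g, ← Finset.sum_add_sum_compl A, hA, Finset.sum_pair hne, hc0, hcS, trivChar_apply]
    rw [Finset.sum_eq_single_of_mem D (hA ▸ hDA) (fun χ hχ h => by rw [hz χ (hA ▸ hχ) h]; simp)]
    simp
  obtain ⟨d, hd0, hd⟩ := Char.IsIrrCharacter.exists_degree D.2
  have h1 := hF 1
  rw [F_one, hSt, hd] at h1
  have hDsq : c D ^ 2 = 1 := by
    rw [Finset.sum_eq_single_of_mem D hDA (fun χ hχ h => by rw [hz χ hχ h]; ring)] at hrest
    exact hrest
  have hDm : c D = -1 ∧ d = p + 1 := by
    have h2 : (0 : ℤ) = 1 + p + c D * d := by exact_mod_cast h1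
    rcases sq_eq_one_iff.mp hDsq with h | h <;> rw [h] at h2 <;> constructor <;> omega
  have hDval : ∀ g, (D : G → ℂ) g = 1 + (St : G → ℂ) g - F E φ g := fun g => by
    rw [hF g, hDm.1]; push_cast; ring
  have hreal : ∀ g, conj ((St : G → ℂ) g) = (St : G → ℂ) g := fun g =>
    congrFun (congrArg Subtype.val (hu ⟨_, Char.IsIrrCharacter.conj St.2⟩ (by simp [hSt]))) g
  refine ⟨D, by rw [hd, hDm.2]; push_cast; ring, fun g => ?_, fun r hr => ?_, fun g hg => ?_, ?_⟩
  · rw [hDval, map_sub, map_add, map_one, hreal, F_real E hNE hTI hw hwE hinv hcomm]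
  · rw [hDval, hStval r hr, F_mem E hNE hTI hw hwE hinv hcomm φ r hr]; ring
  · rw [hDval, St_vanishes hα St hSt (by rw [hg]), F_off E φ ?_]
    · ring
    · intro x hx
      have h3 : orderOf (x⁻¹ * g * x) = p := by
        rw [← hg]
        exact orderOf_injective (MulAut.conj x⁻¹).toMonoidHom (MulEquiv.injective _) g |>.symm.trans
          (by simp) |>.symm
      have h4 := Subgroup.orderOf_dvd_natCard E hx
      rw [h3, hpt] at h4
      have := Nat.le_of_dvd (by omega) h4
      have ht0 : t ≠ 0 := fun h => hp.out.ne_one (by rw [hpt, h]; simp)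
      nlinarith [Nat.pos_of_ne_zero ht0]
  · have hπ := Char.isCharacter_fixedPoints (G := G) α
    have hcl := Char.IsCharacter.isClassFunction hπ
    have hdec := fun χ : IrrCharacter G => Char.IsCharacter.classInner_nat hπ (Char.IsIrrCharacter.isCharacter χ.2)
    choose k hk using hdec
    choose dd hdd0 hdd using fun χ : IrrCharacter G => Char.IsIrrCharacter.exists_degree χ.2
    have h2 := congrFun (Char.classFunction_eq_sum hcl) 1
    simp only [Finset.sum_apply, Pi.smul_apply, smul_eq_mul, hk, hdd] at h2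
    have h3 : Nat.card (fixedBy α (1 : G)) = p := by
      have : fixedBy α (1 : G) = Set.univ := Set.eq_univ_of_forall fun a => one_smul G a
      rw [this, Nat.card_coe_set_eq, Set.ncard_univ, Nat.card_eq_fintype_card, hα]
    rw [h3] at h2
    have h4 : p = ∑ χ, k χ * dd χ := by exact_mod_cast h2
    have h5 := Finset.single_le_sum (f := fun χ => k χ * dd χ) (fun χ _ => Nat.zero_le _) (Finset.mem_univ D)
    have hDd : dd D = p + 1 := by
      have := (hdd D).symm.trans hd
      rw [← hDm.2]; exact_mod_cast this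
    rw [← h4, hDd] at h5
    have hk0 : k D = 0 := by
      by_contra h
      have := Nat.le_mul_of_pos_left (p + 1) (Nat.pos_of_ne_zero h)
      omega
    rw [← Char.classInner_conj_symm, hk D, hk0]
    simp

end Cfsg.Agent.PrimeDegreeTI
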