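/-
Simple subgroups of `PSL₂` in the defining characteristic with a subgroup of index `p`
(namespace `Cfsg.Agent.PrimeDegreeTI`).

* `identify` : they are `PSL(2, p)` with `p ∈ {5, 7, 11}`
-/
import Cfsg.Agent.Lib.PSL2.Soluble
import Cfsg.Agent.Lib.PSL2.Facts
import Cfsg.Agent.Lib.GLOrder.Basic
import Cfsg.Agent.S0806
import Mathlib.GroupTheory.Nilpotent

set_option autoImplicit false
set_option linter.unusedSectionVars false

namespace Cfsg.Agent.PrimeDegreeTI

open Cfsg Cfsg.Agent Cfsg.Agent.PSL2

universe u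

theorem not_solvable_of_perfect {H : Type*} [Group H] [Nontrivial H] (hH : commutator H = ⊤) :
    ¬ Group.IsSolvable H := fun hs => by
  have := Group.IsSolvable.commutator_lt_top_of_nontrivial H
  rw [hH] at this
  exact lt_irrefl _ this

theorem index_toPGL_range {R : Type*} [Field R] [Finite R] (hR : Odd (Nat.card R)) :
    (Matrix.SpecialLinearGroup.toPGL (n := Fin 2) (R := R)).range.index = 2 := by
  haveI : Fintype R := Fintype.ofFinite R
  haveI : Finite (Matrix.ProjGenLinGroup (Fin 2) R) := Finite.of_surjective _ Matrix.ProjGenLinGroup.mk_surjective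
  have h1 := (Matrix.SpecialLinearGroup.toPGL (n := Fin 2) (R := R)).range.card_mul_index
  have h2 := (Matrix.SpecialLinearGroup.toPGL (n := Fin 2) (R := R)).ker.card_mul_index
  rw [Subgroup.index_ker, Matrix.SpecialLinearGroup.toPGL_ker, GLOrder.card_center_SL, Fintype.card_fin] at h2
  have h3 : Nat.gcd 2 (Nat.card R - 1) = 2 := Nat.gcd_eq_left (by obtain ⟨c, hc⟩ := hR; omega)
  rw [h3, ← GLOrder.card_PGL (ι := Fin 2) (F := R), mul_comm] at h2
  rw [← h2] at h1
  exact Nat.eq_of_mul_eq_mul_left Nat.card_pos h1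

theorem identify {G : Type u} [Group G] [Finite G] [IsSimpleGroup G] (hG : commutator G = ⊤) {p : ℕ}
    [hp : Fact p.Prime] (hp5 : 5 ≤ p) (hdvd : p ∣ Nat.card G) (hsq : ¬ p ^ 2 ∣ Nat.card G)
    (hind : ∃ H : Subgroup G, H.index = p) {F : Type} [Field F] [Fintype F] [CharP F p]
    (ψ : G →* Matrix.ProjectiveSpecialLinearGroup (Fin 2) F) (hψ : Function.Injective ψ) :
    (p = 5 ∨ p = 7 ∨ p = 11) ∧ ∃ (F : Type) (_ : Field F) (_ : Fintype F),
      Fintype.card F = p ∧ Nonempty (G ≃* Matrix.ProjectiveSpecialLinearGroup (Fin 2) F) := by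
  classical
  haveI : Nontrivial G := IsSimpleGroup.toNontrivial
  have hns : ¬ Group.IsSolvable G := not_solvable_of_perfect hG
  let e : G ≃* ψ.range := MonoidHom.ofInjective hψ
  have hsolv : Group.IsSolvable ψ.range → False := fun h => by
    haveI := h
    exact hns (Group.isSolvable_of_isSolvable_injective (f := e.toMonoidHom) e.injective)
  have hcard : Nat.card ψ.range = Nat.card G := (Nat.card_congr e.toEquiv).symm
  rcases psl_dickson p ψ.range with ⟨-, S, hS⟩ | ⟨-, hc, -⟩ | ⟨n, -, -, -, -, -, ⟨hd⟩⟩ | ⟨hpd, h⟩ |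
    ⟨h3, -⟩ | ⟨R, m, -, -, h⟩
  · -- inside a Sylow normalizer
    exfalso
    obtain ⟨Q⟩ : Nonempty (Sylow p ψ.range) := inferInstance
    have hQne : (Q : Subgroup ψ.range) ≠ ⊥ := Q.ne_bot_of_dvd_card (hcard ▸ hdvd)
    have hle : (Q : Subgroup ψ.range).map ψ.range.subtype ≤ (S : Subgroup (PSL2 F)) := by
      have hN : (Q : Subgroup ψ.range).map ψ.range.subtype ≤
          Subgroup.normalizer ((S : Subgroup (PSL2 F)) : Set (PSL2 F)) := (Subgroup.map_subtype_le _).trans hS
      have hsup := (Q.2.map ψ.range.subtype).to_sup_of_normal_right' S.2 hN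
      exact le_sup_left.trans (S.is_maximal' hsup le_sup_right).le
    let K := (S : Subgroup (PSL2 F)).subgroupOf ψ.range
    have hKn : K.Normal := by
      refine ⟨fun k hk g => ?_⟩
      rw [Subgroup.mem_subgroupOf] at hk ⊢
      exact (Subgroup.mem_normalizer_iff.mp (hS g.2) _).mp hk
    have hQK : (Q : Subgroup ψ.range) ≤ K := fun y hy =>
      Subgroup.mem_subgroupOf.mpr (hle ⟨y, hy, rfl⟩)
    have hKtop : K = ⊤ := by
      haveI : IsSimpleGroup ψ.range :=
        haveI : Nontrivial ψ.range := e.injective.nontrivial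
        IsSimpleGroup.isSimpleGroup_of_surjective e.toMonoidHom e.surjective
      rcases IsSimpleGroup.eq_bot_or_eq_top_of_normal K hKn with h | h
      · exact absurd (le_bot_iff.mp (h ▸ hQK)) hQne
      · exact h
    have hpg : IsPGroup p ψ.range := by
      have := S.2.comap_subtype (K := ψ.range)
      rw [show (S : Subgroup (PSL2 F)).comap ψ.range.subtype = ⊤ from hKtop] at this
      exact this.of_equiv Subgroup.topEquiv
    haveI := hpg.isNilpotent
    exact hsolv inferInstance
  · exfalso
    letI := IsCyclic.commGroup (α := ψ.range)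
    exact hsolv (Group.isSolvable_of_comm fun a b => mul_comm a b)
  · exfalso
    haveI := isSolvable_dihedral n
    exact hsolv (Group.isSolvable_of_isSolvable_injective (f := hd.toMonoidHom) hd.injective)
  · exfalso
    rcases h with ⟨⟨f⟩⟩ | ⟨⟨f⟩⟩ | ⟨⟨f⟩⟩
    · haveI := isSolvable_of_card_two_three (G := alternatingGroup (Fin 4))
        (by rw [card_alt_four]; decide)
      exact hsolv (Group.isSolvable_of_isSolvable_injective (f := f.toMonoidHom) f.injective)
    · haveI := isSolvable_of_card_two_three (G := Equiv.Perm (Fin 4))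
        (by rw [card_perm_four]; decide)
      exact hsolv (Group.isSolvable_of_isSolvable_injective (f := f.toMonoidHom) f.injective)
    · exact hpd (hcard ▸ hdvd)
  · omega
  · obtain ⟨l, hl, hcl, -⟩ := PSL2.q_cases (F := R) p
    haveI : Fintype R := Fintype.ofFinite R
    have hodd : Odd (Nat.card R) := hcl ▸ (hp.out.odd_of_ne_two (by omega)).pow
    rcases h with ⟨⟨f⟩⟩ | ⟨-, -, ⟨f⟩⟩
    swap
    · exfalso
      let f' := e.trans f
      haveI : IsSimpleGroup (PGL2 R) :=
        haveI : Nontrivial (PGL2 R) := f'.injective.nontrivial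
        IsSimpleGroup.isSimpleGroup_of_surjective f'.toMonoidHom f'.surjective
      have h2 := index_toPGL_range (R := R) hodd
      have hn : ((Matrix.SpecialLinearGroup.toPGL (n := Fin 2) (R := R)).range).Normal :=
        Subgroup.normal_of_index_eq_two h2
      have hGcard : Nat.card G = Nat.card (PGL2 R) := Nat.card_congr f'.toEquiv
      rcases IsSimpleGroup.eq_bot_or_eq_top_of_normal _ hn with h0 | h0
      · rw [h0, Subgroup.index_bot] at h2
        rw [hGcard, h2] at hdvd
        have := Nat.le_of_dvd two_pos hdvd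
        omega
      · rw [h0, Subgroup.index_top] at h2
        exact absurd h2 (by norm_num)
    let f' : G ≃* PSL2 R := e.trans f
    have hmul := card_psl_mul (F := R)
    rw [← Nat.card_congr f'.toEquiv, hcl] at hmul
    have hl1 : l = 1 := by
      by_contra hne
      apply hsq
      have h1 : p ^ 2 ∣ Nat.gcd 2 (p ^ l - 1) * Nat.card G := hmul ▸ (pow_dvd_pow p (by omega : 2 ≤ l)).mul_right _
      refine Nat.Coprime.dvd_of_dvd_mul_left ?_ h1
      refine Nat.Coprime.coprime_dvd_right (Nat.gcd_dvd_left 2 _) (Nat.Coprime.pow_left 2 ?_)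
      exact (Nat.coprime_primes hp.out Nat.prime_two).mpr (by omega)
    have hRp : Fintype.card R = p := by rw [← Nat.card_eq_fintype_card, hcl, hl1, pow_one]
    refine ⟨?_, R, inferInstance, inferInstance, hRp, ⟨f'⟩⟩
    obtain ⟨H, hH⟩ := hind
    by_contra hcon
    push Not at hcon
    have hq : p ∉ ({2, 3, 5, 7, 9, 11} : Finset ℕ) := by
      have h9 : p ≠ 9 := fun h => by rw [h] at hp; exact absurd hp.out (by norm_num)
      simp only [Finset.mem_insert, Finset.mem_singleton, not_or]
      exact ⟨by omega, by omega, hcon.1, hcon.2.1, h9, hcon.2.2⟩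
    have hne : H.map f'.toMonoidHom ≠ ⊤ := fun h => by
      have := Subgroup.index_map_equiv H f'
      rw [show H.map (f' : G →* PSL2 R) = ⊤ from h, Subgroup.index_top, hH] at this
      exact hp.out.one_lt.ne this
    have h1 := (S0806.result hRp hq).1 _ hne
    rw [show (H.map f'.toMonoidHom).index = p from (Subgroup.index_map_equiv H f').trans hH] at h1
    omega

end Cfsg.Agent.PrimeDegreeTI
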