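/-
Reduction of matrices over a subring of `ℂ` (namespace `Cfsg.Agent.PrimeDegreeTI`).

* `eigOp`, `eigOp_idem` : the idempotent of a linear character of a finite subgroup of order prime to the
  characteristic, with `rep_eigOp`, `eigOp_fixed`
* `natCast_finrank_range_eigOp` : the rank of its reduction, from character values
* `exists_lift_root` : lifting primitive roots of unity
-/
import Cfsg.Agent.Lib.CyclicDefect.Lattice
import Cfsg.Agent.Lib.ModRep.Basic
import Cfsg.Agent.Lib.Char.Eigen
import Cfsg.Agent.Lib.Blocks.Local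
import Mathlib.LinearAlgebra.Trace
import Mathlib.RingTheory.RootsOfUnity.PrimitiveRoots

set_option autoImplicit false
set_option linter.unusedSectionVars false

open scoped ComplexConjugate

namespace Cfsg.Agent.PrimeDegreeTI

open Cfsg Cfsg.Agent

universe u

section ring

variable {k : Type*} [CommRing k] {G : Type u} [Group G] {n : ℕ}

/-- The averaging operator of a linear character of a subgroup. -/
noncomputable def eigOp (σ : Representation k G (Fin n → k)) (H : Subgroup G) [Fintype H] (ν : H →* k) (u : k) :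
    Module.End k (Fin n → k) := u • ∑ y : H, ν y⁻¹ • σ (y : G)

variable (σ : Representation k G (Fin n → k)) (H : Subgroup G) [Fintype H] (ν : H →* k) (u : k)

theorem rep_eigOp (y : H) : σ (y : G) * eigOp σ H ν u = ν y • eigOp σ H ν u := by
  have hν : ν y * ν y⁻¹ = 1 := by rw [← map_mul, mul_inv_cancel, map_one]
  have key : σ (y : G) * ∑ z : H, ν z⁻¹ • σ (z : G) = ν y • ∑ z : H, ν z⁻¹ • σ (z : G) := by
    rw [Finset.mul_sum, Finset.smul_sum]
    refine Fintype.sum_equiv (Equiv.mulLeft y) _ _ fun z => ?_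
    rw [Equiv.coe_mulLeft, mul_smul_comm, ← map_mul, Subgroup.coe_mul, smul_smul]
    congr 1
    rw [mul_inv_rev, map_mul, mul_comm (ν z⁻¹), ← mul_assoc, hν, one_mul]
  rw [eigOp, mul_smul_comm, key, smul_comm]

variable (hu : u * (Nat.card H : k) = 1)

include hu in
theorem eigOp_fixed {v : Fin n → k} (h : ∀ y : H, σ (y : G) v = ν y • v) : eigOp σ H ν u v = v := by
  simp only [eigOp, LinearMap.smul_apply, LinearMap.sum_apply, h, smul_smul, ← map_mul, inv_mul_cancel,
    map_one, one_smul, Finset.sum_const, Finset.card_univ, ← Nat.card_eq_fintype_card,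
    ← Nat.cast_smul_eq_nsmul k, hu]

theorem rep_eigOp_apply (y : H) (v : Fin n → k) :
    σ (y : G) (eigOp σ H ν u v) = ν y • eigOp σ H ν u v :=
  LinearMap.congr_fun (rep_eigOp σ H ν u y) v

include hu in
theorem eigOp_idem : IsIdempotentElem (eigOp σ H ν u) :=
  LinearMap.ext fun v => eigOp_fixed σ H ν u hu fun y => rep_eigOp_apply σ H ν u y v

include hu in
theorem mem_range_eigOp {v : Fin n → k} :
    v ∈ LinearMap.range (eigOp σ H ν u) ↔ ∀ y : H, σ (y : G) v = ν y • v := by
  constructor
  · rintro ⟨w, rfl⟩ y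
    exact rep_eigOp_apply σ H ν u y w
  · exact fun h => ⟨v, eigOp_fixed σ H ν u hu h⟩

theorem eigOp_comm {f : Module.End k (Fin n → k)} (hf : ∀ y : H, σ (y : G) * f = f * σ (y : G)) :
    eigOp σ H ν u * f = f * eigOp σ H ν u := by
  simp only [eigOp, smul_mul_assoc, mul_smul_comm, Finset.sum_mul, Finset.mul_sum, hf]

end ring

section reduce

variable {R : Subring ℂ} {k : Type*} [Field k] (π : R →+* k) {G : Type u} [Group G] {n : ℕ}
  (ρ : G →* Matrix (Fin n) (Fin n) R)

/-- The reduced representation. -/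
noncomputable def redRep : Representation k G (Fin n → k) :=
  (Matrix.toLinAlgEquiv'.toAlgHom.toRingHom.toMonoidHom).comp ((π.mapMatrix).toMonoidHom.comp ρ)

theorem redRep_apply (g : G) : redRep π ρ g = Matrix.toLin' ((ρ g).map π) := rfl

theorem trace_redRep (g : G) : LinearMap.trace k _ (redRep π ρ g) = π (ρ g).trace := by
  rw [redRep_apply, Matrix.trace_toLin'_eq, Matrix.trace, Matrix.trace, map_sum]
  rfl

/-- The complex representation. -/
noncomputable def cxRep : Representation ℂ G (Fin n → ℂ) := redRep R.subtype ρ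

theorem cxRep_character (g : G) : (cxRep ρ).character g = ((ρ g).trace : ℂ) := trace_redRep R.subtype ρ g

variable (H : Subgroup G) [Fintype H] (ν : H →* R)

theorem sum_trace (u : R) :
    π (u * ∑ y : H, ν y⁻¹ * (ρ (y : G)).trace) =
      LinearMap.trace k _ (eigOp (redRep π ρ) H ((π : R →* k).comp ν) (π u)) := by
  simp only [eigOp, map_smul, map_sum, smul_eq_mul, map_mul, trace_redRep, MonoidHom.comp_apply]
  rfl

/-- The rank of the reduced idempotent is congruent to the multiplicity in characteristic zero. -/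
theorem natCast_finrank_range_eigOp (u : R) (hu : u * (Nat.card H : R) = 1) (m : ℕ)
    (hm : u * ∑ y : H, ν y⁻¹ * (ρ (y : G)).trace = (m : R)) :
    (Module.finrank k (LinearMap.range (eigOp (redRep π ρ) H ((π : R →* k).comp ν) (π u))) : k) = m := by
  have hid := eigOp_idem (redRep π ρ) H ((π : R →* k).comp ν) (π u) (by rw [← map_natCast π, ← map_mul, hu, map_one])
  have h := ((LinearMap.isProj_range_iff_isIdempotentElem _).mpr hid).trace
  rw [← sum_trace π ρ H ν u, hm, map_natCast] at h
  exact h.symm

theorem mapMatrix_eigOp (u : R) :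
    Matrix.toLinAlgEquiv' (π.mapMatrix (u • ∑ y : H, ν y⁻¹ • ρ (y : G))) =
      eigOp (redRep π ρ) H ((π : R →* k).comp ν) (π u) := by
  have hs : ∀ (c : R) (A : Matrix (Fin n) (Fin n) R), π.mapMatrix (c • A) = π c • π.mapMatrix A := by
    intro c A; ext a b; simp
  simp only [eigOp, hs, map_sum, map_smul]
  rfl

/-- No invariant vectors in characteristic zero means none after reduction. -/
theorem eq_zero_of_sum_trace_zero (u : R) (hu : u * (Nat.card H : R) = 1)
    (hm : u * ∑ y : H, ν y⁻¹ * (ρ (y : G)).trace = 0) {v : Fin n → k}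
    (hv : ∀ y : H, redRep π ρ (y : G) v = π (ν y) • v) : v = 0 := by
  set Q : Matrix (Fin n) (Fin n) R := u • ∑ y : H, ν y⁻¹ • ρ (y : G) with hQ
  have hQT := mapMatrix_eigOp (k := ℂ) R.subtype ρ H ν u
  have h0 : Q = 0 := by
    have hid := eigOp_idem (cxRep ρ) H ((R.subtype : R →* ℂ).comp ν) (R.subtype u)
      (by rw [← map_natCast R.subtype, ← map_mul, hu, map_one])
    have h := ((LinearMap.isProj_range_iff_isIdempotentElem _).mpr hid).trace
    rw [cxRep, ← sum_trace R.subtype ρ H ν u, hm, map_zero] at h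
    have h' : LinearMap.range (eigOp (redRep R.subtype ρ) H ((R.subtype : R →* ℂ).comp ν) (R.subtype u)) = ⊥ :=
      Submodule.finrank_eq_zero.mp (by exact_mod_cast h.symm)
    have h2 := (LinearMap.range_eq_bot.mp h').symm.trans hQT.symm
    have h3 : R.subtype.mapMatrix Q = 0 :=
      Matrix.toLinAlgEquiv'.injective (h2.symm.trans (map_zero _).symm)
    exact (Matrix.map_injective Subtype.val_injective) (h3.trans (map_zero R.subtype.mapMatrix).symm)
  have h1 : eigOp (redRep π ρ) H ((π : R →* k).comp ν) (π u) = 0 := by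
    have := congrArg (fun A => Matrix.toLinAlgEquiv' (π.mapMatrix A)) h0
    simp only [map_zero] at this
    rw [hQ, mapMatrix_eigOp] at this
    exact this
  have := eigOp_fixed (redRep π ρ) H ((π : R →* k).comp ν) (π u)
    (by rw [← map_natCast π, ← map_mul, hu, map_one]) hv
  rw [h1] at this
  exact this.symm

end reduce

section roots

variable {p : ℕ} {M : Ideal AlgInt}

/-- Primitive roots of unity of order prime to `p` in the residue field lift. -/
theorem exists_lift_root (hM : IsPModular p M) {e : ℕ} (he : ¬ p ∣ e) (he0 : e ≠ 0) (a : BrauerPairs.Res M)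
    (ha : IsPrimitiveRoot a e) :
    ∃ z : Blocks.locRing hM, IsPrimitiveRoot (z : ℂ) e ∧ CyclicDefect.resR hM z = a := by
  letI := ModRep.resField hM
  haveI : CharP (BrauerPairs.Res M) p := BrauerPairs.res_charP hM
  haveI : NeZero e := ⟨he0⟩
  have hw := Complex.isPrimitiveRoot_exp e he0
  set w := Complex.exp (2 * Real.pi * Complex.I / e)
  have hwR : MemLocalRing M w :=
    Blocks.memR_of_isIntegral hM (hw.isIntegral (Nat.pos_of_ne_zero he0))
  let z : Blocks.locRing hM := ⟨w, hwR⟩
  have hz1 : z ^ e = 1 := Subtype.ext (by simpa using hw.pow_eq_one)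
  have hprim : IsPrimitiveRoot (CyclicDefect.resR hM z) e := by
    refine IsPrimitiveRoot.mk_of_lt _ (Nat.pos_of_ne_zero he0) (by rw [← map_pow, hz1, map_one]) ?_
    intro j hj hje h1
    have hgs : ∑ i ∈ Finset.range e, (z ^ j) ^ i = 0 := by
      apply Subtype.ext
      push_cast
      rw [geom_sum_eq (hw.pow_ne_one_of_pos_of_lt hj.ne' hje), ← pow_mul, mul_comm, pow_mul, hw.pow_eq_one,
        one_pow, sub_self, zero_div]
    have := congrArg (CyclicDefect.resR hM) hgs
    simp only [map_sum, map_pow, h1, one_pow, Finset.sum_const, Finset.card_range, nsmul_eq_mul, mul_one,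
      map_zero] at this
    exact he ((CharP.cast_eq_zero_iff (BrauerPairs.Res M) p e).mp this)
  obtain ⟨i, hie, hi⟩ := hprim.eq_pow_of_pow_eq_one ha.pow_eq_one
  refine ⟨z ^ i, ?_, by rw [map_pow, hi]⟩
  rw [IsPrimitiveRoot.iff_def]
  refine ⟨by push_cast; rw [← pow_mul, mul_comm, pow_mul, hw.pow_eq_one, one_pow], fun l hl => ?_⟩
  refine ha.dvd_of_pow_eq_one l ?_
  have h2 : (z ^ i) ^ l = 1 := Subtype.ext (by simpa using hl)
  rw [← hi, ← map_pow, ← map_pow, h2, map_one]

end roots

end Cfsg.Agent.PrimeDegreeTI
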