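/-
The twisted power sum `X = ∑ b⁻¹ y ^ b` of an element of order dividing `p` in characteristic `p`
(namespace `Cfsg.Agent.PrimeDegreeTI`).

* `xop`, `exists_xop_unit`, `xop_pow_pred` : `X ^ (p - 1) = ∑ y ^ i`
* `conj_xop` : a conjugation `y ↦ y ^ a` multiplies `X` by `a`
-/
import Cfsg.Agent.Lib.CyclicDefect.Lattice
import Mathlib.FieldTheory.Finite.Basic

set_option autoImplicit false
set_option linter.unusedSectionVars false

namespace Cfsg.Agent.PrimeDegreeTI

variable {p : ℕ} [hp : Fact p.Prime] {k : Type*} [Field k] [CharP k p] {A : Type*} [Ring A] [Algebra k A]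

/-- The twisted power sum. -/
noncomputable def xop (y : A) : A :=
  ∑ b : (ZMod p)ˣ, (ZMod.castHom (dvd_refl p) k ((b⁻¹ : (ZMod p)ˣ) : ZMod p)) • y ^ ((b : ZMod p).val)

theorem sum_units_inv (hp3 : 3 ≤ p) : ∑ b : (ZMod p)ˣ, ((b⁻¹ : (ZMod p)ˣ) : ZMod p) = 0 := by
  rw [show ∑ b : (ZMod p)ˣ, ((b⁻¹ : (ZMod p)ˣ) : ZMod p) = ∑ b : (ZMod p)ˣ, (b : ZMod p) from
    Fintype.sum_equiv (Equiv.inv _) _ _ fun b => rfl]
  have h := FiniteField.sum_pow_units (ZMod p) 1
  simp only [pow_one] at h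
  rw [h, if_neg]
  rw [ZMod.card, Nat.dvd_one]
  omega

theorem pow_cast_val {y : A} (hy : y ^ p = 1) (n : ℕ) : y ^ ((n : ZMod p).val) = y ^ n := by
  rw [ZMod.val_natCast]
  conv_rhs => rw [← Nat.mod_add_div n p, pow_add, pow_mul, hy, one_pow, mul_one]

theorem exists_xop_unit (hp3 : 3 ≤ p) {y : A} :
    ∃ R : A, Commute y R ∧ xop (k := k) (p := p) y = (y - 1) * (-1 + (y - 1) * R) := by
  let c : (ZMod p)ˣ → k := fun b => ZMod.castHom (dvd_refl p) k ((b⁻¹ : (ZMod p)ˣ) : ZMod p)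
  have hc0 : ∑ b, c b = 0 := by simp only [c, ← map_sum, sum_units_inv hp3, map_zero]
  let S : ℕ → A := fun n => ∑ i ∈ Finset.range n, ∑ l ∈ Finset.range i, y ^ l
  have hS : ∀ n : ℕ, y ^ n - 1 = (y - 1) * ((n : k) • (1 : A) + (y - 1) * S n) := by
    intro n
    rw [← mul_geom_sum]
    congr 1
    rw [show (∑ i ∈ Finset.range n, y ^ i) = ∑ i ∈ Finset.range n, (1 + (y - 1) * ∑ l ∈ Finset.range i, y ^ l) from
      Finset.sum_congr rfl fun i _ => by rw [mul_geom_sum]; abel]
    rw [Finset.sum_add_distrib, Finset.sum_const, Finset.card_range, Nat.cast_smul_eq_nsmul k, ← Finset.mul_sum]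
  refine ⟨∑ b, c b • S (b : ZMod p).val, ?_, ?_⟩
  · refine Commute.sum_right _ _ _ fun b _ => Commute.smul_right ?_ _
    exact Commute.sum_right _ _ _ fun i _ => Commute.sum_right _ _ _ fun l _ => (Commute.refl y).pow_right l
  · have h1 : xop (k := k) (p := p) y = ∑ b : (ZMod p)ˣ, c b • (y ^ (b : ZMod p).val - 1) := by
      simp only [smul_sub, Finset.sum_sub_distrib, ← Finset.sum_smul, hc0, zero_smul, sub_zero]
      rfl
    rw [h1]
    simp only [hS, ← mul_smul_comm, ← Finset.mul_sum, smul_add, Finset.sum_add_distrib, smul_smul]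
    congr 2
    rw [← Finset.sum_smul]
    have h2 : ∀ b : (ZMod p)ˣ, c b * (((b : ZMod p).val : ℕ) : k) = 1 := by
      intro b
      rw [← map_natCast (ZMod.castHom (dvd_refl p) k), ← map_mul, ZMod.natCast_val, ZMod.cast_id,
        ← Units.val_mul, inv_mul_cancel, Units.val_one, map_one]
    rw [Finset.sum_congr rfl fun b _ => h2 b, Finset.sum_const, Finset.card_univ, ZMod.card_units,
      nsmul_one, Nat.cast_sub hp.out.one_le, CharP.cast_eq_zero k p]
    simp

theorem xop_commute {y z : A} (h : Commute y z) : Commute (xop (k := k) (p := p) y) z :=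
  Commute.sum_left _ _ _ fun b _ => (h.pow_left _).smul_left _

/-- `X ^ (p - 1)` is the sum of the powers of `y`. -/
theorem xop_pow_pred (hp3 : 3 ≤ p) {y : A} (hy : y ^ p = 1) :
    (xop (k := k) (p := p) y) ^ (p - 1) = ∑ i ∈ Finset.range p, y ^ i := by
  obtain ⟨R, hR, hX⟩ := exists_xop_unit (k := k) (y := y) hp3
  set U := -1 + (y - 1) * R with hU
  set N := ∑ i ∈ Finset.range p, y ^ i with hN
  have hN1 : N * (y - 1) = 0 := by rw [hN, geom_sum_mul, hy, sub_self]
  have hNU : N * U = -N := by rw [hU, mul_add, ← mul_assoc, hN1, zero_mul, add_zero, mul_neg, mul_one]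
  have hcomm : Commute (y - 1) U :=
    (Commute.one_right _).neg_right.add_right
      ((Commute.refl _).mul_right ((hR.sub_left (Commute.one_left R))))
  rw [hX, hcomm.mul_pow, ← CyclicDefect.sum_pow_eq_sub_one_pow (F := k) p y]
  have h2 : ∀ n : ℕ, N * U ^ n = (-1 : A) ^ n * N := by
    intro n
    induction n with
    | zero => simp
    | succ n ih => rw [pow_succ, ← mul_assoc, ih, mul_assoc, hNU, pow_succ, mul_assoc, neg_one_mul]
  rw [← hN, h2]
  have : Even (p - 1) := by
    rcases hp.out.eq_two_or_odd' with h | ⟨m, hm⟩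
    · omega
    · exact ⟨m, by omega⟩
  rw [this.neg_one_pow, one_mul]

theorem xop_pow_self (hp3 : 3 ≤ p) {y : A} (hy : y ^ p = 1) : (xop (k := k) (p := p) y) ^ p = 0 := by
  obtain ⟨R, hR, hX⟩ := exists_xop_unit (k := k) (y := y) hp3
  conv_lhs => arg 2; rw [← Nat.sub_add_cancel hp.out.one_le]
  rw [pow_succ, xop_pow_pred hp3 hy, hX, ← mul_assoc, geom_sum_mul, hy,
    sub_self, zero_mul]

/-- The kernel of `X` is that of `y - 1`. -/
theorem isUnit_xop_factor (hp3 : 3 ≤ p) {y : A} (hy : y ^ p = 1) :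
    ∃ U : Aˣ, xop (k := k) (p := p) y = (y - 1) * U ∧ Commute (y - 1) U := by
  obtain ⟨R, hR, hX⟩ := exists_xop_unit (k := k) (y := y) hp3
  have hc : Commute (y - 1) R := hR.sub_left (Commute.one_left R)
  have hnil : IsNilpotent ((y - 1) * R) := by
    refine hc.isNilpotent_mul_right ⟨p, ?_⟩
    rw [← Nat.sub_add_cancel hp.out.one_le, pow_succ, ← CyclicDefect.sum_pow_eq_sub_one_pow (F := k) p y,
      geom_sum_mul, hy, sub_self]
  have hu : IsUnit (-1 + (y - 1) * R) :=
    IsNilpotent.isUnit_add_left_of_commute hnil isUnit_one.neg (Commute.one_right _).neg_right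
  refine ⟨hu.unit, hX, ?_⟩
  exact (Commute.one_right _).neg_right.add_right ((Commute.refl _).mul_right hc)

/-- A conjugation `y ↦ y ^ a` multiplies `X` by `a`. -/
theorem conj_xop {y z : A} (hy : y ^ p = 1) (a : (ZMod p)ˣ) (h : z * y = y ^ (a : ZMod p).val * z) :
    z * xop (k := k) (p := p) y = ZMod.castHom (dvd_refl p) k (a : ZMod p) • (xop (k := k) (p := p) y * z) := by
  have hpow : ∀ n : ℕ, z * y ^ n = y ^ (((a : ZMod p) * n).val) * z := by
    intro n
    have h1 : z * y ^ n = (y ^ (a : ZMod p).val) ^ n * z := ((show SemiconjBy z y (y ^ (a : ZMod p).val) from h).pow_right n).eq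
    rw [h1, ← pow_mul, ← pow_cast_val hy ((a : ZMod p).val * n), Nat.cast_mul, ZMod.natCast_val, ZMod.cast_id]
  simp only [xop, Finset.sum_mul, Finset.mul_sum, Finset.smul_sum, mul_smul_comm, smul_mul_assoc, smul_smul,
    hpow]
  refine Fintype.sum_equiv (Equiv.mulLeft a) _ _ fun b => ?_
  rw [← map_mul, ← Units.val_mul]
  congr 2
  · congr 1
    simp [mul_comm]
  · simp

end Cfsg.Agent.PrimeDegreeTI
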