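/-
Eigenvectors outside the image of the twisted power sum (namespace `Cfsg.Agent.PrimeDegreeTI`).

* `multK`, `rep_xop`, `eigOp_xop` : the twisted power sum shifts the `E`-eigenspaces by the multiplier
* `good_or_good` : a representation or its contragredient has a suitable eigenvector
-/
import Cfsg.Agent.Lib.PrimeDegreeTI.TwistSum
import Cfsg.Agent.Lib.PrimeDegreeTI.Reduce
import Mathlib.LinearAlgebra.Dual.Lemmas

set_option autoImplicit false
set_option linter.unusedSectionVars false

open Matrix Module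

namespace Cfsg.Agent.PrimeDegreeTI

universe u

variable {p : ℕ} [hp : Fact p.Prime] {k : Type*} [Field k] [CharP k p] {G : Type u} [Group G] {n : ℕ}

/-- A multiplier as a function to `k`. -/
noncomputable def multK {E : Type*} [Group E] (m : E →* (ZMod p)ˣ) : E →* k :=
  ((ZMod.castHom (dvd_refl p) k : ZMod p →* k)).comp ((Units.coeHom (ZMod p)).comp m)

theorem multK_apply {E : Type*} [Group E] (m : E →* (ZMod p)ˣ) (r : E) :
    multK (k := k) m r = ZMod.castHom (dvd_refl p) k (m r : ZMod p) := rfl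

theorem multK_mul {E : Type*} [Group E] (m m' : E →* (ZMod p)ˣ) :
    multK (k := k) (m * m') = multK m * multK m' := by
  refine MonoidHom.ext fun r => ?_
  simp only [MonoidHom.mul_apply, multK_apply, Units.val_mul, map_mul]

theorem multK_one {E : Type*} [Group E] : multK (k := k) (1 : E →* (ZMod p)ˣ) = 1 := by
  refine MonoidHom.ext fun r => ?_
  simp [multK_apply]

theorem rep_pow_eq_one' {V : Type*} [AddCommGroup V] [Module k V] (σ : Representation k G V) (x : G)
    (hxp : x ^ p = 1) : σ x ^ p = 1 := by rw [← map_pow, hxp, map_one]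

variable (σ : Representation k G (Fin n → k)) (x : G) (E : Subgroup G) [Fintype E] (m : E →* (ZMod p)ˣ)

theorem hom_mul_inv {E : Type*} [Group E] (m : E →* (ZMod p)ˣ) : m * m⁻¹ = 1 :=
  MonoidHom.ext fun r => by simp

theorem hom_mul_one {E : Type*} [Group E] (m : E →* (ZMod p)ˣ) : m * 1 = m :=
  MonoidHom.ext fun r => by simp

/-- A suitable eigenvector. -/
def Good : Prop :=
  ∃ v : Fin n → k, (∀ r : E, σ (r : G) v = multK (k := k) m r • v) ∧ (∑ i ∈ Finset.range p, σ (x ^ i)) v = 0 ∧
    v ∉ LinearMap.range (xop (k := k) (p := p) (σ x))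

variable (hxp : x ^ p = 1) (hconj : ∀ r : E, (r : G) * x * (r : G)⁻¹ = x ^ ((m r : ZMod p).val))

include hxp in
theorem rep_pow_eq_one : σ x ^ p = 1 := by rw [← map_pow, hxp, map_one]

include hxp hconj in
theorem rep_xop (r : E) :
    σ (r : G) * xop (k := k) (p := p) (σ x) = multK (k := k) m r • (xop (k := k) (p := p) (σ x) * σ (r : G)) := by
  refine conj_xop (rep_pow_eq_one σ x hxp) (m r) ?_
  rw [← map_pow, ← map_mul, ← map_mul, ← hconj r, inv_mul_cancel_right]

include hxp hconj in
theorem eigOp_xop (μ : E →* (ZMod p)ˣ) (u : k) :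
    eigOp σ E (multK (m * μ)) u * xop (k := k) (p := p) (σ x) =
      xop (k := k) (p := p) (σ x) * eigOp σ E (multK μ) u := by
  simp only [eigOp, smul_mul_assoc, mul_smul_comm, Finset.sum_mul, Finset.mul_sum, rep_xop σ x E m hxp hconj,
    smul_smul]
  congr 1
  refine Finset.sum_congr rfl fun y _ => ?_
  congr 1
  rw [multK_mul, MonoidHom.mul_apply, mul_comm (multK m y⁻¹), mul_assoc, ← map_mul, inv_mul_cancel, map_one,
    mul_one]

include hxp hconj in
theorem rep_xop_eigen {μ : E →* (ZMod p)ˣ} {v : Fin n → k} (hv : ∀ r : E, σ (r : G) v = multK (k := k) μ r • v) :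
    ∀ r : E, σ (r : G) (xop (k := k) (p := p) (σ x) v) = multK (k := k) (m * μ) r • xop (k := k) (p := p) (σ x) v := by
  intro r
  have h := LinearMap.congr_fun (rep_xop σ x E m hxp hconj r) v
  simp only [Module.End.mul_apply, LinearMap.smul_apply, hv, map_smul, smul_smul] at h
  rw [h, multK_mul, MonoidHom.mul_apply]

include hxp in
theorem sum_pow_comm {g : G} {a : ℕ} (ha : g * x * g⁻¹ = x ^ a) (hcop : Nat.Coprime a p) :
    σ g * ∑ i ∈ Finset.range p, σ (x ^ i) = (∑ i ∈ Finset.range p, σ (x ^ i)) * σ g := by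
  have hA : ∀ i : ℕ, x ^ ((i : ZMod p).val) = x ^ i := fun i => by
    rw [ZMod.val_natCast]
    conv_rhs => rw [← Nat.mod_add_div i p, pow_add, pow_mul, hxp, one_pow, mul_one]
  have hz : ∑ i ∈ Finset.range p, σ (x ^ i) = ∑ i : ZMod p, σ (x ^ i.val) := by
    refine Finset.sum_nbij' (fun i => (i : ZMod p)) (fun i => i.val) ?_ ?_ ?_ ?_ ?_
    · intro i _; exact Finset.mem_univ _
    · intro i _; exact Finset.mem_range.mpr (ZMod.val_lt i)
    · intro i hi; exact ZMod.val_natCast_of_lt (Finset.mem_range.mp hi)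
    · intro i _; simp
    · intro i _; rw [hA]
  rw [hz, Finset.mul_sum, Finset.sum_mul]
  refine Fintype.sum_equiv (Units.mulLeft (ZMod.unitOfCoprime a hcop)) _ _ fun i => ?_
  rw [← map_mul, ← map_mul]
  congr 1
  show g * x ^ i.val = x ^ ((a : ZMod p) * i).val * g
  rw [show (a : ZMod p) * i = ((a * i.val : ℕ) : ZMod p) by simp, hA, pow_mul, ← ha, conj_pow]
  group

include hxp hconj in
theorem rep_sum_pow (r : E) :
    σ (r : G) * ∑ i ∈ Finset.range p, σ (x ^ i) = (∑ i ∈ Finset.range p, σ (x ^ i)) * σ (r : G) := by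
  refine sum_pow_comm σ x hxp (hconj r) ?_
  exact ZMod.val_coe_unit_coprime (m r)

theorem sum_pow_eq : ∑ i ∈ Finset.range p, σ (x ^ i) = ∑ i ∈ Finset.range p, σ x ^ i := by
  simp only [map_pow]

/-- Iterating the twisted power sum. -/
theorem xop_iterate_indep (hp3 : 3 ≤ p) (hxp : x ^ p = 1) (z v : Fin n → k)
    (hind : ∀ a b : k, a • (∑ i ∈ Finset.range p, σ (x ^ i)) z + b • (∑ i ∈ Finset.range p, σ (x ^ i)) v = 0 →
      a = 0 ∧ b = 0) :
    2 * p ≤ n := by
  classical
  set X := xop (k := k) (p := p) (σ x) with hX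
  have htop : X ^ (p - 1) = ∑ i ∈ Finset.range p, σ (x ^ i) := by
    rw [hX, xop_pow_pred hp3 (rep_pow_eq_one σ x hxp), sum_pow_eq]
  have hzero : ∀ j, p ≤ j → X ^ j = 0 := fun j hj => by
    rw [← Nat.add_sub_cancel' hj, pow_add, hX, xop_pow_self hp3 (rep_pow_eq_one σ x hxp), zero_mul]
  have hli : LinearIndependent k (Sum.elim (fun i : Fin p => (X ^ (i : ℕ)) z) (fun i : Fin p => (X ^ (i : ℕ)) v)) := by
    rw [Fintype.linearIndependent_iff]
    intro c hc
    simp only [Fintype.sum_sum_type, Sum.elim_inl, Sum.elim_inr] at hc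
    have key : ∀ j : ℕ, ∀ hj : j < p, c (.inl ⟨j, hj⟩) = 0 ∧ c (.inr ⟨j, hj⟩) = 0 := by
      intro j
      induction j using Nat.strong_induction_on with
      | _ j ih =>
        intro hj
        have h1 := congrArg (X ^ (p - 1 - j)) hc
        simp only [map_add, map_sum, map_smul, map_zero, ← Module.End.mul_apply, ← pow_add] at h1
        have hs : ∀ (d : Fin p → k) (y : Fin n → k), (∀ i : Fin p, (i : ℕ) < j → d i = 0) →
            ∑ i : Fin p, d i • (X ^ (p - 1 - j + (i : ℕ))) y = d ⟨j, hj⟩ • (X ^ (p - 1)) y := by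
          intro d y hd
          rw [Finset.sum_eq_single (⟨j, hj⟩ : Fin p)]
          · rw [show p - 1 - j + j = p - 1 by omega]
          · intro i _ hne
            rcases Nat.lt_or_ge (i : ℕ) j with h | h
            · rw [hd i h, zero_smul]
            · rw [hzero _ (by have : (i : ℕ) ≠ j := fun e => hne (Fin.ext e); omega), LinearMap.zero_apply, smul_zero]
          · intro h; exact absurd (Finset.mem_univ _) h
        rw [hs (fun i => c (.inl i)) z (fun i hi => (ih _ hi i.2).1),
          hs (fun i => c (.inr i)) v (fun i hi => (ih _ hi i.2).2), htop] at h1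
        exact hind _ _ h1
    rintro (i | i)
    · exact (key i i.2).1
    · exact (key i i.2).2
  have := hli.fintype_card_le_finrank
  rw [Fintype.card_sum, Fintype.card_fin, Module.finrank_fin_fun] at this
  omega

variable (σ' : Representation k G (Fin n → k)) (hpair : ∀ g v w, σ' g v ⬝ᵥ σ g w = v ⬝ᵥ w)

include hpair in
theorem pair_swap (g : G) (v w : Fin n → k) : σ' g v ⬝ᵥ w = v ⬝ᵥ σ g⁻¹ w := by
  conv_lhs => rw [show w = σ g (σ g⁻¹ w) by rw [← Module.End.mul_apply, ← map_mul, mul_inv_cancel, map_one, Module.End.one_apply]]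
  rw [hpair]

include hxp hconj hpair in
/-- The dichotomy. -/
theorem good_or_good (hp3 : 3 ≤ p) (hn : n < 2 * p) (u : k) (hu : u * (Nat.card E : k) = 1) (t : ℕ)
    (h1 : finrank k (LinearMap.range (eigOp σ E (multK m) u)) = t + 1)
    (h2 : finrank k (LinearMap.range (eigOp σ E (multK m⁻¹) u)) = t + 1)
    (h0 : finrank k (LinearMap.range (eigOp σ E (multK (1 : E →* (ZMod p)ˣ)) u)) = t)
    (r₁ : E) (hr₁ : multK (k := k) m r₁ * multK m r₁ ≠ 1) : Good σ x E m ∨ Good σ' x E m := by
  classical
  set X := xop (k := k) (p := p) (σ x) with hX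
  set N := ∑ i ∈ Finset.range p, σ (x ^ i) with hN
  have hmem : ∀ (μ : E →* (ZMod p)ˣ) (v : Fin n → k),
      v ∈ LinearMap.range (eigOp σ E (multK μ) u) ↔ ∀ r : E, σ (r : G) v = multK (k := k) μ r • v :=
    fun μ v => mem_range_eigOp σ E (multK μ) u hu
  -- a fixed vector in the `m⁻¹` part
  obtain ⟨w, hwC, hwX, hw0⟩ : ∃ w, (∀ r : E, σ (r : G) w = multK (k := k) m⁻¹ r • w) ∧ X w = 0 ∧ w ≠ 0 := by
    set C := LinearMap.range (eigOp σ E (multK m⁻¹) u) with hC
    set A := LinearMap.range (eigOp σ E (multK (1 : E →* (ZMod p)ˣ)) u) with hA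
    let f : C →ₗ[k] A := (X.comp C.subtype).codRestrict A fun v => (hmem 1 _).mpr (by
      have h := rep_xop_eigen σ x E m hxp hconj ((hmem m⁻¹ _).mp v.2)
      rw [hom_mul_inv] at h
      exact h)
    have hker : LinearMap.ker f ≠ ⊥ := by
      intro h
      have := LinearMap.finrank_le_finrank_of_injective (LinearMap.ker_eq_bot.mp h)
      omega
    obtain ⟨⟨w, hw⟩, hwk, hw0⟩ := Submodule.exists_mem_ne_zero_of_ne_bot hker
    exact ⟨w, (hmem m⁻¹ w).mp hw, congrArg Subtype.val (LinearMap.mem_ker.mp hwk), fun h => hw0 (Subtype.ext h)⟩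
  by_cases hwN : w ∈ LinearMap.range N
  swap
  · -- the contragredient is good
    right
    obtain ⟨φ, hφw, hφN⟩ := Submodule.exists_dual_map_eq_bot_of_notMem hwN inferInstance
    obtain ⟨c, hc⟩ : ∃ c : Fin n → k, ∀ y, φ y = c ⬝ᵥ y := by
      refine ⟨fun i => φ (Pi.single i 1), fun y => ?_⟩
      conv_lhs => rw [pi_eq_sum_univ' y]
      simp [dotProduct, map_sum, mul_comm]
    have hcN : ∀ y, c ⬝ᵥ N y = 0 := fun y => by
      rw [← hc]
      have : φ (N y) ∈ (LinearMap.range N).map φ := ⟨_, LinearMap.mem_range_self _ y, rfl⟩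
      rw [hφN, Submodule.mem_bot] at this
      exact this
    set c' := eigOp σ' E (multK m) u c with hc'
    have hadj : ∀ y, c' ⬝ᵥ y = c ⬝ᵥ eigOp σ E (multK m⁻¹) u y := by
      intro y
      simp only [hc', eigOp, LinearMap.smul_apply, LinearMap.sum_apply, smul_dotProduct, sum_dotProduct,
        dotProduct_smul, dotProduct_sum]
      congr 1
      refine Fintype.sum_equiv (Equiv.inv _) _ _ fun r => ?_
      rw [pair_swap σ σ' hpair, Equiv.inv_apply]
      rw [inv_inv, InvMemClass.coe_inv, multK_apply, multK_apply, map_inv]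
      rfl
    have hN' : ∀ (v y : Fin n → k), (∑ i ∈ Finset.range p, σ' (x ^ i)) v ⬝ᵥ y = v ⬝ᵥ N y := by
      intro v y
      simp only [hN, LinearMap.sum_apply, sum_dotProduct, dotProduct_sum]
      refine Finset.sum_nbij' (fun i => (p - i) % p) (fun i => (p - i) % p) ?_ ?_ ?_ ?_ ?_ <;>
        intro i hi <;> simp only [Finset.mem_coe, Finset.mem_range] at hi ⊢
      · exact Nat.mod_lt _ hp.out.pos
      · exact Nat.mod_lt _ hp.out.pos
      · rcases Nat.eq_zero_or_pos i with h | h
        · subst h; simp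
        · rw [Nat.mod_eq_of_lt (by omega : p - i < p), Nat.sub_sub_self hi.le, Nat.mod_eq_of_lt hi]
      · rcases Nat.eq_zero_or_pos i with h | h
        · subst h; simp
        · rw [Nat.mod_eq_of_lt (by omega : p - i < p), Nat.sub_sub_self hi.le, Nat.mod_eq_of_lt hi]
      · rw [pair_swap σ σ' hpair]
        congr 3
        rw [inv_eq_iff_mul_eq_one, ← pow_eq_pow_mod (p - i) hxp, ← pow_add, Nat.add_sub_cancel' hi.le, hxp]
    refine ⟨c', fun r => ?_, ?_, ?_⟩
    · exact rep_eigOp_apply σ' E (multK m) u r c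
    · refine dotProduct_eq_zero _ fun y => ?_
      rw [hN', hadj]
      have h : eigOp σ E (multK m⁻¹) u * N = N * eigOp σ E (multK m⁻¹) u :=
        eigOp_comm σ E _ u fun r => rep_sum_pow σ x E m hxp hconj r
      rw [← Module.End.mul_apply, h, Module.End.mul_apply, hcN]
    · rintro ⟨ξ, hξ⟩
      have h : c' ⬝ᵥ w = φ w := by
        rw [hadj, eigOp_fixed σ E (multK m⁻¹) u hu hwC, hc]
      apply hφw
      rw [← h, ← hξ]
      obtain ⟨U, hU, hUc⟩ := isUnit_xop_factor (k := k) hp3 (rep_pow_eq_one σ' x hxp)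
      rw [hU, Module.End.mul_apply, LinearMap.sub_apply, Module.End.one_apply, sub_dotProduct,
        pair_swap σ σ' hpair]
      have hxw : σ x⁻¹ w = w := by
        obtain ⟨U', hU', hU'c⟩ := isUnit_xop_factor (k := k) hp3 (rep_pow_eq_one σ x hxp)
        have h1 : (σ x - 1) w = 0 := by
          rw [show (σ x - 1 : Module.End k (Fin n → k)) = (↑U'⁻¹ : Module.End k (Fin n → k)) * X by
            rw [hX, hU', hU'c.eq, ← mul_assoc, Units.inv_mul, one_mul], Module.End.mul_apply, hwX, map_zero]
        rw [LinearMap.sub_apply, Module.End.one_apply, sub_eq_zero] at h1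
        conv_lhs => rw [← h1]
        rw [← Module.End.mul_apply, ← map_mul, inv_mul_cancel, map_one, Module.End.one_apply]
      rw [hxw, sub_self]
  · -- `σ` is good
    left
    obtain ⟨v, hvB, hvX⟩ : ∃ v, (∀ r : E, σ (r : G) v = multK (k := k) m r • v) ∧ v ∉ LinearMap.range X := by
      set A := LinearMap.range (eigOp σ E (multK (1 : E →* (ZMod p)ˣ)) u) with hA
      set B := LinearMap.range (eigOp σ E (multK m) u) with hB
      have hlt : ¬ B ≤ A.map X := fun h => by
        have := (Submodule.finrank_mono h).trans (Submodule.finrank_map_le X A)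
        omega
      obtain ⟨v, hv, hvn⟩ := SetLike.not_le_iff_exists.mp hlt
      refine ⟨v, (hmem m v).mp hv, fun ⟨z, hz⟩ => hvn ⟨eigOp σ E (multK 1) u z, LinearMap.mem_range_self _ z, ?_⟩⟩
      rw [← Module.End.mul_apply, ← eigOp_xop σ x E m hxp hconj, hom_mul_one, Module.End.mul_apply, hz,
        eigOp_fixed σ E (multK m) u hu ((hmem m v).mp hv)]
    refine ⟨v, hvB, ?_, hvX⟩
    by_contra hNv
    obtain ⟨z₀, hz₀⟩ := hwN
    set z := eigOp σ E (multK m⁻¹) u z₀ with hz
    have hNz : N z = w := by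
      have h : eigOp σ E (multK m⁻¹) u * N = N * eigOp σ E (multK m⁻¹) u :=
        eigOp_comm σ E _ u fun r => rep_sum_pow σ x E m hxp hconj r
      rw [hz, ← Module.End.mul_apply, ← h, Module.End.mul_apply, hz₀, eigOp_fixed σ E (multK m⁻¹) u hu hwC]
    have hNvB : σ (r₁ : G) (N v) = multK (k := k) m r₁ • N v := by
      rw [← Module.End.mul_apply, rep_sum_pow σ x E m hxp hconj, Module.End.mul_apply, hvB, map_smul]
    have hinv : multK (k := k) m r₁ * multK m⁻¹ r₁ = 1 := by
      rw [← MonoidHom.mul_apply, ← multK_mul, hom_mul_inv, multK_one, MonoidHom.one_apply]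
    refine absurd (xop_iterate_indep σ x hp3 hxp z v fun a b hab => ?_) (by omega)
    rw [hNz] at hab
    have h' := congrArg (σ (r₁ : G)) hab
    rw [map_add, map_smul, map_smul, hwC, hNvB, map_zero] at h'
    have hb : b = 0 := by
      have e : (b * (multK (k := k) m r₁ * multK m r₁ - 1)) • N v = 0 := by
        have h'' := congrArg (fun y => multK (k := k) m r₁ • y) h'
        simp only [smul_add, smul_zero, smul_smul] at h''
        rw [show multK (k := k) m r₁ * (a * multK m⁻¹ r₁) = a by rw [mul_left_comm, hinv, mul_one]] at h''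
        linear_combination (norm := module) h'' - hab
      rcases smul_eq_zero.mp e with h | h
      · exact (mul_eq_zero.mp h).resolve_right (sub_ne_zero.mpr hr₁)
      · exact absurd h hNv
    refine ⟨?_, hb⟩
    rw [hb, zero_smul, add_zero] at hab
    exact (smul_eq_zero.mp hab).resolve_right hw0

end Cfsg.Agent.PrimeDegreeTI
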