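/-
Mapping the heart of the permutation module into a representation (namespace `Cfsg.Agent.PrimeDegreeTI`).

* `ker_xop_perm`, `range_xop_perm` : the twisted power sum on the permutation module
* `exists_hom` : an equivariant map from the sum zero functions, not zero on the chosen eigenvector
* `exists_three` : the three-dimensional quotient
-/
import Cfsg.Agent.Lib.PrimeDegreeTI.Good
import Cfsg.Agent.Lib.Perm.PrimeDegree
import Cfsg.Agent.Lib.ModRep.RegBasis
import Cfsg.Agent.Lib.Transfer.Focal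

set_option autoImplicit false
set_option linter.unusedSectionVars false

open Matrix Module MulAction

namespace Cfsg.Agent.PrimeDegreeTI

open Cfsg

universe u v w

variable {p : ℕ} [hp : Fact p.Prime] {k : Type w} [Field k] [CharP k p]
  {α : Type v} [Fintype α] {G : Type u} [Group G] [Finite G] [MulAction G α]

/-- The sum zero functions. -/
noncomputable def sumZero (k : Type w) [Field k] (α : Type v) [Fintype α] : Submodule k (α → k) :=
  LinearMap.ker (∑ b : α, LinearMap.proj b : (α → k) →ₗ[k] k)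

theorem mem_sumZero {s : α → k} : s ∈ sumZero k α ↔ ∑ b : α, s b = 0 := by
  simp [sumZero, LinearMap.sum_apply]

theorem permRep_sum (g : G) (s : α → k) : ∑ b : α, Cfsg.permRep k G α g s b = ∑ b : α, s b :=
  Fintype.sum_equiv (MulAction.toPerm g⁻¹) _ _ fun b => rfl

theorem permRep_mem_sumZero (g : G) {s : α → k} (hs : s ∈ sumZero k α) :
    Cfsg.permRep k G α g s ∈ sumZero k α := by
  rw [mem_sumZero, permRep_sum]; exact mem_sumZero.mp hs

theorem permRep_trace (g : G) :
    LinearMap.trace k (α → k) (Cfsg.permRep k G α g) = (Nat.card (fixedBy α g) : k) := by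
  classical
  rw [LinearMap.trace_eq_matrix_trace k (Pi.basisFun k α), Matrix.trace]
  simp only [Matrix.diag, LinearMap.toMatrix_apply, Pi.basisFun_apply, Pi.basisFun_repr, Cfsg.permRep,
    MonoidHom.coe_mk, OneHom.coe_mk, LinearMap.coe_mk, AddHom.coe_mk, Pi.single_apply, inv_smul_eq_iff,
    Finset.sum_boole]
  rw [Nat.card_eq_fintype_card, Fintype.card_subtype]
  congr 2
  refine Finset.filter_congr fun b _ => ?_
  exact eq_comm

variable (hα : Fintype.card α = p) {x : G} {a : α} (hxp : x ^ p = 1)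
  (hbij : Function.Bijective fun i : ZMod p => x ^ i.val • a)

include hα in
theorem finrank_sumZero : finrank k (sumZero k α) = p - 1 := by
  classical
  obtain ⟨b⟩ : Nonempty α := Fintype.card_pos_iff.mp (hα ▸ hp.out.pos)
  have hsurj : LinearMap.range (∑ c : α, LinearMap.proj c : (α → k) →ₗ[k] k) = ⊤ := by
    rw [LinearMap.range_eq_top]
    intro c
    exact ⟨Pi.single b c, by simp [LinearMap.sum_apply]⟩
  have h := LinearMap.finrank_range_add_finrank_ker (∑ c : α, LinearMap.proj c : (α → k) →ₗ[k] k)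
  rw [hsurj, finrank_top, Module.finrank_self, Module.finrank_pi, hα] at h
  rw [sumZero]
  omega

include hα hxp hbij in
theorem ker_xop_perm (hp3 : 3 ≤ p) {s : α → k}
    (hs : xop (k := k) (p := p) (Cfsg.permRep k G α x) s = 0) (b : α) : s b = s a := by
  obtain ⟨U, hU, hUc⟩ := isUnit_xop_factor (k := k) hp3 (rep_pow_eq_one' (Cfsg.permRep k G α) x hxp)
  have h1 : (Cfsg.permRep k G α x - 1) s = 0 := by
    rw [show (Cfsg.permRep k G α x - 1 : Module.End k (α → k)) =
      (↑U⁻¹ : Module.End k (α → k)) * xop (k := k) (p := p) (Cfsg.permRep k G α x) by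
      rw [hU, hUc.eq, ← mul_assoc, Units.inv_mul, one_mul], Module.End.mul_apply, hs, map_zero]
  rw [LinearMap.sub_apply, Module.End.one_apply, sub_eq_zero] at h1
  have hstep : ∀ c : α, s (x • c) = s c := fun c => by
    have := congrFun h1 (x • c)
    simp [Cfsg.permRep] at this
    exact this.symm
  obtain ⟨i, rfl⟩ := hbij.2 b
  show s (x ^ i.val • a) = s a
  induction i.val with
  | zero => rw [pow_zero, one_smul]
  | succ j ih => rw [pow_succ', mul_smul, hstep, ih]


include hα hxp hbij in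
theorem range_xop_perm (hp3 : 3 ≤ p) :
    LinearMap.range (xop (k := k) (p := p) (Cfsg.permRep k G α x)) = sumZero k α := by
  classical
  set X := xop (k := k) (p := p) (Cfsg.permRep k G α x) with hX
  have hle : LinearMap.range X ≤ sumZero k α := by
    rintro _ ⟨τ, rfl⟩
    obtain ⟨U, hU, -⟩ := isUnit_xop_factor (k := k) hp3 (rep_pow_eq_one' (Cfsg.permRep k G α) x hxp)
    rw [hX, hU, Module.End.mul_apply, LinearMap.sub_apply, Module.End.one_apply, mem_sumZero]
    simp only [Pi.sub_apply, Finset.sum_sub_distrib, permRep_sum, sub_self]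
  refine Submodule.eq_of_le_of_finrank_le hle ?_
  have hker : finrank k (LinearMap.ker X) ≤ 1 := by
    refine finrank_le_one (⟨fun _ => 1, ?_⟩ : LinearMap.ker X) fun s => ⟨(s : α → k) a, ?_⟩
    · rw [LinearMap.mem_ker]
      obtain ⟨U, hU, hUc⟩ := isUnit_xop_factor (k := k) hp3 (rep_pow_eq_one' (Cfsg.permRep k G α) x hxp)
      rw [hX, hU, hUc.eq, Module.End.mul_apply, LinearMap.sub_apply, Module.End.one_apply]
      have : Cfsg.permRep k G α x (fun _ => (1 : k)) = fun _ => 1 := rfl
      rw [this, sub_self, map_zero]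
    · ext b
      simp [ker_xop_perm hα hxp hbij hp3 (LinearMap.mem_ker.mp s.2) b]
  have h := X.finrank_range_add_finrank_ker
  rw [Module.finrank_pi, hα] at h
  rw [finrank_sumZero hα]
  omega

variable (hx1 : orderOf x = p) (P : Subgroup G) (hP : P = Subgroup.zpowers x)
  (E : Subgroup G) [Fintype E] (hPE : P ⊔ E = Subgroup.normalizer (P : Set G)) (hPE' : P ⊓ E = ⊥)
  (m : E →* (ZMod p)ˣ) (hconj : ∀ r : E, (r : G) * x * (r : G)⁻¹ = x ^ ((m r : ZMod p).val))
  (hfixa : ∀ r ∈ E, r • a = a) {n : ℕ} (σ : Representation k G (Fin n → k))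

include hα hxp hbij hx1 hP hPE hPE' hconj hfixa in
/-- An equivariant map from the sum zero functions. -/
theorem exists_hom (hp3 : 3 ≤ p) (hpe : ¬ p ∣ Nat.card E) (hgood : Good σ x E m) :
    ∃ f : (α → k) →ₗ[k] (Fin n → k),
      (∀ g, ∀ s ∈ sumZero k α, f (Cfsg.permRep k G α g s) = σ g (f s)) ∧
      ∃ s ∈ sumZero k α, f s ≠ 0 := by
  classical
  haveI : Fintype (G ⧸ P) := Fintype.ofFinite _
  obtain ⟨v₀, hv₀r, hv₀N, hv₀X⟩ := hgood
  set π := Cfsg.permRep k G α with hπ
  set X := xop (k := k) (p := p) (π x) with hX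
  have hpw : ∀ i j : ℕ, (i : ZMod p) = j → x ^ i = x ^ j := fun i j h => by
    rw [pow_eq_pow_iff_modEq, hx1, ← ZMod.natCast_eq_natCast_iff]; exact h
  -- the map on a regular orbit
  let Φ : (α → k) →ₗ[k] (Fin n → k) := ∑ i : ZMod p, (LinearMap.proj (x ^ i.val • a)).smulRight (σ (x ^ i.val) v₀)
  have hΦ : ∀ τ, Φ τ = ∑ i : ZMod p, τ (x ^ i.val • a) • σ (x ^ i.val) v₀ := fun τ => by simp [Φ]
  have hΦx : ∀ τ, Φ (π x τ) = σ x (Φ τ) := by
    intro τ
    simp only [hΦ, map_sum, map_smul, ← Module.End.mul_apply, ← map_mul]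
    refine Fintype.sum_equiv (Equiv.addRight (-1 : ZMod p)) _ _ fun i => ?_
    show τ (x⁻¹ • x ^ i.val • a) • _ = τ (x ^ (i + -1).val • a) • σ (x * x ^ (i + -1).val) v₀
    have e : x * x ^ (i + -1).val = x ^ i.val := by
      rw [← pow_succ']
      exact hpw _ _ (by push_cast; simp)
    conv_lhs => rw [← e, mul_smul, inv_smul_smul]
  have hΦr : ∀ (r : E) τ, multK (k := k) m r • Φ (π (r : G) τ) = σ (r : G) (Φ τ) := by
    intro r τ
    simp only [hΦ, Finset.smul_sum, map_sum, map_smul, smul_smul]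
    refine Fintype.sum_equiv (Units.mulLeft (m r⁻¹)) _ _ fun i => ?_
    show _ = τ (x ^ (((m r⁻¹ : (ZMod p)ˣ) : ZMod p) * i).val • a) •
      σ (r : G) (σ (x ^ (((m r⁻¹ : (ZMod p)ˣ) : ZMod p) * i).val) v₀)
    set j := (((m r⁻¹ : (ZMod p)ˣ) : ZMod p) * i) with hj
    have e : (r : G) * x ^ j.val * (r : G)⁻¹ = x ^ i.val := by
      rw [← conj_pow, hconj r, ← pow_mul]
      refine hpw _ _ ?_
      simp only [Nat.cast_mul, ZMod.natCast_val, ZMod.cast_id, id_eq]
      rw [hj, ← mul_assoc, ← Units.val_mul, ← map_mul, mul_inv_cancel, map_one, Units.val_one, one_mul]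
    have e2 : (π (r : G) τ) (x ^ i.val • a) = τ (x ^ j.val • a) := by
      show τ ((r : G)⁻¹ • x ^ i.val • a) = _
      rw [← mul_smul, ← e, show (r : G)⁻¹ * ((r : G) * x ^ j.val * (r : G)⁻¹) = x ^ j.val * (r : G)⁻¹ by group,
        mul_smul, hfixa _ (E.inv_mem r.2)]
    have e3 : σ (r : G) (σ (x ^ j.val) v₀) = multK (k := k) m r • σ (x ^ i.val) v₀ := by
      rw [← Module.End.mul_apply, ← map_mul, show (r : G) * x ^ j.val = x ^ i.val * r by rw [← e, inv_mul_cancel_right],
        map_mul, Module.End.mul_apply, hv₀r, map_smul]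
    rw [e2, e3, smul_smul, mul_comm]
  -- factor through `X`
  have hker : LinearMap.ker X ≤ LinearMap.ker Φ := by
    intro s hs
    rw [LinearMap.mem_ker, hΦ]
    simp only [ker_xop_perm hα hxp hbij hp3 (LinearMap.mem_ker.mp hs)]
    rw [← Finset.smul_sum]
    have : ∑ i : ZMod p, σ (x ^ i.val) v₀ = (∑ i ∈ Finset.range p, σ (x ^ i)) v₀ := by
      rw [LinearMap.sum_apply]
      refine Finset.sum_nbij' (fun i => i.val) (fun i => (i : ZMod p)) ?_ ?_ ?_ ?_ ?_
      · intro i _; exact Finset.mem_range.mpr (ZMod.val_lt i)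
      · intro i _; exact Finset.mem_univ _
      · intro i _; simp
      · intro i hi; exact ZMod.val_natCast_of_lt (Finset.mem_range.mp hi)
      · intro i _; rfl
    rw [this, hv₀N, smul_zero]
  obtain ⟨f₀, hf₀⟩ : ∃ f₀ : (α → k) →ₗ[k] (Fin n → k), ∀ τ, f₀ (X τ) = Φ τ := by
    obtain ⟨g, hg⟩ := LinearMap.exists_extend
      (((LinearMap.ker X).liftQ Φ hker).comp X.quotKerEquivRange.symm.toLinearMap)
    refine ⟨g, fun τ => ?_⟩
    have h1 := LinearMap.congr_fun hg ⟨X τ, LinearMap.mem_range_self X τ⟩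
    simp only [LinearMap.comp_apply, Submodule.subtype_apply, LinearEquiv.coe_coe] at h1
    rw [LinearMap.quotKerEquivRange_symm_apply_image X τ] at h1
    exact h1
  have hS : ∀ s ∈ sumZero k α, ∃ τ, X τ = s := fun s hs =>
    LinearMap.mem_range.mp (by rw [hX, hπ, range_xop_perm hα hxp hbij hp3]; exact hs)
  have hf₀x : ∀ s ∈ sumZero k α, f₀ (π x s) = σ x (f₀ s) := by
    intro s hs
    obtain ⟨τ, rfl⟩ := hS s hs
    rw [← Module.End.mul_apply, show π x * X = X * π x from (xop_commute (Commute.refl (π x))).symm.eq,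
      Module.End.mul_apply, hf₀, hf₀, hΦx]
  have hf₀r : ∀ (r : E), ∀ s ∈ sumZero k α, f₀ (π (r : G) s) = σ (r : G) (f₀ s) := by
    intro r s hs
    obtain ⟨τ, rfl⟩ := hS s hs
    have hc : π (r : G) * X = multK (k := k) m r • (X * π (r : G)) :=
      conj_xop (rep_pow_eq_one' π x hxp) (m r) (by rw [← map_pow, ← map_mul, ← map_mul, ← hconj r, inv_mul_cancel_right])
    rw [← Module.End.mul_apply, hc, LinearMap.smul_apply, Module.End.mul_apply, map_smul, hf₀, hf₀, hΦr]
  have hf₀P : ∀ h ∈ P, ∀ s ∈ sumZero k α, f₀ (π h s) = σ h (f₀ s) := by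
    intro h hh
    rw [hP] at hh
    obtain ⟨i, rfl⟩ := (isOfFinOrder_of_finite x).mem_powers_iff_mem_zpowers.mpr hh
    induction i with
    | zero => intro s _; simp
    | succ i ih =>
      intro s hs
      simp only [pow_succ', map_mul, Module.End.mul_apply]
      rw [hf₀x _ (permRep_mem_sumZero _ hs), ih (hP ▸ Subgroup.pow_mem _ (Subgroup.mem_zpowers x) i) s hs]
  -- the averaged map
  let T : G → (α → k) →ₗ[k] (Fin n → k) := fun g => (σ g).comp (f₀.comp (π g⁻¹))
  have hT : ∀ g g', g⁻¹ * g' ∈ P → ∀ s ∈ sumZero k α, T g' s = T g s := by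
    intro g g' hh s hs
    show σ g' (f₀ (π g'⁻¹ s)) = σ g (f₀ (π g⁻¹ s))
    rw [show g'⁻¹ = (g⁻¹ * g')⁻¹ * g⁻¹ by group, map_mul π, Module.End.mul_apply,
      hf₀P _ (P.inv_mem hh) _ (permRep_mem_sumZero _ hs), ← Module.End.mul_apply, ← map_mul,
      show g' * (g⁻¹ * g')⁻¹ = g by group]
  have hTmul : ∀ g₀ g s, T (g₀ * g) (π g₀ s) = σ g₀ (T g s) := by
    intro g₀ g s
    show σ (g₀ * g) (f₀ (π (g₀ * g)⁻¹ (π g₀ s))) = σ g₀ (σ g (f₀ (π g⁻¹ s)))
    rw [← Module.End.mul_apply (π _), ← map_mul, show (g₀ * g)⁻¹ * g₀ = g⁻¹ by group, map_mul,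
      Module.End.mul_apply]
  have hout : ∀ (g₀ : G) (q : G ⧸ P), (g₀ * q.out)⁻¹ * (g₀ • q).out ∈ P := by
    intro g₀ q
    rw [← QuotientGroup.eq, QuotientGroup.out_eq']
    conv_rhs => rw [← QuotientGroup.out_eq' q]
    rfl
  refine ⟨∑ q : G ⧸ P, T q.out, fun g₀ s hs => ?_, ?_⟩
  · simp only [LinearMap.sum_apply, map_sum]
    symm
    refine Fintype.sum_equiv (MulAction.toPerm g₀) _ _ fun q => ?_
    rw [MulAction.toPerm_apply, ← hTmul g₀ q.out s]
    exact (hT _ _ (hout g₀ q) _ (permRep_mem_sumZero _ hs)).symm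
  set U₀ := X (Pi.single a 1) with hU₀
  have hU₀S : U₀ ∈ sumZero k α := by
    rw [← range_xop_perm hα hxp hbij hp3]; exact LinearMap.mem_range_self _ _
  have hf₀U : f₀ U₀ = v₀ := by
    rw [hU₀, hf₀, hΦ, Finset.sum_eq_single (0 : ZMod p)]
    · simp
    · intro i _ hi
      rw [Pi.single_eq_of_ne, zero_smul]
      intro h
      exact hi (hbij.1 (h.trans (by simp)))
    · intro h; exact absurd (Finset.mem_univ _) h
  refine ⟨U₀, hU₀S, fun hzero => ?_⟩
  obtain ⟨ℓ, hℓv, hℓX⟩ := Submodule.exists_dual_map_eq_bot_of_notMem hv₀X inferInstance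
  have hℓx : ∀ (i : ℕ) y, ℓ (σ (x ^ i) y) = ℓ y := by
    intro i
    induction i with
    | zero => simp
    | succ i ih =>
      intro y
      rw [pow_succ, map_mul, Module.End.mul_apply, ih]
      obtain ⟨U, hU, hUc⟩ := isUnit_xop_factor (k := k) hp3 (rep_pow_eq_one σ x hxp)
      have h1 : (σ x - 1) y = xop (k := k) (p := p) (σ x) ((↑U⁻¹ : Module.End k (Fin n → k)) y) := by
        rw [hU, ← Module.End.mul_apply, mul_assoc, Units.mul_inv, mul_one]
      have h2 : ℓ ((σ x - 1) y) = 0 := by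
        rw [h1]
        have : ℓ (xop (k := k) (p := p) (σ x) ((↑U⁻¹ : Module.End k (Fin n → k)) y)) ∈
            (LinearMap.range (xop (k := k) (p := p) (σ x))).map ℓ := ⟨_, LinearMap.mem_range_self _ _, rfl⟩
        rw [hℓX, Submodule.mem_bot] at this
        exact this
      rw [LinearMap.sub_apply, Module.End.one_apply, map_sub, sub_eq_zero] at h2
      exact h2
  -- fixed cosets
  have hfixq : ∀ q : G ⧸ P, x • q = q ↔ q.out ∈ Subgroup.normalizer (P : Set G) := by
    intro q
    conv_lhs => rw [← QuotientGroup.out_eq' q, MulAction.Quotient.smul_mk, QuotientGroup.eq]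
    rw [smul_eq_mul, _root_.mul_inv_rev, mul_assoc]
    constructor
    · intro h
      rw [← Subgroup.inv_mem_iff]
      rw [← Transfer.map_conj_eq_iff_mem_normalizer]
      refine Subgroup.eq_of_le_of_card_ge ?_ (Subgroup.card_map_of_injective (MulEquiv.injective _)).ge
      rintro _ ⟨y, hy, rfl⟩
      rw [SetLike.mem_coe, hP] at hy
      obtain ⟨i, rfl⟩ := hy
      show q.out⁻¹ * x ^ i * q.out⁻¹⁻¹ ∈ P
      rw [← conj_zpow]
      refine Subgroup.zpow_mem _ ?_ i
      rw [inv_inv]
      have := P.inv_mem h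
      simpa [mul_assoc] using this
    · intro h
      have := P.inv_mem ((Subgroup.mem_normalizer_iff.mp ((Subgroup.inv_mem_iff _).mpr h) x).mp (hP ▸ Subgroup.mem_zpowers x))
      simpa [mul_assoc] using this
  have hdecomp : ∀ g ∈ P ⊔ E, ∃ r ∈ E, ∃ h ∈ P, r * h = g := by
    intro g hg
    have hEN : E ≤ Subgroup.normalizer (P : Set G) := hPE ▸ le_sup_right
    rw [sup_comm, ← SetLike.mem_coe, Subgroup.coe_mul_of_left_le_normalizer_right E P hEN] at hg
    exact Set.mem_mul.mp hg
  let F : G ⧸ P → k := fun q => ℓ (T q.out U₀)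
  have hFone : ∀ q : G ⧸ P, x • q = q → F q = ℓ v₀ := by
    intro q hq
    have hmem := (hfixq q).mp hq
    rw [← hPE] at hmem
    obtain ⟨r, hr, h, hh, he⟩ := hdecomp _ hmem
    show ℓ (T q.out U₀) = _
    rw [hT r q.out (by rw [← he, inv_mul_cancel_left]; exact hh) U₀ hU₀S]
    show ℓ (σ r (f₀ (π r⁻¹ U₀))) = _
    rw [hf₀r ⟨r⁻¹, E.inv_mem hr⟩ U₀ hU₀S, hf₀U, ← Module.End.mul_apply, ← map_mul, mul_inv_cancel, map_one,
      Module.End.one_apply]
  have hNU : (∑ i ∈ Finset.range p, π (x ^ i)) U₀ = 0 := by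
    have h := xop_pow_self (k := k) hp3 (rep_pow_eq_one' π x hxp)
    conv_lhs at h => arg 2; rw [← Nat.sub_add_cancel hp.out.one_le]
    rw [pow_succ, xop_pow_pred hp3 (rep_pow_eq_one' π x hxp)] at h
    simp only [← map_pow] at h
    rw [hU₀, ← Module.End.mul_apply, h, LinearMap.zero_apply]
  let orb : G ⧸ P → Finset (G ⧸ P) := fun q => Finset.univ.image fun i : ZMod p => x ^ i.val • q
  have hmoved : ∑ q ∈ Finset.univ.filter (fun q => ¬ x • q = q), F q = 0 := by
    rw [← Finset.sum_fiberwise_of_maps_to (g := orb) (t := (Finset.univ.filter fun q => ¬ x • q = q).image orb)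
      (fun q hq => Finset.mem_image_of_mem _ hq)]
    refine Finset.sum_eq_zero fun O hO => ?_
    obtain ⟨q₀, hq₀, rfl⟩ := Finset.mem_image.mp hO
    replace hq₀ := (Finset.mem_filter.mp hq₀).2
    have horb : ∀ i : ℕ, orb (x ^ i • q₀) = orb q₀ := by
      intro i
      ext y
      simp only [orb, Finset.mem_image, Finset.mem_univ, true_and, ← mul_smul, ← pow_add]
      constructor
      · rintro ⟨j, rfl⟩
        exact ⟨((j.val + i : ℕ) : ZMod p), by rw [hpw _ (j.val + i) (by simp)]⟩
      · rintro ⟨j, rfl⟩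
        refine ⟨j - (i : ZMod p), ?_⟩
        rw [hpw _ j.val (by push_cast; simp)]
    have hinj : Function.Injective fun i : ZMod p => x ^ i.val • q₀ := by
      intro i j hij
      by_contra hne
      apply hq₀
      have h1 : x ^ (i - j).val • q₀ = q₀ := by
        have h2 := congrArg (fun y => x ^ (-j).val • y) hij
        simp only [← mul_smul, ← pow_add] at h2
        rw [hpw ((-j).val + i.val) (i - j).val (by push_cast; simp [sub_eq_neg_add]),
          hpw ((-j).val + j.val) 0 (by push_cast; simp), pow_zero, one_smul] at h2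
        exact h2
      have h3 : x ∈ Subgroup.zpowers (x ^ (i - j).val) := by
        refine ⟨(((i - j)⁻¹).val : ℤ), ?_⟩
        show (x ^ (i - j).val) ^ (((i - j)⁻¹).val : ℤ) = x
        rw [zpow_natCast, ← pow_mul]
        conv_rhs => rw [← pow_one x]
        exact hpw _ _ (by push_cast; simp [sub_ne_zero.mpr hne])
      obtain ⟨l, hl⟩ := h3
      rw [← hl]
      exact MulAction.mem_stabilizer_iff.mp (Subgroup.zpow_mem _ (MulAction.mem_stabilizer_iff.mpr h1) l)
    have hfib : (Finset.univ.filter fun q => ¬ x • q = q).filter (fun q => orb q = orb q₀) = orb q₀ := by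
      ext q
      simp only [Finset.mem_filter, Finset.mem_univ, true_and]
      constructor
      · rintro ⟨-, h⟩
        rw [← h]
        exact Finset.mem_image.mpr ⟨0, Finset.mem_univ _, by simp⟩
      · intro h
        obtain ⟨i, -, rfl⟩ := Finset.mem_image.mp h
        refine ⟨fun hc => hq₀ ?_, horb _⟩
        rw [← mul_smul, ← pow_succ', pow_succ, mul_smul] at hc
        exact MulAction.injective _ hc
    rw [hfib, Finset.sum_image fun i _ j _ h => hinj h]
    have hFi : ∀ i : ZMod p, F (x ^ i.val • q₀) = ℓ (T q₀.out (π (x ^ (-i).val) U₀)) := by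
      intro i
      show ℓ (T _ U₀) = _
      rw [hT (x ^ i.val * q₀.out) _ (hout _ q₀) U₀ hU₀S]
      have e : π (x ^ i.val) (π (x ^ (-i).val) U₀) = U₀ := by
        rw [← Module.End.mul_apply, ← map_mul, ← pow_add, hpw _ 0 (by push_cast; simp), pow_zero, map_one,
          Module.End.one_apply]
      conv_lhs => rw [← e]
      rw [hTmul, hℓx]
    simp only [hFi, ← map_sum]
    have : ∑ i : ZMod p, π (x ^ (-i).val) U₀ = (∑ i ∈ Finset.range p, π (x ^ i)) U₀ := by
      rw [LinearMap.sum_apply]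
      refine Finset.sum_nbij' (fun i => (-i).val) (fun i => -(i : ZMod p)) ?_ ?_ ?_ ?_ ?_
      · intro i _; exact Finset.mem_range.mpr (ZMod.val_lt _)
      · intro i _; exact Finset.mem_univ _
      · intro i _; simp
      · intro i hi; rw [neg_neg]; exact ZMod.val_natCast_of_lt (Finset.mem_range.mp hi)
      · intro i _; rfl
    rw [this, hNU, map_zero, map_zero]
  have hcount : (Finset.univ.filter fun q : G ⧸ P => x • q = q).card = Nat.card E := by
    rw [Nat.card_eq_fintype_card, ← Finset.card_univ]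
    symm
    refine Finset.card_bij (fun r _ => ((r : G) : G ⧸ P)) ?_ ?_ ?_
    · intro r _
      refine Finset.mem_filter.mpr ⟨Finset.mem_univ _, ?_⟩
      rw [MulAction.Quotient.smul_mk, smul_eq_mul, QuotientGroup.eq]
      have hrN : (r : G) ∈ Subgroup.normalizer (P : Set G) := hPE ▸ Subgroup.mem_sup_right r.2
      have := P.inv_mem ((Subgroup.mem_normalizer_iff.mp ((Subgroup.inv_mem_iff _).mpr hrN) x).mp
        (hP ▸ Subgroup.mem_zpowers x))
      simpa [mul_assoc] using this
    · intro r _ r' _ h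
      rw [QuotientGroup.eq] at h
      have : (r : G)⁻¹ * r' ∈ P ⊓ E := ⟨h, E.mul_mem (E.inv_mem r.2) r'.2⟩
      rw [hPE', Subgroup.mem_bot, inv_mul_eq_one] at this
      exact Subtype.ext this
    · intro q hq
      have hmem := (hfixq q).mp (Finset.mem_filter.mp hq).2
      rw [← hPE] at hmem
      obtain ⟨r, hr, h, hh, he⟩ := hdecomp _ hmem
      refine ⟨⟨r, hr⟩, Finset.mem_univ _, ?_⟩
      rw [← QuotientGroup.out_eq' q, QuotientGroup.eq, ← he, inv_mul_cancel_left]
      exact hh
  have htot : ∑ q, F q = (Nat.card E : k) * ℓ v₀ := by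
    rw [← Finset.sum_filter_add_sum_filter_not Finset.univ (fun q => x • q = q), hmoved, add_zero,
      Finset.sum_congr rfl fun q hq => hFone q (Finset.mem_filter.mp hq).2, Finset.sum_const, hcount,
      nsmul_eq_mul]
  have h0 : ℓ ((∑ q : G ⧸ P, T q.out) U₀) = ∑ q, F q := by simp [F, LinearMap.sum_apply, map_sum]
  rw [hzero, map_zero, htot] at h0
  rcases mul_eq_zero.mp h0.symm with h | h
  · exact hpe ((CharP.cast_eq_zero_iff k p _).mp h)
  · exact hℓv h


variable [FaithfulSMul G α] [IsPretransitive G α]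

include hα hxp hbij hx1 hP hPE hPE' hconj hfixa in
/-- The three dimensional quotient. -/
theorem exists_three (hp3 : 3 ≤ p) (hpe : ¬ p ∣ Nat.card E) (hns : ¬ Group.IsSolvable G) (hn : n = p + 1)
    (hgood : Good σ x E m) (hvec : ∀ v, (∀ g, σ g v = v) → v = 0)
    (hfun : ∀ φ : (Fin n → k) →ₗ[k] k, (∀ g v, φ (σ g v) = φ v) → φ = 0) :
    ∃ τ : Representation k G (Fin 3 → k),
      (∀ g, LinearMap.trace k _ (τ g) + ((Nat.card (fixedBy α g) : k) - 2) = LinearMap.trace k _ (σ g)) ∧
      ∀ φ : (Fin 3 → k) →ₗ[k] k, (∀ g v, φ (τ g v) = φ v) → φ = 0 := by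
  classical
  obtain ⟨f, hf, s₁, hs₁, hfs₁⟩ := exists_hom hα hxp hbij hx1 P hP E hPE hPE' m hconj hfixa σ hp3 hpe hgood
  set π := Cfsg.permRep k G α with hπ
  set S := sumZero k α with hS
  have hSinv : ∀ g, ∀ s ∈ S, π g s ∈ S := fun g s hs => permRep_mem_sumZero g hs
  have hone : (fun _ => (1 : k)) ∈ S := by
    rw [hS, mem_sumZero]; simp [hα]
  have hπone : ∀ g, π g (fun _ => (1 : k)) = fun _ => 1 := fun g => rfl
  have hfone : f (fun _ => (1 : k)) = 0 := hvec _ fun g => by rw [← hf g _ hone, hπone]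
  let fS : S →ₗ[k] (Fin n → k) := f.comp S.subtype
  -- the kernel consists of the constants
  let K : Submodule k (α → k) := S ⊓ LinearMap.ker f
  have hKinv : ∀ g, ∀ s ∈ K, π g s ∈ K := fun g s hs =>
    ⟨hSinv g s hs.1, by
      rw [SetLike.mem_coe, LinearMap.mem_ker, hf g s hs.1, LinearMap.mem_ker.mp hs.2, map_zero]⟩
  have hK1 : finrank k K ≤ 1 := by
    rcases Perm.finrank_le_one_or_ge hα hns K hKinv with h | h
    · exact h
    exfalso
    have hle : K ≤ S := inf_le_left
    have hKS : K = S := Submodule.eq_of_le_of_finrank_le hle (by rw [hS, finrank_sumZero hα]; omega)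
    exact hfs₁ (LinearMap.mem_ker.mp (hKS.ge hs₁).2)
  have hKconst : ∀ s ∈ K, ∃ c : k, s = fun _ => c := by
    intro s hs
    have h1 : (fun _ => (1 : k)) ∈ K := ⟨hone, LinearMap.mem_ker.mpr hfone⟩
    have hne : (⟨_, h1⟩ : K) ≠ 0 := fun h => by
      have := congrFun (congrArg Subtype.val h) a
      simp at this
    haveI : Nontrivial K := ⟨⟨_, _, hne⟩⟩
    have hpos : 0 < finrank k K := Module.finrank_pos (R := k) (M := K)
    have hKeq : finrank k K = 1 := le_antisymm hK1 hpos
    obtain ⟨c, hc⟩ := (finrank_eq_one_iff_of_nonzero' _ hne).mp hKeq ⟨s, hs⟩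
    exact ⟨c, funext fun b => by simpa using (congrFun (congrArg Subtype.val hc) b).symm⟩
  set KS : Submodule k S := LinearMap.ker fS with hKS
  have hKSfix : ∀ g, ∀ s ∈ KS, π g (s : α → k) = s := by
    intro g s hs
    obtain ⟨c, hc⟩ := hKconst s ⟨s.2, LinearMap.mem_ker.mpr (LinearMap.mem_ker.mp hs)⟩
    rw [hc]; rfl
  have hKSdim : finrank k KS = 1 := by
    refine le_antisymm ?_ ?_
    · refine le_trans (LinearMap.finrank_le_finrank_of_injective (f := ((S.subtype.comp KS.subtype).codRestrict K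
        fun s => ⟨(s : S).2, LinearMap.mem_ker.mpr (LinearMap.mem_ker.mp s.2)⟩)) ?_) hK1
      intro u v huv
      exact Subtype.ext (Subtype.ext (congrArg Subtype.val huv :))
    · have hne : (⟨⟨_, hone⟩, LinearMap.mem_ker.mpr hfone⟩ : KS) ≠ 0 := fun h => by
        have := congrFun (congrArg (fun u : KS => ((u : S) : α → k)) h) a
        simp at this
      haveI : Nontrivial KS := ⟨⟨_, _, hne⟩⟩
      exact Module.finrank_pos (R := k) (M := KS)
  set Im : Submodule k (Fin n → k) := LinearMap.range fS with hIm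
  have hImdim : finrank k Im = p - 2 := by
    have h := fS.finrank_range_add_finrank_ker
    rw [← hKS, ← hIm, hKSdim, hS, finrank_sumZero hα] at h
    omega
  have hImv : ∀ g, Im ≤ Im.comap (σ g) := by
    rintro g _ ⟨s, rfl⟩
    exact ⟨⟨_, hSinv g s s.2⟩, hf g s s.2⟩
  let τ₀ : Representation k G ((Fin n → k) ⧸ Im) :=
    { toFun := fun g => Im.mapQ Im (σ g) (hImv g)
      map_one' := Submodule.linearMap_qext _ (LinearMap.ext fun v => by simp)
      map_mul' := fun g h => Submodule.linearMap_qext _ (LinearMap.ext fun v => by simp) }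
  have hdim3 : finrank k ((Fin n → k) ⧸ Im) = 3 := by
    have h := Im.finrank_quotient_add_finrank
    rw [hImdim, Module.finrank_fin_fun] at h
    omega
  let e : ((Fin n → k) ⧸ Im) ≃ₗ[k] (Fin 3 → k) := (Module.finBasisOfFinrankEq k _ hdim3).equivFun
  let τ : Representation k G (Fin 3 → k) :=
    { toFun := fun g => e.conj (τ₀ g)
      map_one' := by ext w; simp
      map_mul' := fun g h => by ext w; simp }
  refine ⟨τ, fun g => ?_, fun φ hφ => ?_⟩
  · have h1 : LinearMap.trace k _ (τ g) = LinearMap.trace k _ (τ₀ g) := LinearMap.trace_conj' _ _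
    rw [h1, ModRep.trace_add (σ g) Im (hImv g), add_comm]
    refine congrArg (· + _) ?_
    -- the trace on the image
    let gS : Module.End k S := (π g).restrict (hSinv g)
    have hgK : KS ≤ KS.comap gS := by
      intro s hs
      rw [Submodule.mem_comap]
      have : gS s = s := Subtype.ext (hKSfix g s hs)
      rw [this]; exact hs
    have hSsum : ∀ s : α → k, π g s - s ∈ S := fun s => by
      rw [hS, mem_sumZero]; simp [Finset.sum_sub_distrib, hπ, permRep_sum]
    have hSle : S ≤ S.comap (π g) := fun s hs => hSinv g s hs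
    have t1 := ModRep.trace_add (π g) S hSle
    have hq1 : S.mapQ S (π g) hSle = LinearMap.id := by
      refine Submodule.linearMap_qext _ (LinearMap.ext fun s => ?_)
      simpa [Submodule.Quotient.eq] using hSsum s
    have hqdim : finrank k ((α → k) ⧸ S) = 1 := by
      have h := S.finrank_quotient_add_finrank
      have hSd : finrank k S = p - 1 := finrank_sumZero hα
      rw [Module.finrank_pi, hα, hSd] at h
      have := hp.out.two_le
      omega
    rw [hq1, LinearMap.trace_id, hqdim, Nat.cast_one, permRep_trace] at t1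
    have t2 := ModRep.trace_add gS KS hgK
    have hid : (gS.restrict (p := KS) (q := KS) fun x hx => hgK hx) = (LinearMap.id : KS →ₗ[k] KS) :=
      LinearMap.ext fun s => Subtype.ext (Subtype.ext (hKSfix g s s.2))
    have hid1 : LinearMap.trace k KS (LinearMap.id : KS →ₗ[k] KS) = 1 := by
      haveI : Module.Free k KS := Module.Free.of_divisionRing k KS
      refine (LinearMap.trace_id k KS).trans ?_
      rw [hKSdim, Nat.cast_one]
    rw [hid, hid1] at t2
    let eq₀ : (S ⧸ KS) ≃ₗ[k] Im := fS.quotKerEquivRange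
    have hconjeq : eq₀.conj (KS.mapQ KS gS hgK) = ((σ g).restrict (p := Im) (q := Im) fun x hx => hImv g hx) := by
      refine LinearMap.ext fun y => ?_
      obtain ⟨q, rfl⟩ := eq₀.surjective y
      obtain ⟨s, rfl⟩ := Submodule.Quotient.mk_surjective _ q
      rw [LinearEquiv.conj_apply, LinearMap.comp_apply, LinearMap.comp_apply, LinearEquiv.coe_coe,
        LinearEquiv.coe_coe, LinearEquiv.symm_apply_apply, Submodule.mapQ_apply]
      exact Subtype.ext (hf g s s.2)
    have t3 : LinearMap.trace k _ ((σ g).restrict (p := Im) (q := Im) fun x hx => hImv g hx) =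
        LinearMap.trace k _ (KS.mapQ KS gS hgK) := by rw [← hconjeq, LinearMap.trace_conj']
    have t4 : LinearMap.trace k S ((π g).restrict (p := S) (q := S) fun x hx => hSle hx) = LinearMap.trace k S gS := rfl
    rw [t3]
    linear_combination t2 + t1 + t4
  · have h1 : φ.comp (e.toLinearMap.comp Im.mkQ) = 0 := by
      refine hfun _ fun g v => ?_
      have := hφ g (e (Im.mkQ v))
      simp only [LinearMap.comp_apply, LinearEquiv.coe_coe]
      rw [← this]
      congr 1
      show _ = e.conj (τ₀ g) (e (Im.mkQ v))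
      rw [LinearEquiv.conj_apply, LinearMap.comp_apply, LinearMap.comp_apply, LinearEquiv.coe_coe,
        LinearEquiv.coe_coe, LinearEquiv.symm_apply_apply]
      rfl
    refine LinearMap.ext fun w => ?_
    obtain ⟨v, hv⟩ := Im.mkQ_surjective (e.symm w)
    have := LinearMap.congr_fun h1 v
    simpa [hv] using this

end Cfsg.Agent.PrimeDegreeTI
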