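/-
Lifting the multiplier and realising the exceptional character (namespace `Cfsg.Agent.PrimeDegreeTI`).

* `exists_lift_hom` : a complex valued lift of the multiplier
* `exists_normalizer_hom` : its extension to the Sylow normalizer
* `classInner_normalizer_eq_one` : the exceptional character has it once
* `sum_stabilizer_eq_zero` : no fixed vectors of a point stabilizer
-/
import Cfsg.Agent.Lib.PrimeDegreeTI.Good
import Cfsg.Agent.Lib.PrimeDegreeTI.Exceptional
import Mathlib.GroupTheory.SpecificGroups.Cyclic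

set_option autoImplicit false
set_option linter.unusedSectionVars false
set_option linter.style.haveILetI false

open scoped ComplexConjugate

namespace Cfsg.Agent.PrimeDegreeTI

open Cfsg Cfsg.Agent MulAction

universe u v

variable {p : ℕ} [hp : Fact p.Prime] {M : Ideal AlgInt} {G : Type u} [Group G] [Fintype G]

theorem isPrimitiveRoot_multK {k : Type*} [Field k] [CharP k p] {E : Type*} [Group E] [Finite E]
    (m : E →* (ZMod p)ˣ) (hm : Function.Injective m) {r₀ : E} (hgen : ∀ r : E, r ∈ Subgroup.zpowers r₀) :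
    IsPrimitiveRoot (multK (k := k) m r₀) (Nat.card E) := by
  have hinj : Function.Injective (multK (k := k) m) := fun r s h =>
    hm (Units.ext ((ZMod.castHom (dvd_refl p) k).injective h))
  rw [← orderOf_eq_card_of_forall_mem_zpowers hgen, ← orderOf_injective (multK (k := k) m) hinj r₀]
  exact IsPrimitiveRoot.orderOf _

theorem exists_lift_hom (hM : IsPModular p M) (E : Subgroup G) [Fintype E] (m : E →* (ZMod p)ˣ)
    (hm : Function.Injective m) {r₀ : E} (hgen : ∀ r : E, r ∈ Subgroup.zpowers r₀) (hpe : ¬ p ∣ Nat.card E) :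
    ∃ φ : E →* Blocks.locRing hM, IsPrimitiveRoot ((φ r₀ : Blocks.locRing hM) : ℂ) (Nat.card E) ∧
      (letI := ModRep.resField hM; haveI : CharP (BrauerPairs.Res M) p := BrauerPairs.res_charP hM
       ∀ r, CyclicDefect.resR hM (φ r) = multK (k := BrauerPairs.Res M) m r) := by
  letI := ModRep.resField hM
  haveI : CharP (BrauerPairs.Res M) p := BrauerPairs.res_charP hM
  obtain ⟨z, hz, hzres⟩ := exists_lift_root hM hpe Nat.card_pos.ne' _ (isPrimitiveRoot_multK m hm hgen)
  have hz1 : z ^ Nat.card E = 1 := Subtype.ext (by simpa using hz.pow_eq_one)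
  let g' : (Blocks.locRing hM)ˣ := Units.ofPowEqOne z _ hz1 Nat.card_pos.ne'
  have hg' : orderOf g' ∣ orderOf r₀ := by
    rw [orderOf_eq_card_of_forall_mem_zpowers hgen, orderOf_dvd_iff_pow_eq_one]
    exact Units.ext (by simpa [g'] using hz1)
  let φ : E →* Blocks.locRing hM := (Units.coeHom _).comp (monoidHomOfForallMemZpowers hgen hg')
  have hφ : φ r₀ = z := by
    show ((monoidHomOfForallMemZpowers hgen hg' r₀ : (Blocks.locRing hM)ˣ) : Blocks.locRing hM) = z
    rw [monoidHomOfForallMemZpowers_apply_gen]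
    rfl
  refine ⟨φ, by rw [hφ]; exact hz, fun r => ?_⟩
  obtain ⟨i, rfl⟩ := (isOfFinOrder_of_finite r₀).mem_powers_iff_mem_zpowers.mpr (hgen r)
  simp only [map_pow, hφ, hzres]

variable (P : Subgroup G) (E : Subgroup G) [Fintype E] {x : G} (hx : orderOf x = p) (hP : P = Subgroup.zpowers x)
  (hPE : P ⊔ E = Subgroup.normalizer (P : Set G)) (hPE' : P ⊓ E = ⊥) (m : E →* (ZMod p)ˣ)
  (hm : Function.Injective m) (hconj : ∀ r : E, (r : G) * x * (r : G)⁻¹ = x ^ ((m r : ZMod p).val))

include hPE in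
theorem exists_decomp {g : G} (hg : g ∈ Subgroup.normalizer (P : Set G)) :
    ∃ y ∈ P, ∃ r : E, y * r = g := by
  have hEN : E ≤ Subgroup.normalizer (P : Set G) := hPE ▸ le_sup_right
  rw [← hPE, ← SetLike.mem_coe, Subgroup.coe_mul_of_right_le_normalizer_left P E hEN] at hg
  obtain ⟨y, hy, r, hr, he⟩ := Set.mem_mul.mp hg
  exact ⟨y, hy, ⟨r, hr⟩, he⟩

include hPE' in
theorem decomp_unique {y y' : G} (hy : y ∈ P) (hy' : y' ∈ P) {r r' : E} (h : y * (r : G) = y' * (r' : G)) :
    y = y' ∧ r = r' := by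
  have h1 : y'⁻¹ * y = (r' : G) * (r : G)⁻¹ := by
    rw [eq_mul_inv_iff_mul_eq, mul_assoc, h, inv_mul_cancel_left]
  have h2 : y'⁻¹ * y ∈ P ⊓ E := ⟨P.mul_mem (P.inv_mem hy') hy, h1 ▸ E.mul_mem r'.2 (E.inv_mem r.2)⟩
  rw [hPE', Subgroup.mem_bot] at h2
  refine ⟨(inv_mul_eq_one.mp h2).symm, ?_⟩
  rw [h2] at h1
  exact Subtype.ext (mul_inv_eq_one.mp h1.symm).symm

include hPE hPE' in
theorem exists_normalizer_hom {R : Type*} [CommMonoid R] (φ : E →* R) :
    ∃ ν : Subgroup.normalizer (P : Set G) →* R,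
      ∀ (h : Subgroup.normalizer (P : Set G)) (y : G), y ∈ P → ∀ r : E, y * r = h → ν h = φ r := by
  choose y hy r hr using fun h : Subgroup.normalizer (P : Set G) => exists_decomp P E hPE h.2
  have hun : ∀ (h : Subgroup.normalizer (P : Set G)) (y' : G), y' ∈ P → ∀ r' : E, y' * r' = h → φ (r h) = φ r' :=
    fun h y' hy' r' he => by rw [(decomp_unique P E hPE' (hy h) hy' ((hr h).trans he.symm)).2]
  refine ⟨{ toFun := fun h => φ (r h), map_one' := ?_, map_mul' := fun a b => ?_ }, fun h y' hy' r' he => hun h y' hy' r' he⟩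
  · rw [hun 1 1 P.one_mem 1 (by simp), map_one]
  · rw [← map_mul]
    refine hun _ (y a * ((r a : G) * y b * (r a : G)⁻¹)) (P.mul_mem (hy a) ?_) _ ?_
    · exact (Subgroup.mem_normalizer_iff.mp ((hPE ▸ le_sup_right : E ≤ _) (r a).2) _).mp (hy b)
    · rw [Subgroup.coe_mul, Subgroup.coe_mul, ← hr a, ← hr b]; group

include hx hP hPE hPE' hm hconj in
theorem classInner_normalizer_eq_one [Fintype (Subgroup.normalizer (P : Set G))]
    (φ : E →* ℂ) (hφ2 : φ * φ ≠ 1) (ν : Subgroup.normalizer (P : Set G) →* ℂ)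
    (hν : ∀ (h : Subgroup.normalizer (P : Set G)) (y : G), y ∈ P → ∀ r : E, y * r = h → ν h = φ r)
    {D : G → ℂ} (hDcl : IsClassFunction G D) (hD1 : D 1 = p + 1)
    (hDE : ∀ r : E, r ≠ 1 → D r = φ r + conj (φ r)) (hDP : ∀ g : G, orderOf g = p → D g = 1) :
    classInner (fun h : Subgroup.normalizer (P : Set G) => D h) (ν : Subgroup.normalizer (P : Set G) → ℂ) = 1 := by
  classical
  have hPN : P ≤ Subgroup.normalizer (P : Set G) := Subgroup.le_normalizer
  have hEN : E ≤ Subgroup.normalizer (P : Set G) := hPE ▸ le_sup_right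
  haveI : Fintype P := Fintype.ofFinite P
  let Θ : P × E ≃ Subgroup.normalizer (P : Set G) := Equiv.ofBijective
    (fun z => ⟨z.1 * z.2, (Subgroup.normalizer (P : Set G)).mul_mem (hPN z.1.2) (hEN z.2.2)⟩)
    ⟨fun z z' h => by
      obtain ⟨h1, h2⟩ := decomp_unique P E hPE' z.1.2 z'.1.2 (congrArg Subtype.val h)
      exact Prod.ext (Subtype.ext h1) h2,
    fun h => by
      obtain ⟨y, hy, r, he⟩ := exists_decomp P E hPE h.2
      exact ⟨(⟨y, hy⟩, r), Subtype.ext he⟩⟩
  have hPc : Nat.card P = p := by rw [hP, Nat.card_zpowers, hx]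
  have hconjE : ∀ y ∈ P, ∀ r : E, r ≠ 1 → D (y * r) = D r := by
    intro y hy r hr
    rw [hP] at hy
    obtain ⟨i, rfl⟩ := (isOfFinOrder_of_finite x).mem_powers_iff_mem_zpowers.mpr hy
    have hne : (1 : ZMod p) - (m r : ZMod p) ≠ 0 := by
      rw [sub_ne_zero]
      exact fun h => hr (hm (by rw [map_one]; exact (Units.ext h).symm))
    set l := (i : ZMod p) / (1 - (m r : ZMod p)) with hl
    have e : x ^ l.val * (r : G) * (x ^ l.val)⁻¹ = x ^ i * r := by
      have h1 : (r : G) * (x ^ l.val)⁻¹ = (x ^ ((m r : ZMod p) * l).val)⁻¹ * r := by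
        have h2 : (r : G) * x ^ l.val * (r : G)⁻¹ = x ^ ((m r : ZMod p) * l).val := by
          rw [← conj_pow, hconj r, ← pow_mul, pow_eq_pow_iff_modEq, hx, ← ZMod.natCast_eq_natCast_iff]
          simp
        rw [← h2]; group
      rw [mul_assoc, h1, ← mul_assoc]
      congr 1
      rw [mul_inv_eq_iff_eq_mul, ← pow_add, pow_eq_pow_iff_modEq, hx, ← ZMod.natCast_eq_natCast_iff]
      simp only [Nat.cast_add, ZMod.natCast_val, ZMod.cast_id, id_eq]
      rw [hl]
      field_simp
      ring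
    rw [← e, hDcl]
  have hφc : ∀ r : E, conj (φ r) * φ r = 1 := fun r => by
    rw [conj_hom, ← map_mul, inv_mul_cancel, map_one]
  have hinner : ∀ r : E, ∑ y : P, D ((y : G) * r) * conj (φ r) =
      (p : ℂ) + (p : ℂ) * conj ((φ * φ) r) := by
    intro r
    by_cases hr : r = 1
    · subst hr
      have h1 : ∀ y : P, D ((y : G) * ((1 : E) : G)) * conj (φ 1) = 1 + if y = 1 then (p : ℂ) else 0 := by
        intro y
        rw [OneMemClass.coe_one, mul_one, map_one, map_one, mul_one]
        by_cases hy : y = 1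
        · subst hy; rw [if_pos rfl, OneMemClass.coe_one, hD1, add_comm]
        · rw [if_neg hy, add_zero, hDP]
          have h2 : orderOf (y : G) ∣ p := hPc ▸ Subgroup.orderOf_dvd_natCard P y.2
          exact ((Nat.dvd_prime hp.out).mp h2).resolve_left fun h => hy (Subtype.ext (orderOf_eq_one_iff.mp h))
      rw [Finset.sum_congr rfl fun y _ => h1 y, Finset.sum_add_distrib, Finset.sum_const, Finset.sum_ite_eq',
        if_pos (Finset.mem_univ _), Finset.card_univ, ← Nat.card_eq_fintype_card, hPc]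
      simp
    · rw [Finset.sum_congr rfl fun y _ => by rw [hconjE y y.2 r hr, hDE r hr], Finset.sum_const, Finset.card_univ,
        ← Nat.card_eq_fintype_card, hPc, nsmul_eq_mul, MonoidHom.mul_apply, map_mul]
      linear_combination (p : ℂ) * hφc r
  rw [classInner, ← Fintype.sum_equiv Θ (fun z => D (Θ z : G) * conj (ν (Θ z))) _ (fun z => rfl),
    ← Nat.card_congr Θ, Nat.card_prod, hPc, Fintype.sum_prod_type, Finset.sum_comm]
  have hterm : ∀ r : E, ∑ y : P, D ((Θ (y, r)) : G) * conj (ν (Θ (y, r))) = (p : ℂ) + (p : ℂ) * conj ((φ * φ) r) := by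
    intro r
    rw [← hinner r]
    refine Finset.sum_congr rfl fun y _ => ?_
    rw [hν (Θ (y, r)) y y.2 r rfl]
    rfl
  rw [Finset.sum_congr rfl fun r _ => hterm r, Finset.sum_add_distrib, ← Finset.mul_sum, ← map_sum, sum_hom,
    if_neg hφ2, map_zero, mul_zero, add_zero, Finset.sum_const, Finset.card_univ, nsmul_eq_mul,
    ← Nat.card_eq_fintype_card]
  have h1 : (p : ℂ) ≠ 0 := Nat.cast_ne_zero.2 hp.out.ne_zero
  have h2 : (Nat.card E : ℂ) ≠ 0 := Nat.cast_ne_zero.2 Nat.card_pos.ne'
  push_cast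
  field_simp

variable {α : Type v} [Fintype α] [MulAction G α] [IsPretransitive G α]

theorem sum_stabilizer_eq_zero (a : α) [Fintype (stabilizer G a)] {D : G → ℂ} (hD : IsClassFunction G D)
    (h : classInner D (fun g => (Nat.card (fixedBy α g) : ℂ)) = 0) :
    ∑ g : stabilizer G a, D g = 0 := by
  classical
  rw [classInner, mul_eq_zero, inv_eq_zero] at h
  have h' := h.resolve_left (Nat.cast_ne_zero.2 Nat.card_pos.ne')
  simp only [Complex.conj_natCast] at h'
  have hfix : ∀ g : G, (Nat.card (fixedBy α g) : ℂ) = ∑ b : α, if g • b = b then 1 else 0 := fun g => by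
    rw [Finset.sum_boole, Nat.card_eq_fintype_card, Fintype.card_subtype]
    rfl
  simp only [hfix, Finset.mul_sum, mul_ite, mul_one, mul_zero] at h'
  rw [Finset.sum_comm] at h'
  have hb : ∀ b : α, (∑ g : G, if g • b = b then D g else 0) = ∑ g : stabilizer G a, D g := by
    intro b
    obtain ⟨c, rfl⟩ := exists_smul_eq G a b
    rw [← Finset.sum_filter, Finset.sum_subtype (p := fun g : G => g ∈ stabilizer G (c • a)) _ (fun g => by simp)]
    refine Fintype.sum_equiv ((MulAut.conj c⁻¹).toEquiv.subtypeEquiv fun g => ?_) _ _ fun g => ?_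
    · simp [mem_stabilizer_iff, mul_smul, inv_smul_eq_iff]
    · show D (g : G) = D (c⁻¹ * g * c⁻¹⁻¹)
      rw [hD]
  rw [Finset.sum_congr rfl fun b _ => hb b, Finset.sum_const, nsmul_eq_mul, mul_eq_zero] at h'
  refine h'.resolve_left ?_
  rw [Nat.cast_eq_zero, Finset.card_univ, Fintype.card_eq_zero_iff, not_isEmpty_iff]
  exact ⟨a⟩

end Cfsg.Agent.PrimeDegreeTI
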