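/-
Integral realisations of irreducible characters with a linear constituent of multiplicity one on a subgroup
(namespace `Cfsg.Agent.PrimeDegreeTI`).

* `exists_exact_realisation` : matrices with local integer entries affording the character
-/
import Cfsg.Agent.Lib.BrauerSuzuki.Lattice

set_option autoImplicit false
set_option linter.unusedSectionVars false

open scoped ComplexConjugate

namespace Cfsg.Agent.PrimeDegreeTI

open Cfsg Cfsg.Agent Cfsg.Agent.Blocks Cfsg.Agent.BrauerSuzuki

variable {p : ℕ} {M : Ideal AlgInt} {G : Type*} [Group G] [Fintype G]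

theorem eq_of_trace {χ : G → ℂ} (hχ : IsIrrCharacter G χ) {n d : ℕ} (hd : χ 1 = d) (hn : 0 < n)
    (hnd : n ≤ d) (hd0 : 0 < d) (ρ : G →* Matrix (Fin n) (Fin n) ℂ)
    (hΘ : ∀ g, (ρ g).trace = (n / χ 1) * χ g) : n = d := by
  let r : Representation ℂ G (Fin n → ℂ) := Matrix.toLinAlgEquiv'.toAlgHom.toRingHom.toMonoidHom.comp ρ
  have hr : r.character = fun g => (ρ g).trace := funext fun g => by
    show LinearMap.trace ℂ _ (Matrix.toLinAlgEquiv' (ρ g)) = _
    exact Matrix.trace_toLin'_eq (ρ g)
  obtain ⟨k, hk⟩ := Char.IsCharacter.classInner_nat (Char.isCharacter_character r) (Char.IsIrrCharacter.isCharacter hχ)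
  rw [hr, show (fun g => (ρ g).trace) = ((n : ℂ) / χ 1) • χ from funext hΘ, Char.classInner_smul_left,
    Char.classInner_irr_self hχ, mul_one, hd, div_eq_iff (Nat.cast_ne_zero.2 hd0.ne')] at hk
  have hk' : n = k * d := by exact_mod_cast hk
  rcases Nat.eq_zero_or_pos k with h | h
  · simp [h] at hk'; omega
  · nlinarith

theorem rank_le {χ : G → ℂ} (hχ : IsIrrCharacter G χ) (H : Subgroup G) [Fintype H] (ν : H →* ℂ)
    (hν : classInner (fun h : H => χ h) (ν : H → ℂ) = 1) {d : ℕ} (hd : χ 1 = d) (v : G → G → ℂ)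
    (hv : ∀ x h, v x h = ∑ y : H, conj (ν y) * χ (h * x * y)) {n : ℕ} (s : Fin n → G)
    (hli : LinearIndependent ℂ (v ∘ s)) : n ≤ d := by
  classical
  obtain ⟨m, r, -, rfl⟩ := hχ
  have hmd : m = d := by
    rw [Representation.char_one, Module.finrank_fin_fun] at hd
    exact_mod_cast hd
  subst hmd
  have hcard0 : (Nat.card H : ℂ) ≠ 0 := Nat.cast_ne_zero.2 Nat.card_pos.ne'
  have hstar : ∀ y : H, conj (ν y) = ν y⁻¹ := fun y =>
    (Char.IsCharacter.apply_inv (Char.isCharacter_of_hom ν) y).symm
  set T : Module.End ℂ (Fin m → ℂ) := ∑ y : H, conj (ν y) • r (y : G) with hT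
  have hTy : ∀ y : H, r (y : G) * T = ν y • T := by
    intro y
    rw [hT, Finset.mul_sum, Finset.smul_sum]
    refine Fintype.sum_equiv (Equiv.mulLeft y) _ _ fun z => ?_
    rw [Equiv.coe_mulLeft, mul_smul_comm, ← map_mul, Subgroup.coe_mul, smul_smul, hstar, hstar,
      mul_inv_rev]
    congr 1
    rw [← map_mul, show y * (z⁻¹ * y⁻¹) = y * z⁻¹ * y⁻¹ from (mul_assoc _ _ _).symm, map_mul, mul_comm, ← map_mul,
      inv_mul_cancel_left]
  have hTT : T * T = (Nat.card H : ℂ) • T := by
    nth_rewrite 1 [hT]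
    rw [Finset.sum_mul]
    simp only [smul_mul_assoc, hTy, smul_smul]
    rw [Finset.sum_congr rfl fun y _ => by rw [hstar, ← map_mul, inv_mul_cancel, map_one]]
    rw [Finset.sum_const, one_smul, Finset.card_univ, ← Nat.card_eq_fintype_card, Nat.cast_smul_eq_nsmul]
  set E0 : Module.End ℂ (Fin m → ℂ) := (Nat.card H : ℂ)⁻¹ • T with hE0
  have hidem : IsIdempotentElem E0 := by
    rw [IsIdempotentElem, hE0, smul_mul_assoc, mul_smul_comm, hTT, smul_smul, smul_smul, mul_assoc,
      inv_mul_cancel₀ hcard0, mul_one]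
  have htr : LinearMap.trace ℂ _ E0 = 1 := by
    rw [hE0, map_smul, hT, map_sum, smul_eq_mul, ← hν, classInner]
    congr 1
    refine Finset.sum_congr rfl fun y _ => ?_
    rw [map_smul, smul_eq_mul, mul_comm]
    rfl
  have hrk : Module.finrank ℂ (LinearMap.range E0) = 1 := by
    have h := LinearMap.IsProj.trace ((LinearMap.isProj_range_iff_isIdempotentElem E0).mpr hidem)
    rw [htr] at h
    exact_mod_cast h.symm
  obtain ⟨⟨u, hu⟩, hu0, husp⟩ := finrank_eq_one_iff'.mp hrk
  obtain ⟨ψ, hψ⟩ : ∃ ψ : (Fin m → ℂ) →ₗ[ℂ] ℂ, ψ u = 1 := by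
    obtain ⟨i, hi⟩ := Function.ne_iff.mp (show u ≠ 0 from fun h => hu0 (Subtype.ext h))
    exact ⟨(u i)⁻¹ • LinearMap.proj i, by simp [inv_mul_cancel₀ (show u i ≠ 0 from hi)]⟩
  set φ : (Fin m → ℂ) →ₗ[ℂ] ℂ := ψ ∘ₗ E0 with hφ
  have hE0eq : E0 = φ.smulRight u := by
    refine LinearMap.ext fun w => ?_
    obtain ⟨c, hc⟩ := husp ⟨E0 w, LinearMap.mem_range_self _ w⟩
    have hc' : c • u = E0 w := congrArg Subtype.val hc
    rw [LinearMap.smulRight_apply, hφ, LinearMap.comp_apply, ← hc', map_smul, hψ, smul_eq_mul, mul_one]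
  let Ψ : (Fin m → ℂ) →ₗ[ℂ] (G → ℂ) := LinearMap.pi fun h => (Nat.card H : ℂ) • (φ ∘ₗ r h)
  have hvmem : ∀ x, v x ∈ LinearMap.range Ψ := by
    intro x
    refine ⟨r x u, funext fun h => ?_⟩
    rw [hv]
    have h1 : ∀ y : H, conj (ν y) * r.character (h * x * (y : G)) =
        LinearMap.trace ℂ _ (r (h * x) * (conj (ν y) • r (y : G))) := fun y => by
      rw [mul_smul_comm, map_smul, ← map_mul]; rfl
    rw [Finset.sum_congr rfl fun y _ => h1 y, ← map_sum, ← Finset.mul_sum, ← hT,
      show T = (Nat.card H : ℂ) • E0 from (smul_inv_smul₀ hcard0 T).symm, hE0eq, mul_smul_comm, map_smul]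
    rw [show r (h * x) * φ.smulRight u = φ.smulRight (r (h * x) u) from LinearMap.ext fun w => by simp,
      LinearMap.trace_smulRight]
    simp [Ψ]
  have h1 := finrank_span_eq_card hli
  rw [Fintype.card_fin] at h1
  rw [← h1]
  calc Module.finrank ℂ (Submodule.span ℂ (Set.range (v ∘ s)))
      ≤ Module.finrank ℂ (LinearMap.range Ψ) :=
        Submodule.finrank_mono (Submodule.span_le.mpr (by rintro _ ⟨i, rfl⟩; exact hvmem _))
    _ ≤ Module.finrank ℂ (Fin m → ℂ) := LinearMap.finrank_range_le _
    _ = m := Module.finrank_fin_fun ℂ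

/-- An irreducible character with a linear character of multiplicity one on a subgroup is afforded by
matrices with local integer entries. -/
theorem exists_exact_realisation (hM : IsPModular p M) {χ : G → ℂ} (hχ : IsIrrCharacter G χ)
    (H : Subgroup G) [Fintype H] (ν : H →* ℂ) (hν : classInner (fun h : H => χ h) (ν : H → ℂ) = 1) :
    ∃ (n : ℕ) (ρ : G →* Matrix (Fin n) (Fin n) ℂ),
      (∀ g i j, MemLocalRing M (ρ g i j)) ∧ (∀ g, (ρ g).trace = χ g) ∧ (n : ℂ) = χ 1 := by
  classical
  let v : G → G → ℂ := fun x h => ∑ y : H, conj (ν y) * χ (h * x * y)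
  obtain ⟨b, hbsub, hbspan, hbli⟩ := exists_linearIndependent ℂ (Set.range v)
  have hbfin : b.Finite := (Set.finite_range v).subset hbsub
  let := hbfin.fintype
  obtain ⟨n, ⟨e⟩⟩ : ∃ n, Nonempty (Fin n ≃ b) := ⟨_, ⟨(Fintype.equivFin b).symm⟩⟩
  choose t ht using fun i => hbsub (e i).2
  have hvt : v ∘ t = Subtype.val ∘ e := _root_.funext ht
  have hli0 : LinearIndependent ℂ (v ∘ t) := by
    rw [hvt]; exact hbli.comp _ e.injective
  have hspan0 : ∀ x, v x ∈ Submodule.span ℂ (Set.range (v ∘ t)) := fun x => by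
    have : Set.range (v ∘ t) = b := by
      rw [hvt, Set.range_comp, e.surjective.range_eq]
      simp
    rw [this, hbspan]
    exact Submodule.subset_span (Set.mem_range_self x)
  let L : (G → ℂ) →ₗ[ℂ] (Fin n → ℂ) := LinearMap.pi fun i =>
    ∑ h, conj (v (t i) h) • LinearMap.proj h
  have hL : ∀ w i, L w i = ∑ h, conj (v (t i) h) * w h := fun w i => by simp [L]
  let D : (Fin n → G) → ℂ := fun s => (Matrix.of fun i j => L (v (s i)) j).det
  have hint : ∀ g, IsIntegral ℤ (χ g) := fun g =>
    Char.IsCharacter.isIntegral (Char.IsIrrCharacter.isCharacter hχ) g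
  have hintv : ∀ x h, IsIntegral ℤ (v x h) := fun x h =>
    IsIntegral.sum _ fun y _ => ((Char.IsCharacter.isIntegral (Char.isCharacter_of_hom ν) y).map
      (conj : ℂ →+* ℂ).toIntAlgHom).mul (hint _)
  have hDint : ∀ s, IsIntegral ℤ (D s) := fun s => by
    refine IsIntegral.det fun i j => ?_
    rw [Matrix.of_apply, hL]
    exact IsIntegral.sum _ fun h _ => ((hintv _ _).map (conj : ℂ →+* ℂ).toIntAlgHom).mul (hintv _ _)
  have hD0 : D t ≠ 0 := by
    have hinj : ∀ w ∈ Submodule.span ℂ (Set.range (v ∘ t)), L w = 0 → w = 0 := by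
      intro w hw h0
      obtain ⟨a, ha⟩ := (Submodule.mem_span_range_iff_exists_fun ℂ).1 hw
      have h1 : ∑ h, conj (w h) * w h = 0 := by
        calc ∑ h, conj (w h) * w h = ∑ h, ∑ i, conj (a i) * (conj (v (t i) h) * w h) := by
              refine Finset.sum_congr rfl fun h _ => ?_
              conv_lhs => arg 1; rw [← ha]
              simp [Finset.sum_mul, mul_assoc]
          _ = ∑ i, conj (a i) * L w i := by
              rw [Finset.sum_comm]; simp [hL, Finset.mul_sum]
          _ = 0 := by simp [h0]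
      simp only [← Complex.normSq_eq_conj_mul_self] at h1
      norm_cast at h1
      funext h
      have := (Finset.sum_eq_zero_iff_of_nonneg fun h _ => Complex.normSq_nonneg (w h)).1 h1 h
        (Finset.mem_univ h)
      exact Complex.normSq_eq_zero.1 this
    have h2 : LinearIndependent ℂ (fun i => L (v (t i))) := by
      refine hli0.map ?_
      rw [Submodule.disjoint_def]
      exact fun w hw hk => hinj w hw hk
    exact isUnit_iff_ne_zero.1 ((Matrix.isUnit_iff_isUnit_det _).1
      (Matrix.linearIndependent_rows_iff_isUnit.1 h2))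
  obtain ⟨s, -, hs0, hmin⟩ := exists_dvd_min hM Finset.univ D hDint ⟨t, Finset.mem_univ t, hD0⟩
  have hli : LinearIndependent ℂ (v ∘ s) := by
    refine LinearIndependent.of_comp L ?_
    exact Matrix.linearIndependent_rows_of_det_ne_zero hs0
  have hspan : ∀ x, ∃ c : Fin n → ℂ, ∑ i, c i • v (s i) = v x := fun x => by
    refine (Submodule.mem_span_range_iff_exists_fun ℂ).1 ?_
    have h1 : Submodule.span ℂ (Set.range (v ∘ s)) = Submodule.span ℂ (Set.range (v ∘ t)) := by
      refine Submodule.eq_of_le_of_finrank_le (Submodule.span_le.2 ?_) ?_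
      · rintro _ ⟨i, rfl⟩; exact hspan0 _
      · rw [finrank_span_eq_card hli, finrank_span_eq_card hli0]
    exact h1 ▸ hspan0 x
  choose c hc using hspan
  have huniq : ∀ a a' : Fin n → ℂ, ∑ i, a i • v (s i) = ∑ i, a' i • v (s i) → a = a' :=
    fun a a' h => _root_.funext (hli.eq_coords_of_eq h)
  have hcR : ∀ x i, MemLocalRing M (c x i) := fun x i => by
    have h1 : D (Function.update s i x) = c x i * D s := by
      simp only [D]
      rw [← smul_eq_mul, ← Matrix.det_updateRow_sum]
      congr 1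
      ext k j
      by_cases hk : k = i
      · subst hk
        simp [← hc x]
      · simp [hk]
    have h2 := hmin (Function.update s i x) (Finset.mem_univ _)
    rwa [h1, mul_div_assoc, div_self hs0, mul_one] at h2
  let R : G → Matrix (Fin n) (Fin n) ℂ := fun g => Matrix.of fun i j => c (g * s j) i
  have htrans : ∀ g x, ∑ i, c x i • v (g * s i) = v (g * x) := fun g x => by
    funext h
    have := congrFun (hc x) (h * g)
    simpa [v, mul_assoc] using this
  have hR1 : R 1 = 1 := by
    ext i j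
    have : c (s j) = fun k => (1 : Matrix (Fin n) (Fin n) ℂ) k j :=
      huniq _ _ (by simp [hc, Matrix.one_apply, ite_smul])
    simp [R, this]
  have hRm : ∀ g g', R (g * g') = R g * R g' := fun g g' => by
    ext i j
    have : c (g * g' * s j) = fun k => ∑ l, c (g * s l) k * c (g' * s j) l := huniq _ _ (by
      rw [hc]
      simp only [Finset.sum_smul]
      rw [Finset.sum_comm, mul_assoc, ← htrans]
      refine Finset.sum_congr rfl fun l _ => ?_
      rw [← hc (g * s l), Finset.smul_sum]
      exact Finset.sum_congr rfl fun k _ => by rw [smul_smul, mul_comm])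
    simp [R, this, Matrix.mul_apply]
  let ρ : G →* Matrix (Fin n) (Fin n) ℂ := ⟨⟨R, hR1⟩, hRm⟩
  have hop : ∀ f, IsClassFunction G f →
      ∑ g, f g • ρ g = omega χ f • (1 : Matrix (Fin n) (Fin n) ℂ) := fun f hf => by
    ext i j
    have : (fun k => ∑ g, f g * c (g * s j) k) =
        fun k => omega χ f * (1 : Matrix (Fin n) (Fin n) ℂ) k j := huniq _ _ (by
      simp only [Finset.sum_smul, mul_smul]
      rw [Finset.sum_comm]
      simp only [← Finset.smul_sum, hc]
      simp only [Matrix.one_apply, ite_smul, one_smul, zero_smul, Finset.sum_ite_eq',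
        Finset.mem_univ, if_true]
      funext h
      simp only [v, Finset.sum_apply, Pi.smul_apply, smul_eq_mul, Finset.mul_sum]
      rw [Finset.sum_comm]
      refine Finset.sum_congr rfl fun y _ => ?_
      calc _ = conj (ν y) * ∑ g, f g * χ (h * (g * (s j * (y : G)))) := by
              rw [Finset.mul_sum]
              exact Finset.sum_congr rfl fun g _ => by rw [mul_left_comm]; simp only [mul_assoc]
        _ = _ := by
              rw [BrauerSuzuki.sum_translate_eq hχ hf h (s j * (y : G))]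
              simp only [mul_assoc]; ring)
    simpa [ρ, R, Matrix.sum_apply] using congrFun this i
  have hcard0 : (Nat.card H : ℂ) ≠ 0 := Nat.cast_ne_zero.2 Nat.card_pos.ne'
  have hsumν : ∑ y : H, conj (ν y) * χ (y : G) = (Nat.card H : ℂ) := by
    rw [classInner] at hν
    field_simp at hν
    rw [← hν]
    exact Finset.sum_congr rfl fun y _ => mul_comm _ _
  have hn : 0 < n := by
    rcases Nat.eq_zero_or_pos n with h0 | h0
    · exfalso
      haveI : IsEmpty (Fin n) := by rw [h0]; infer_instance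
      have := congrFun (hc 1) 1
      simp [v] at this
      exact hcard0 (by rw [← hsumν, ← this])
    · exact h0
  obtain ⟨d, hd0, hd⟩ := Char.IsIrrCharacter.exists_degree hχ
  have hnd : n ≤ d := rank_le hχ H ν hν hd v (fun x h => rfl) s hli
  suffices hΘ : ∀ g, (ρ g).trace = (n / χ 1) * χ g by
    obtain rfl : n = d := eq_of_trace hχ hd hn hnd hd0 ρ hΘ
    refine ⟨n, ρ, fun g i j => hcR _ _, fun g => ?_, hd.symm⟩
    rw [hΘ g, hd, div_self (Nat.cast_ne_zero.2 hd0.ne'), one_mul]
  set Θ : G → ℂ := fun g => (ρ g).trace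
  set k : ℂ := n / χ 1
  have hΘ : IsClassFunction G Θ := fun g h => by
    simp only [Θ, map_mul]
    rw [Matrix.trace_mul_cycle, ← map_mul, inv_mul_cancel, map_one, one_mul]
  have hdiff : IsClassFunction G (fun g => conj (Θ g - k * χ g)) := fun g h => by
    simp [hΘ g h, Char.IsIrrCharacter.isClassFunction hχ g h]
  have h1 := congrArg Matrix.trace (hop _ hdiff)
  simp only [Matrix.trace_sum, Matrix.trace_smul, Matrix.trace_one, Fintype.card_fin, smul_eq_mul,
    omega_eq_sum] at h1
  have h2 : ∑ g, conj (Θ g - k * χ g) * (Θ g - k * χ g) = 0 := by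
    calc ∑ g, conj (Θ g - k * χ g) * (Θ g - k * χ g)
        = ∑ g, conj (Θ g - k * χ g) * Θ g - k * ∑ g, conj (Θ g - k * χ g) * χ g := by
          rw [Finset.mul_sum, ← Finset.sum_sub_distrib]
          exact Finset.sum_congr rfl fun g _ => by ring
      _ = 0 := by rw [h1]; simp only [k]; ring
  simp only [← Complex.normSq_eq_conj_mul_self] at h2
  norm_cast at h2
  intro g
  have := (Finset.sum_eq_zero_iff_of_nonneg fun h _ => Complex.normSq_nonneg _).1 h2 g
    (Finset.mem_univ g)
  exact sub_eq_zero.1 (Complex.normSq_eq_zero.1 this)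

end Cfsg.Agent.PrimeDegreeTI
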