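/-
Three dimensional representations of simple groups with symmetric traces (namespace `Cfsg.Agent.PrimeDegreeTI`).

* `hom_mat_two_trivial` : a simple group of even order has no nontrivial representation of degree at most two
* `three_irreducible` : a three dimensional representation without invariant functionals is irreducible
* `exists_symm_form` : it preserves a symmetric nondegenerate form, if its traces are symmetric under inversion
-/
import Cfsg.Agent.Lib.ModRep.Basic
import Mathlib.LinearAlgebra.Matrix.Charpoly.Coeff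
import Mathlib.GroupTheory.Abelianization.Defs

set_option autoImplicit false
set_option linter.unusedSectionVars false

open Matrix Module

namespace Cfsg.Agent.PrimeDegreeTI

universe u w

variable {k : Type w} [Field k] {G : Type u} [Group G] [Finite G] [IsSimpleGroup G]

theorem hom_comm_trivial (hG : commutator G = ⊤) {A : Type*} [CommGroup A] (f : G →* A) (g : G) : f g = 1 :=
  Abelianization.commutator_subset_ker f (hG.symm ▸ Subgroup.mem_top g)

theorem center_eq_bot_of_perfect (hG : commutator G = ⊤) : Subgroup.center G = ⊥ := by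
  rcases IsSimpleGroup.eq_bot_or_eq_top_of_normal (Subgroup.center G) inferInstance with h | h
  · exact h
  · exfalso
    haveI : Nontrivial G := IsSimpleGroup.toNontrivial
    obtain ⟨g, hg⟩ := exists_ne (1 : G)
    apply hg
    have : commutator G = ⊥ := by
      rw [commutator_def, Subgroup.commutator_eq_bot_iff_le_centralizer]
      intro a _
      rw [Subgroup.mem_centralizer_iff]
      intro b _
      exact Subgroup.mem_center_iff.mp (h ▸ Subgroup.mem_top a) b
    have h1 : g ∈ commutator G := hG.symm ▸ Subgroup.mem_top g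
    rwa [this, Subgroup.mem_bot] at h1

theorem hom_mat_two_trivial (hG : commutator G = ⊤) (heven : 2 ∣ Nat.card G) (h2 : (2 : k) ≠ 0)
    (T : G →* Matrix (Fin 2) (Fin 2) k) : T = 1 := by
  by_contra hne
  have hdet : ∀ g, (T g).det = 1 := fun g => by
    have := congrArg Units.val (hom_comm_trivial hG (((Matrix.detMonoidHom).comp T).toHomUnits) g)
    simpa using this
  have hinj : ∀ g, T g = 1 → g = 1 := by
    intro g hg
    rcases IsSimpleGroup.eq_bot_or_eq_top_of_normal T.toHomUnits.ker inferInstance with h | h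
    · have : g ∈ T.toHomUnits.ker := Units.ext (by simpa using hg)
      rwa [h, Subgroup.mem_bot] at this
    · exfalso
      refine hne (MonoidHom.ext fun g => ?_)
      have := congrArg Units.val (MonoidHom.mem_ker.mp (h ▸ Subgroup.mem_top g : g ∈ T.toHomUnits.ker))
      simpa using this
  haveI : Fact (Nat.Prime 2) := ⟨Nat.prime_two⟩
  obtain ⟨t, ht⟩ := exists_prime_orderOf_dvd_card' 2 heven
  set A := T t with hA
  have htt : t * t = 1 := by
    have := pow_orderOf_eq_one t
    rwa [ht, pow_two] at this
  have hAA : A * A = 1 := by rw [hA, ← map_mul, htt, map_one]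
  have hA1 : A ≠ 1 := fun h => by
    have := hinj t h
    rw [this, orderOf_one] at ht
    omega
  have hd := hdet t
  rw [← hA, Matrix.det_fin_two] at hd
  have e00 := congrFun (congrFun hAA 0) 0
  have e01 := congrFun (congrFun hAA 0) 1
  have e10 := congrFun (congrFun hAA 1) 0
  have e11 := congrFun (congrFun hAA 1) 1
  simp [Matrix.mul_apply, Fin.sum_univ_two] at e00 e01 e10 e11
  -- trace times entry
  have k00 : (A 0 0 + A 1 1) * A 0 0 = 2 := by linear_combination e00 + hd
  have k01 : (A 0 0 + A 1 1) * A 0 1 = 0 := by linear_combination e01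
  have k10 : (A 0 0 + A 1 1) * A 1 0 = 0 := by linear_combination e10
  have k11 : (A 0 0 + A 1 1) * A 1 1 = 2 := by linear_combination e11 + hd
  have htr : A 0 0 + A 1 1 ≠ 0 := fun h => h2 (by rw [← k00, h, zero_mul])
  have h01 := (mul_eq_zero.mp k01).resolve_left htr
  have h10 := (mul_eq_zero.mp k10).resolve_left htr
  have hdd : A 1 1 = A 0 0 := mul_left_cancel₀ htr (k11.trans k00.symm)
  have hscal : A = A 0 0 • (1 : Matrix (Fin 2) (Fin 2) k) := by
    ext i j; fin_cases i <;> fin_cases j <;> simp [h01, h10, hdd]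
  have hcen : t ∈ Subgroup.center G := by
    rw [Subgroup.mem_center_iff]
    intro g
    have h1 : T (g * t * g⁻¹ * t⁻¹) = 1 := by
      have hc : T g * A = A * T g := by rw [hscal, mul_smul_comm, smul_mul_assoc, mul_one, one_mul]
      rw [map_mul, map_mul, map_mul, ← hA, hc, mul_assoc A, ← map_mul, mul_inv_cancel, map_one, mul_one,
        hA, ← map_mul, mul_inv_cancel, map_one]
    exact mul_inv_eq_iff_eq_mul.mp (mul_inv_eq_one.mp (hinj _ h1))
  rw [center_eq_bot_of_perfect hG, Subgroup.mem_bot] at hcen
  rw [hcen, orderOf_one] at ht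
  omega

theorem rep_small_trivial (hG : commutator G = ⊤) (heven : 2 ∣ Nat.card G) (h2 : (2 : k) ≠ 0)
    {V : Type*} [AddCommGroup V] [Module k V] [FiniteDimensional k V] (τ : Representation k G V)
    (hV : finrank k V ≤ 2) (g : G) : τ g = 1 := by
  let b := Module.finBasis k V
  let T : G →* Matrix (Fin (finrank k V)) (Fin (finrank k V)) k :=
    (LinearMap.toMatrixAlgEquiv b).toAlgHom.toRingHom.toMonoidHom.comp τ
  suffices T g = 1 by
    exact (LinearMap.toMatrixAlgEquiv b).injective (this.trans (map_one _).symm)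
  have key : ∀ d, d ≤ 2 → ∀ T : G →* Matrix (Fin d) (Fin d) k, T g = 1 := by
    intro d hd T
    match d, hd with
    | 0, _ => exact Matrix.ext fun i _ => i.elim0
    | 1, _ =>
      have := congrArg Units.val (hom_comm_trivial hG (((Matrix.detMonoidHom).comp T).toHomUnits) g)
      simp at this
      ext i j
      rw [Subsingleton.elim i 0, Subsingleton.elim j 0, Matrix.one_apply_eq]
      exact this
    | 2, _ => rw [hom_mat_two_trivial hG heven h2 T, MonoidHom.one_apply]
  exact key _ hV T

theorem three_irreducible (hG : commutator G = ⊤) (heven : 2 ∣ Nat.card G) (h2 : (2 : k) ≠ 0)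
    (τ : Representation k G (Fin 3 → k)) (hfun : ∀ φ : (Fin 3 → k) →ₗ[k] k, (∀ g v, φ (τ g v) = φ v) → φ = 0) :
    τ.IsIrreducible := by
  haveI : Nontrivial (Subrepresentation τ) := ⟨⊥, ⊤, fun h => by
    have h1 : (⊥ : Submodule k (Fin 3 → k)) = ⊤ := congrArg Subrepresentation.toSubmodule h
    exact bot_ne_top h1⟩
  refine ⟨fun Y => ?_⟩
  by_contra hY
  push Not at hY
  obtain ⟨U, hU⟩ := Y
  have hb : U ≠ ⊥ := fun h => hY.1 (Subrepresentation.toSubmodule_injective h)
  have ht : U ≠ ⊤ := fun h => hY.2 (Subrepresentation.toSubmodule_injective h)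
  have h1 : finrank k U ≤ 2 := by
    have := Submodule.finrank_lt ht
    rw [Module.finrank_fin_fun] at this
    omega
  have h3 : finrank k ((Fin 3 → k) ⧸ U) ≤ 2 := by
    have := U.finrank_quotient_add_finrank
    have hpos : 0 < finrank k U := Nat.pos_of_ne_zero fun h => hb (Submodule.finrank_eq_zero.mp h)
    rw [Module.finrank_fin_fun] at this
    omega
  let τU : Representation k G U :=
    { toFun := fun g => (τ g).restrict (fun x hx => hU g hx)
      map_one' := LinearMap.ext fun v => Subtype.ext (by simp)
      map_mul' := fun g h => LinearMap.ext fun v => Subtype.ext (by simp) }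
  let τQ : Representation k G ((Fin 3 → k) ⧸ U) :=
    { toFun := fun g => U.mapQ U (τ g) (fun x hx => hU g hx)
      map_one' := Submodule.linearMap_qext _ (LinearMap.ext fun v => by simp)
      map_mul' := fun g h => Submodule.linearMap_qext _ (LinearMap.ext fun v => by simp) }
  have eU : ∀ g, ∀ x ∈ U, τ g x = x := fun g x hx => by
    have := LinearMap.congr_fun (rep_small_trivial hG heven h2 τU h1 g) ⟨x, hx⟩
    exact congrArg Subtype.val this
  have eQ : ∀ g x, τ g x - x ∈ U := fun g x => by
    have := LinearMap.congr_fun (rep_small_trivial hG heven h2 τQ h3 g) (Submodule.Quotient.mk x)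
    exact (Submodule.Quotient.eq U).mp this
  let A : G →* Multiplicative (Module.End k (Fin 3 → k)) :=
    { toFun := fun g => Multiplicative.ofAdd (τ g - 1)
      map_one' := by simp
      map_mul' := fun g h => by
        rw [← ofAdd_add]
        congr 1
        refine LinearMap.ext fun x => ?_
        simp only [map_mul, LinearMap.sub_apply, LinearMap.add_apply, Module.End.mul_apply, Module.End.one_apply]
        have := eU g _ (eQ h x)
        rw [map_sub] at this
        linear_combination (norm := module) this }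
  have htriv : ∀ g, τ g = 1 := fun g => by
    have := congrArg Multiplicative.toAdd (hom_comm_trivial hG A g)
    exact sub_eq_zero.mp this
  have := LinearMap.congr_fun (hfun (LinearMap.proj 0) fun g v => by rw [htriv g]; rfl) (Pi.single 0 1)
  simp at this

theorem exists_symm_form [IsAlgClosed k] (h2 : (2 : k) ≠ 0) (τ : Representation k G (Fin 3 → k))
    [hirr : τ.IsIrreducible]
    (hsymm : ∀ g, LinearMap.trace k _ (τ g⁻¹) = LinearMap.trace k _ (τ g)) :
    ∃ B : Matrix (Fin 3) (Fin 3) k, Bᵀ = B ∧ IsUnit B.det ∧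
      ∀ g, (LinearMap.toMatrix' (τ g))ᵀ * B * LinearMap.toMatrix' (τ g) = B := by
  classical
  let T : G →* Matrix (Fin 3) (Fin 3) k :=
    (LinearMap.toMatrixAlgEquiv' (R := k) (n := Fin 3)).toAlgHom.toRingHom.toMonoidHom.comp τ
  have hT : ∀ g, T g = LinearMap.toMatrix' (τ g) := fun g => rfl
  let τ' : Representation k G (Fin 3 → k) :=
    { toFun := fun g => Matrix.toLin' (T g⁻¹)ᵀ
      map_one' := by simp [Module.End.one_eq_id]
      map_mul' := fun g h => by
        rw [_root_.mul_inv_rev, map_mul, Matrix.transpose_mul, Matrix.toLin'_mul]; rfl }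
  have hττ : ∀ g, τ g = Matrix.toLin' (T g) := fun g => (Matrix.toLin'_toMatrix' (τ g)).symm
  have hpair : ∀ g v y, τ' g v ⬝ᵥ τ g y = v ⬝ᵥ y := by
    intro g v y
    show Matrix.toLin' (T g⁻¹)ᵀ v ⬝ᵥ τ g y = _
    rw [hττ g, Matrix.toLin'_apply, Matrix.toLin'_apply, Matrix.mulVec_transpose, ← Matrix.dotProduct_mulVec,
      Matrix.mulVec_mulVec, ← map_mul, inv_mul_cancel, map_one, Matrix.one_mulVec]
  have hirr' : τ'.IsIrreducible := by
    haveI : Nontrivial (Subrepresentation τ') := ⟨⊥, ⊤, fun h => by
      have h1 : (⊥ : Submodule k (Fin 3 → k)) = ⊤ := congrArg Subrepresentation.toSubmodule h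
      exact bot_ne_top h1⟩
    refine ⟨fun Y => ?_⟩
    let U : Submodule k (Fin 3 → k) :=
      { carrier := {y | ∀ v ∈ Y.toSubmodule, v ⬝ᵥ y = 0}
        add_mem' := fun ha hb v hv => by simp [dotProduct_add, ha v hv, hb v hv]
        zero_mem' := fun v _ => dotProduct_zero v
        smul_mem' := fun c y hy v hv => by simp [hy v hv] }
    have hUinv : ∀ g, ∀ y ∈ U, τ g y ∈ U := fun g y hy v hv => by
      have h1 : v = τ' g (τ' g⁻¹ v) := by
        rw [← Module.End.mul_apply, ← map_mul, mul_inv_cancel, map_one, Module.End.one_apply]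
      rw [h1, hpair]
      exact hy _ (Y.apply_mem_toSubmodule g⁻¹ hv)
    rcases IsSimpleOrder.eq_bot_or_eq_top (⟨U, fun g y hy => hUinv g y hy⟩ : Subrepresentation τ) with h | h
    · right
      apply Subrepresentation.toSubmodule_injective
      by_contra hne
      obtain ⟨φ, hφ, hφY⟩ := Submodule.exists_dual_map_eq_bot_of_lt_top (lt_top_iff_ne_top.mpr hne) inferInstance
      have hc : (fun i => φ (Pi.single i 1)) ∈ U := fun v hv => by
        have h0 : φ v = 0 := by
          have : φ v ∈ Y.toSubmodule.map φ := ⟨v, hv, rfl⟩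
          rwa [hφY, Submodule.mem_bot] at this
        conv_rhs => rw [← h0, pi_eq_sum_univ' v]
        simp [dotProduct, map_sum]
      have hU : U = ⊥ := congrArg Subrepresentation.toSubmodule h
      rw [hU, Submodule.mem_bot] at hc
      apply hφ
      refine LinearMap.ext fun v => ?_
      rw [pi_eq_sum_univ' v, map_sum]
      simp [fun i => congrFun hc i]
    · left
      apply Subrepresentation.toSubmodule_injective
      have hU : U = ⊤ := congrArg Subrepresentation.toSubmodule h
      show Y.toSubmodule = (⊥ : Submodule k (Fin 3 → k))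
      rw [eq_bot_iff]
      intro v hv
      exact Submodule.mem_bot k |>.mpr (dotProduct_eq_zero v fun y => (hU ▸ Submodule.mem_top : y ∈ U) v hv)
  obtain ⟨e⟩ : Nonempty (τ.Equiv τ') := by
    by_contra hne
    rw [not_nonempty_iff] at hne
    have hne' : IsEmpty (τ'.Equiv τ) := ⟨fun e => hne.false e.symm⟩
    have hli := ModRep.linearIndependent_trace (k := k) (G := G) (fun _ : Fin 2 => Fin 3 → k) (![τ, τ'])
      (by intro i; fin_cases i
          · exact hirr
          · exact hirr')
      (by intro i j hij; fin_cases i <;> fin_cases j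
          · exact absurd rfl hij
          · exact hne
          · exact hne'
          · exact absurd rfl hij)
    refine absurd (hli.injective (a₁ := 0) (a₂ := 1) (funext fun g => ?_)) (by decide)
    show LinearMap.trace k _ (τ g) = LinearMap.trace k _ (Matrix.toLin' (T g⁻¹)ᵀ)
    rw [Matrix.trace_toLin'_eq, Matrix.trace_transpose, ← Matrix.trace_toLin'_eq, ← hττ, hsymm]
  set B := LinearMap.toMatrix' (e.toLinearEquiv : (Fin 3 → k) →ₗ[k] (Fin 3 → k)) with hB
  have hBdet : IsUnit B.det := by
    rw [hB, LinearMap.det_toMatrix']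
    exact LinearEquiv.isUnit_det' e.toLinearEquiv
  have hBT : ∀ g, B * T g = (T g⁻¹)ᵀ * B := fun g => by
    have h := congrArg LinearMap.toMatrix' (e.toIntertwiningMap.isIntertwining' g)
    rw [LinearMap.toMatrix'_comp, LinearMap.toMatrix'_comp] at h
    have h' : LinearMap.toMatrix' (τ' g) = (T g⁻¹)ᵀ := LinearMap.toMatrix'_toLin' _
    rw [h'] at h
    exact h
  have hBinv : ∀ g, (T g)ᵀ * B * T g = B := fun g => by
    rw [mul_assoc, hBT, ← mul_assoc, ← Matrix.transpose_mul, ← map_mul, inv_mul_cancel, map_one,
      Matrix.transpose_one, one_mul]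
  have hBT' : ∀ g, (T g)ᵀ * Bᵀ * T g = Bᵀ := fun g => by
    conv_rhs => rw [← hBinv g]
    simp [Matrix.transpose_mul, mul_assoc]
  let D := B⁻¹ * Bᵀ
  have hD : ∀ g, D * T g = T g * D := by
    intro g
    have h1 : Bᵀ * T g = (T g⁻¹)ᵀ * Bᵀ := by
      conv_rhs => rw [← hBT' g]
      rw [← mul_assoc, ← mul_assoc, ← Matrix.transpose_mul, ← map_mul, mul_inv_cancel, map_one,
        Matrix.transpose_one, one_mul]
    have h2' : B⁻¹ * (T g⁻¹)ᵀ = T g * B⁻¹ := by
      calc B⁻¹ * (T g⁻¹)ᵀ = B⁻¹ * ((T g⁻¹)ᵀ * B) * B⁻¹ := by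
            rw [mul_assoc, mul_assoc, Matrix.mul_nonsing_inv _ hBdet, mul_one]
        _ = T g * B⁻¹ := by rw [← hBT, ← mul_assoc, Matrix.nonsing_inv_mul _ hBdet, one_mul]
    simp only [D, mul_assoc, h1]
    rw [← mul_assoc, h2', mul_assoc]
  obtain ⟨c, hc⟩ := ModRep.exists_scalar τ (Matrix.toLin' D) fun g v => by
    rw [hττ g, Matrix.toLin'_apply, Matrix.toLin'_apply, Matrix.toLin'_apply, Matrix.toLin'_apply,
      Matrix.mulVec_mulVec, Matrix.mulVec_mulVec, hD]
  have hBc : Bᵀ = c • B := by
    have hDc : D = c • (1 : Matrix (Fin 3) (Fin 3) k) := Matrix.toLin'.injective (LinearMap.ext fun v => by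
      rw [hc v, map_smul, LinearMap.smul_apply, Matrix.toLin'_one, LinearMap.id_apply])
    have := congrArg (B * ·) hDc
    simp only [D, ← mul_assoc, Matrix.mul_nonsing_inv _ hBdet, one_mul, mul_smul_comm, mul_one] at this
    exact this
  have hc2 : c * c = 1 := by
    have h := congrArg Matrix.transpose hBc
    rw [Matrix.transpose_transpose, Matrix.transpose_smul, hBc, smul_smul] at h
    have hBne : B ≠ 0 := fun h0 => by rw [h0] at hBdet; simp at hBdet
    have : (c * c - 1) • B = 0 := by rw [sub_smul, one_smul, ← h, sub_self]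
    exact sub_eq_zero.mp ((smul_eq_zero.mp this).resolve_right hBne)
  rcases mul_self_eq_one_iff.mp hc2 with h | h
  · exact ⟨B, by rw [hBc, h, one_smul], hBdet, fun g => hBinv g⟩
  · exfalso
    have h' := congrArg Matrix.det hBc
    rw [Matrix.det_transpose, h, Matrix.det_smul, Fintype.card_fin] at h'
    have : (2 : k) * B.det = 0 := by linear_combination h'
    exact (mul_ne_zero h2 hBdet.ne_zero) this

end Cfsg.Agent.PrimeDegreeTI
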