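/-
From an invariant symmetric form to `PSL₂` over a finite field (namespace `Cfsg.Agent.PrimeDegreeTI`).

* `exists_std_rep` : a congruent representation preserving the standard form
* `exists_psl_hom` : an embedding of a simple group into `PSL₂` over a finite field
-/
import Cfsg.Agent.Lib.PrimeDegreeTI.Orthogonal
import Cfsg.Agent.S0298
import Mathlib.LinearAlgebra.QuadraticForm.AlgClosed
import Mathlib.LinearAlgebra.Matrix.SesquilinearForm
import Mathlib.FieldTheory.IntermediateField.Adjoin.Algebra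

set_option autoImplicit false
set_option linter.unusedSectionVars false

open Matrix Module

namespace Cfsg.Agent.PrimeDegreeTI

open Cfsg Cfsg.Agent.Orth

universe u

variable {k : Type} [Field k] {G : Type u} [Group G] [Finite G]

theorem separatingLeft_associated_of_polar {ι : Type} [Fintype ι] [Invertible (2 : k)] (Q : QuadraticForm k (ι → k))
    (h : ∀ x : ι → k, (∀ y, QuadraticMap.polar Q x y = 0) → x = 0) : (QuadraticMap.associated Q).SeparatingLeft := by
  intro x hx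
  refine h x fun y => ?_
  have h1 := hx y
  rw [QuadraticMap.associated_apply] at h1
  have h2 := congrArg (fun z => (2 : Module.End k k) • z) h1
  simp [smul_smul, QuadraticMap.polar] at h2 ⊢
  exact h2.resolve_left (Invertible.ne_zero (2 : k))

theorem exists_std_rep [IsAlgClosed k] (h2 : (2 : k) ≠ 0) (T : G →* Matrix (Fin 3) (Fin 3) k)
    (B : Matrix (Fin 3) (Fin 3) k) (hB : Bᵀ = B) (hBdet : IsUnit B.det) (hT : ∀ g, (T g)ᵀ * B * T g = B) :
    ∃ S : G →* Matrix (Unit ⊕ (Fin 1 ⊕ Fin 1)) (Unit ⊕ (Fin 1 ⊕ Fin 1)) k,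
      (∀ g v, quadFormOdd 1 k (S g *ᵥ v) = quadFormOdd 1 k v) ∧ ∀ g, S g = 1 → T g = 1 := by
  classical
  haveI : Invertible (2 : k) := invertibleOfNonzero h2
  let e : (Unit ⊕ (Fin 1 ⊕ Fin 1)) ≃ Fin 3 := Fintype.equivFinOfCardEq (by simp)
  let R : Matrix (Fin 3) (Fin 3) k ≃ₐ[k] Matrix (Unit ⊕ (Fin 1 ⊕ Fin 1)) (Unit ⊕ (Fin 1 ⊕ Fin 1)) k :=
    Matrix.reindexAlgEquiv k k e.symm
  let B' := R B
  let T' : G →* Matrix (Unit ⊕ (Fin 1 ⊕ Fin 1)) (Unit ⊕ (Fin 1 ⊕ Fin 1)) k :=
    R.toAlgHom.toRingHom.toMonoidHom.comp T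
  have hRt : ∀ A, (R A)ᵀ = R Aᵀ := fun A => rfl
  have hB' : B'ᵀ = B' := by rw [hRt, hB]
  have hB'det : B'.det ≠ 0 := by
    show (Matrix.reindexAlgEquiv k k e.symm B).det ≠ 0
    rw [Matrix.det_reindexAlgEquiv]
    exact hBdet.ne_zero
  have hT' : ∀ g, (T' g)ᵀ * B' * T' g = B' := fun g => by
    show (R (T g))ᵀ * R B * R (T g) = R B
    rw [hRt, ← map_mul, ← map_mul, hT]
  let Q₁ : QuadraticForm k ((Unit ⊕ (Fin 1 ⊕ Fin 1)) → k) := LinearMap.BilinMap.toQuadraticMap (Matrix.toLinearMap₂' k B')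
  have hQ₁ : ∀ v, Q₁ v = v ⬝ᵥ (B' *ᵥ v) := fun v => Matrix.toLinearMap₂'_apply' B' v v
  have hinv : ∀ g v, Q₁ (T' g *ᵥ v) = Q₁ v := by
    intro g v
    rw [hQ₁, hQ₁, Matrix.mulVec_mulVec, Matrix.dotProduct_mulVec, ← Matrix.mulVec_transpose,
      Matrix.mulVec_mulVec, Matrix.transpose_mul, hB', hT', dotProduct_comm]
  have hsep₁ : (QuadraticMap.associated Q₁).SeparatingLeft := by
    refine separatingLeft_associated_of_polar Q₁ fun x hx => ?_
    have h1 : ∀ y, 2 * ((B' *ᵥ x) ⬝ᵥ y) = 0 := by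
      intro y
      rw [← hx y, QuadraticMap.polar, hQ₁, hQ₁, hQ₁, Matrix.mulVec_add, add_dotProduct, dotProduct_add,
        dotProduct_add]
      have hs : x ⬝ᵥ (B' *ᵥ y) = (B' *ᵥ x) ⬝ᵥ y := by
        rw [Matrix.dotProduct_mulVec, ← Matrix.mulVec_transpose, hB']
      rw [hs, dotProduct_comm y (B' *ᵥ x)]
      ring
    have h3 : B' *ᵥ x = 0 := dotProduct_eq_zero _ fun y => (mul_eq_zero.mp (h1 y)).resolve_left h2
    exact Matrix.eq_zero_of_mulVec_eq_zero hB'det h3
  have hsep₂ : (QuadraticMap.associated (quadOdd 1 k)).SeparatingLeft :=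
    separatingLeft_associated_of_polar _ fun x hx => (quadOdd_nondeg (F := k) 1 h2).1 x hx
  obtain ⟨f⟩ := QuadraticForm.equivalent_of_isAlgClosed Q₁ (quadOdd 1 k) hsep₁ hsep₂
  set C := LinearMap.toMatrix' (f.toLinearEquiv : ((Unit ⊕ (Fin 1 ⊕ Fin 1)) → k) →ₗ[k] ((Unit ⊕ (Fin 1 ⊕ Fin 1)) → k)) with hC
  set C' := LinearMap.toMatrix' (f.toLinearEquiv.symm : ((Unit ⊕ (Fin 1 ⊕ Fin 1)) → k) →ₗ[k] ((Unit ⊕ (Fin 1 ⊕ Fin 1)) → k)) with hC'
  have hCC : C' * C = 1 := by
    rw [hC, hC', ← LinearMap.toMatrix'_comp, LinearEquiv.comp_coe, LinearEquiv.self_trans_symm,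
      LinearEquiv.refl_toLinearMap, LinearMap.toMatrix'_id]
  have hCC' : C * C' = 1 := by
    rw [hC, hC', ← LinearMap.toMatrix'_comp, LinearEquiv.comp_coe, LinearEquiv.symm_trans_self,
      LinearEquiv.refl_toLinearMap, LinearMap.toMatrix'_id]
  refine ⟨{ toFun := fun g => C * T' g * C'
            map_one' := by rw [map_one, mul_one, hCC']
            map_mul' := fun g h => by
              rw [map_mul, show C * T' g * C' * (C * T' h * C') = C * T' g * ((C' * C) * (T' h * C')) by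
                simp only [mul_assoc], hCC, one_mul]
              simp only [mul_assoc] }, fun g v => ?_, fun g hg => ?_⟩
  · show quadFormOdd 1 k ((C * T' g * C') *ᵥ v) = _
    rw [← Matrix.mulVec_mulVec, ← Matrix.mulVec_mulVec, hC, hC', LinearMap.toMatrix'_mulVec,
      LinearMap.toMatrix'_mulVec]
    have h1 := f.map_app' (T' g *ᵥ f.toLinearEquiv.symm v)
    have h3 := f.map_app' (f.toLinearEquiv.symm v)
    rw [show f.toFun (f.toLinearEquiv.symm v) = v from f.toLinearEquiv.apply_symm_apply v] at h3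
    rw [← coe_quadOdd]
    exact h1.trans ((hinv g _).trans h3.symm)
  · have h1 : T' g = 1 := by
      have := congrArg (fun A => C' * A * C) hg
      simp only [MonoidHom.coe_mk, OneHom.coe_mk, mul_one, hCC] at this
      rw [show C' * (C * T' g * C') * C = (C' * C) * T' g * (C' * C) by simp only [mul_assoc], hCC, one_mul,
        mul_one] at this
      exact this
    exact R.injective (h1.trans (map_one R).symm)

variable {p : ℕ} [hp : Fact p.Prime] [CharP k p] [IsSimpleGroup G]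

theorem exists_psl_hom [IsAlgClosed k] (hp3 : 3 ≤ p) (hint : ∀ a : k, IsIntegral ℤ a) (hG : commutator G = ⊤)
    (T : G →* Matrix (Fin 3) (Fin 3) k) (hT1 : T ≠ 1)
    (B : Matrix (Fin 3) (Fin 3) k) (hB : Bᵀ = B) (hBdet : IsUnit B.det) (hT : ∀ g, (T g)ᵀ * B * T g = B) :
    ∃ (F : Type) (_ : Field F) (_ : Fintype F) (_ : CharP F p)
      (ψ : G →* Matrix.ProjectiveSpecialLinearGroup (Fin 2) F), Function.Injective ψ := by
  classical
  have h2 : (2 : k) ≠ 0 := fun h => by
    have := Nat.le_of_dvd two_pos ((CharP.cast_eq_zero_iff k p 2).mp (by exact_mod_cast h))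
    omega
  obtain ⟨S, hS, hS1⟩ := exists_std_rep h2 T B hB hBdet hT
  letI : Algebra (ZMod p) k := ZMod.algebra k p
  let K : IntermediateField (ZMod p) k :=
    IntermediateField.adjoin (ZMod p) (Set.range fun z : G × (Unit ⊕ (Fin 1 ⊕ Fin 1)) × (Unit ⊕ (Fin 1 ⊕ Fin 1)) =>
      S z.1 z.2.1 z.2.2)
  haveI : FiniteDimensional (ZMod p) K :=
    IntermediateField.finiteDimensional_adjoin fun a _ => (hint a).tower_top
  haveI : Finite K := Module.finite_of_finite (ZMod p)
  letI : Fintype K := Fintype.ofFinite K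
  haveI : CharP K p := charP_of_injective_ringHom (algebraMap (ZMod p) K).injective p
  have hcoe : ∀ g i j, S g i j ∈ K := fun g i j =>
    IntermediateField.subset_adjoin _ _ ⟨(g, i, j), rfl⟩
  let ι : K →+* k := algebraMap K k
  have hιinj : Function.Injective (ι.mapMatrix : Matrix (Unit ⊕ (Fin 1 ⊕ Fin 1)) (Unit ⊕ (Fin 1 ⊕ Fin 1)) K → _) :=
    Matrix.map_injective (algebraMap K k).injective
  let S' : G → Matrix (Unit ⊕ (Fin 1 ⊕ Fin 1)) (Unit ⊕ (Fin 1 ⊕ Fin 1)) K :=
    fun g => Matrix.of fun i j => ⟨S g i j, hcoe g i j⟩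
  have hS'm : ∀ g, ι.mapMatrix (S' g) = S g := fun g => rfl
  let Sh : G →* Matrix (Unit ⊕ (Fin 1 ⊕ Fin 1)) (Unit ⊕ (Fin 1 ⊕ Fin 1)) K :=
    { toFun := S'
      map_one' := hιinj (by rw [hS'm, map_one, map_one])
      map_mul' := fun g h => hιinj (by rw [hS'm, map_mul, map_mul, hS'm, hS'm]) }
  have hQ : ∀ g v, quadFormOdd 1 K (Sh g *ᵥ v) = quadFormOdd 1 K v := by
    intro g v
    apply ι.injective
    have hmap : ∀ w : (Unit ⊕ (Fin 1 ⊕ Fin 1)) → K, ι (quadFormOdd 1 K w) = quadFormOdd 1 k (ι ∘ w) := fun w => by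
      simp [quadFormOdd]
    rw [hmap, hmap]
    refine Eq.trans ?_ (hS g _)
    congr 1
  let φ₀ := isoHom Sh hQ
  have hrange : φ₀.range ≤ Omega K (quadFormOdd 1 K) := by
    rw [MonoidHom.range_eq_map, ← hG, commutator_def, Subgroup.map_commutator]
    exact Subgroup.commutator_mono le_top le_top
  let φ₁ : G →* Omega K (quadFormOdd 1 K) := φ₀.codRestrict _ fun g => hrange ⟨g, rfl⟩
  have hodd : Odd (Fintype.card K) := by
    obtain ⟨l, -, hl⟩ := FiniteField.card K p
    rw [hl]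
    exact (hp.out.odd_of_ne_two (by omega)).pow
  obtain ⟨iso⟩ := S0298.result (F := K) hodd
  let ψ : G →* Matrix.ProjectiveSpecialLinearGroup (Fin 2) K :=
    iso.toMonoidHom.comp ((QuotientGroup.mk' (Subgroup.center (Omega K (quadFormOdd 1 K)))).comp φ₁)
  refine ⟨K, inferInstance, inferInstance, inferInstance, ψ, ?_⟩
  rw [← MonoidHom.ker_eq_bot_iff]
  rcases IsSimpleGroup.eq_bot_or_eq_top_of_normal ψ.ker inferInstance with h | h
  · exact h
  exfalso
  have hcen : ∀ g, φ₁ g ∈ Subgroup.center (Omega K (quadFormOdd 1 K)) := fun g => by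
    have := MonoidHom.mem_ker.mp (h ▸ Subgroup.mem_top g : g ∈ ψ.ker)
    exact (QuotientGroup.eq_one_iff _).mp (iso.injective (this.trans (map_one iso).symm))
  have htriv : ∀ g, φ₁ g = 1 := fun g => by
    letI : CommGroup (Subgroup.center (Omega K (quadFormOdd 1 K))) :=
      { (inferInstance : Group (Subgroup.center (Omega K (quadFormOdd 1 K)))) with
        mul_comm := fun a b => Subtype.ext (Subgroup.mem_center_iff.mp b.2 a.1) }
    have := hom_comm_trivial hG (φ₁.codRestrict (Subgroup.center _) hcen) g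
    exact congrArg Subtype.val this
  refine hT1 (MonoidHom.ext fun g => hS1 g ?_)
  have h1 : φ₀ g = 1 := congrArg Subtype.val (htriv g)
  rw [isoHom_eq_one_iff] at h1
  rw [← hS'm g, show S' g = 1 from h1, map_one]

end Cfsg.Agent.PrimeDegreeTI
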