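/-
Transitive groups of prime degree with one character of degree `p` and a TI complement of order at least three
(namespace `Cfsg.Agent.PrimeDegreeTI`).

* `rank_eigen` : ranks of the reduced eigenspaces
* `main` : such a group is `PSL(2, p)`, `p ∈ {5, 7, 11}`
-/
import Cfsg.Agent.Lib.PrimeDegreeTI.Chars
import Cfsg.Agent.Lib.PrimeDegreeTI.Realise
import Cfsg.Agent.Lib.PrimeDegreeTI.Heart
import Cfsg.Agent.Lib.PrimeDegreeTI.Lift
import Cfsg.Agent.Lib.PrimeDegreeTI.Standard
import Cfsg.Agent.Lib.PrimeDegreeTI.Dickson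
import Cfsg.Agent.Lib.Blocks.Induced

set_option autoImplicit false
set_option linter.unusedSectionVars false
set_option linter.style.haveILetI false
set_option maxHeartbeats 1000000

open scoped ComplexConjugate

namespace Cfsg.Agent.PrimeDegreeTI

open Cfsg Cfsg.Agent MulAction Matrix Module

universe u v

theorem eq_of_natCast_eq {p : ℕ} {k : Type*} [Field k] [CharP k p] {r m n : ℕ} (h : (r : k) = m) (hr : r ≤ n)
    (hm : m < p) (hn : n < m + p) : r = m := by
  rw [CharP.natCast_eq_natCast k p] at h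
  unfold Nat.ModEq at h
  have h1 := Nat.div_add_mod r p
  rw [h, Nat.mod_eq_of_lt hm] at h1
  rcases Nat.eq_zero_or_pos (r / p) with h2 | h2
  · rw [h2, mul_zero, zero_add] at h1; exact h1.symm
  · have : p * 1 ≤ p * (r / p) := Nat.mul_le_mul_left p h2
    omega

variable {p : ℕ} [hp : Fact p.Prime] {M : Ideal AlgInt} {G : Type u} [Group G] [Finite G]

/-- The three eigenspace ranks. -/
theorem rank_eigen (hM : IsPModular p M) (E : Subgroup G) [Fintype E] {n : ℕ}
    (ρ : G →* Matrix (Fin n) (Fin n) (Blocks.locRing hM)) (μ : E →* (ZMod p)ˣ) (φ : E →* Blocks.locRing hM)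
    (u : Blocks.locRing hM) (hu : u * (Nat.card E : Blocks.locRing hM) = 1) (d : ℕ)
    (hd : ∑ y : E, ((φ y⁻¹ : Blocks.locRing hM) : ℂ) * ((ρ (y : G)).trace : Blocks.locRing hM) =
      (Nat.card E : ℂ) * d) :
    letI := ModRep.resField hM
    haveI : CharP (BrauerPairs.Res M) p := BrauerPairs.res_charP hM
    (∀ r, CyclicDefect.resR hM (φ r) = multK (k := BrauerPairs.Res M) μ r) →
    ((finrank (BrauerPairs.Res M) (LinearMap.range (eigOp (redRep (CyclicDefect.resR hM) ρ) E
      (multK μ) (CyclicDefect.resR hM u))) : ℕ) : BrauerPairs.Res M) = d := by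
  letI := ModRep.resField hM
  haveI : CharP (BrauerPairs.Res M) p := BrauerPairs.res_charP hM
  intro hφ
  have he : ((CyclicDefect.resR hM : Blocks.locRing hM →* BrauerPairs.Res M).comp φ) = multK μ :=
    MonoidHom.ext hφ
  rw [← he]
  refine natCast_finrank_range_eigOp (CyclicDefect.resR hM) ρ E φ u hu d ?_
  have hu' : (u : ℂ) * (Nat.card E : ℂ) = 1 := by
    have := congrArg (fun z : Blocks.locRing hM => (z : ℂ)) hu
    simpa using this
  apply Subtype.ext
  push_cast
  rw [hd, ← mul_assoc, hu', one_mul]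

variable {α : Type v} [Fintype α] [MulAction G α] [FaithfulSMul G α] [IsPretransitive G α]

theorem main (hα : Fintype.card α = p) (St : IrrCharacter G) (hSt : (St : G → ℂ) 1 = p)
    (hu : ∀ χ : IrrCharacter G, (χ : G → ℂ) 1 = p → χ = St) (P : Sylow p G) (E : Subgroup G)
    (hPE : (P : Subgroup G) ⊔ E = Subgroup.normalizer ((P : Subgroup G) : Set G))
    (hPE' : (P : Subgroup G) ⊓ E = ⊥)
    (hNE : Nat.card (Subgroup.normalizer (E : Set G)) = 2 * Nat.card E)
    (hTI : ∀ g : G, g ∉ Subgroup.normalizer (E : Set G) → E ⊓ E.map (MulAut.conj g).toMonoidHom = ⊥)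
    (he3 : 3 ≤ Nat.card E) :
    (p = 5 ∨ p = 7 ∨ p = 11) ∧ ∃ (F : Type) (_ : Field F) (_ : Fintype F),
      Fintype.card F = p ∧ Nonempty (G ≃* Matrix.ProjectiveSpecialLinearGroup (Fin 2) F) := by
  classical
  haveI : Fintype G := Fintype.ofFinite G
  haveI : Fintype E := Fintype.ofFinite E
  have hp5 := five_le hα St hSt
  have hG := commutator_eq_top hα St hSt hu
  have hcomm := E_comm hα P E hPE hPE'
  haveI := isSimpleGroup hα St hSt hu P E hPE hcomm
  haveI := isCyclic_E hα P E hPE hPE'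
  obtain ⟨x, hx, hPx⟩ := exists_generator hα P
  have hxp : x ^ p = 1 := hx ▸ pow_orderOf_eq_one x
  obtain ⟨m, hminj, hconj⟩ := exists_mult hα P E hPE hPE' hx hPx
  have hEne : E ≠ ⊥ := fun h => by rw [h, Subgroup.card_bot] at he3; omega
  obtain ⟨a, hfixa, honly, hbij⟩ := exists_fixed hα P E hPE hPE' hx hPx hEne
  obtain ⟨r₀, hgen⟩ := IsCyclic.exists_generator (α := E)
  obtain ⟨w, hw, hwE⟩ : ∃ w ∈ Subgroup.normalizer (E : Set G), w ∉ E := by
    by_contra hcon
    push Not at hcon
    have := Nat.le_of_dvd Nat.card_pos (Subgroup.card_dvd_of_le hcon)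
    omega
  have hinv : ∀ r ∈ E, w * r * w⁻¹ = r⁻¹ := fun r hr => conj_eq_inv hG E hNE hTI hw hwE hr
  obtain ⟨t, ht⟩ := card_E_dvd hα P E hPE hPE'
  have hpt : p = t * Nat.card E + 1 := by rw [mul_comm, ← ht]; omega
  have ht0 : t ≠ 0 := fun h => by rw [h, zero_mul] at hpt; omega
  have hpe : ¬ p ∣ Nat.card E := fun h => by
    have := Nat.le_of_dvd Nat.card_pos h
    have := Nat.le_mul_of_pos_left (Nat.card E) (Nat.pos_of_ne_zero ht0)
    omega
  have htp : t + 1 < p := by
    have := Nat.mul_le_mul_left t he3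
    omega
  have hfix : ∀ r : E, r ≠ 1 → Nat.card (fixedBy α (r : G)) = 1 := by
    intro r hr
    rw [Nat.card_eq_one_iff_unique]
    refine ⟨⟨fun b c => Subtype.ext ?_⟩, ⟨⟨a, hfixa r r.2⟩⟩⟩
    rw [honly r r.2 b (fun h => hr (Subtype.ext h)) b.2, honly r r.2 c (fun h => hr (Subtype.ext h)) c.2]
  -- the residue field and the lift
  obtain ⟨M, hM⟩ := Blocks.exists_isPModular hp.out
  letI := ModRep.resField hM
  haveI hchar : CharP (BrauerPairs.Res M) p := BrauerPairs.res_charP hM
  haveI := ModRep.isAlgClosed_res hM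
  obtain ⟨φR, hφprim, hφres⟩ := exists_lift_hom hM E m hminj hgen hpe
  let φ : E →* ℂ := (Blocks.locRing hM).subtype.toMonoidHom.comp φR
  have hφ : IsPrimitiveRoot (φ r₀) (Nat.card E) := hφprim
  have hφ1 : φ ≠ 1 := by simpa using phi_pow_ne_one E φ hφ one_ne_zero (by omega)
  have hφ2 : φ * φ ≠ 1 := by simpa [pow_two] using phi_pow_ne_one E φ hφ two_ne_zero (by omega)
  -- the character
  obtain ⟨D, hD1, hDreal, hDE, hDP, hDπ⟩ :=
    exists_D E hNE hTI hw hwE hinv hcomm hα St hSt hu hG hgen φ hφ he3 hpt hfix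
  have hDcl := Char.IsIrrCharacter.isClassFunction D.2
  have hDinv : ∀ g, (D : G → ℂ) g⁻¹ = (D : G → ℂ) g := fun g => by
    rw [Char.IsCharacter.apply_inv (Char.IsIrrCharacter.isCharacter D.2), hDreal]
  haveI : Fintype (Subgroup.normalizer ((P : Subgroup G) : Set G)) := Fintype.ofFinite _
  obtain ⟨ν, hν⟩ := exists_normalizer_hom (P : Subgroup G) E hPE hPE' φ
  have hν1 := classInner_normalizer_eq_one (P : Subgroup G) E hx hPx hPE hPE' m hminj hconj φ hφ2 ν hν
    hDcl hD1 hDE hDP
  obtain ⟨n, ρ, hρR, hρtr, hn⟩ := exists_exact_realisation hM D.2 _ ν hν1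
  have hnp : n = p + 1 := by rw [hD1] at hn; exact_mod_cast hn
  -- the integral representations
  let ρR : G →* Matrix (Fin n) (Fin n) (Blocks.locRing hM) :=
    { toFun := fun g => Matrix.of fun i j => ⟨ρ g i j, hρR g i j⟩
      map_one' := by
        apply Matrix.map_injective (f := (Blocks.locRing hM).subtype) Subtype.val_injective
        show ρ 1 = (1 : Matrix (Fin n) (Fin n) (Blocks.locRing hM)).map (Blocks.locRing hM).subtype
        rw [Matrix.map_one _ (map_zero _) (map_one _), map_one]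
      map_mul' := fun g h => by
        apply Matrix.map_injective (f := (Blocks.locRing hM).subtype) Subtype.val_injective
        refine (map_mul ρ g h).trans ?_
        dsimp only
        rw [Matrix.map_mul]
        rfl }
  let ρR' : G →* Matrix (Fin n) (Fin n) (Blocks.locRing hM) :=
    { toFun := fun g => (ρR g⁻¹)ᵀ
      map_one' := by rw [inv_one, map_one, Matrix.transpose_one]
      map_mul' := fun g h => by rw [_root_.mul_inv_rev, map_mul, Matrix.transpose_mul] }
  have htrR : ∀ g, (((ρR g).trace : Blocks.locRing hM) : ℂ) = (D : G → ℂ) g := fun g => by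
    rw [← hρtr g]
    exact map_sum (Blocks.locRing hM).subtype _ _
  have htrR' : ∀ g, (((ρR' g).trace : Blocks.locRing hM) : ℂ) = (D : G → ℂ) g := fun g => by
    show (((ρR g⁻¹)ᵀ).trace : ℂ) = _
    rw [Matrix.trace_transpose, htrR, hDinv]
  set σ := redRep (CyclicDefect.resR hM) ρR with hσ
  set σ' := redRep (CyclicDefect.resR hM) ρR' with hσ'
  have hpair : ∀ g v y, σ' g v ⬝ᵥ σ g y = v ⬝ᵥ y := by
    intro g v y
    rw [hσ, hσ', redRep_apply, redRep_apply, Matrix.toLin'_apply, Matrix.toLin'_apply]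
    show ((ρR g⁻¹)ᵀ.map _ *ᵥ v) ⬝ᵥ _ = _
    rw [Matrix.transpose_map, Matrix.mulVec_transpose, ← Matrix.dotProduct_mulVec, Matrix.mulVec_mulVec,
      ← Matrix.map_mul, ← map_mul, inv_mul_cancel, map_one, Matrix.map_one _ (map_zero _) (map_one _),
      Matrix.one_mulVec]
  have hpair' : ∀ g v y, σ g v ⬝ᵥ σ' g y = v ⬝ᵥ y := fun g v y => by
    rw [dotProduct_comm, hpair, dotProduct_comm]
  -- the averaging constant
  let u : Blocks.locRing hM := ⟨(Nat.card E : ℂ)⁻¹, Blocks.memR_natCast_inv hM hpe⟩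
  have hce : (Nat.card E : ℂ) ≠ 0 := Nat.cast_ne_zero.2 Nat.card_pos.ne'
  have hu1 : u * (Nat.card E : Blocks.locRing hM) = 1 := Subtype.ext (by simp [u, hce])
  have hu1k : CyclicDefect.resR hM u * (Nat.card E : BrauerPairs.Res M) = 1 := by
    rw [← map_natCast (CyclicDefect.resR hM), ← map_mul, hu1, map_one]
  -- the multiplicity sums
  have hφinv : ∀ r : E, conj (φ r) = φ r⁻¹ := conj_hom E φ
  have hsum : ∀ (μ : E →* ℂ) (d₁ d₂ : ℂ), (∑ r : E, μ r⁻¹ * φ r = d₁) → (∑ r : E, μ r⁻¹ * φ r⁻¹ = d₂) →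
      ∑ r : E, μ r⁻¹ * (D : G → ℂ) r = d₁ + d₂ + ((p : ℂ) - 1) := by
    intro μ d₁ d₂ h1 h2
    rw [← h1, ← h2, ← Finset.sum_add_distrib,
      show (p : ℂ) - 1 = ∑ r : E, if r = 1 then (p : ℂ) - 1 else 0 by simp, ← Finset.sum_add_distrib]
    refine Finset.sum_congr rfl fun r _ => ?_
    by_cases hr : r = 1
    · subst hr; simp [hD1]; ring
    · rw [if_neg hr, hDE r hr, hφinv]; ring
  have hS0 : ∀ (μ : E →* ℂ), ∑ r : E, μ r⁻¹ = if μ = 1 then (Nat.card E : ℂ) else 0 := fun μ => by
    rw [← sum_hom E μ]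
    exact Fintype.sum_equiv (Equiv.inv _) _ _ fun r => rfl
  have hS1 : ∑ r : E, φ r⁻¹ * φ r = (Nat.card E : ℂ) := by
    rw [Finset.sum_congr rfl fun r _ => by rw [← map_mul, inv_mul_cancel, map_one], Finset.sum_const,
      Finset.card_univ, nsmul_one, Nat.card_eq_fintype_card]
  have hS2 : ∑ r : E, φ r⁻¹ * φ r⁻¹ = 0 := by
    have := hS0 (φ * φ)
    rw [if_neg hφ2] at this
    simpa [MonoidHom.mul_apply] using this
  let φRinv : E →* Blocks.locRing hM :=
    { toFun := fun r => φR r⁻¹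
      map_one' := by simp
      map_mul' := fun r s => by rw [_root_.mul_inv_rev, map_mul, mul_comm] }
  have hres1 : ∀ r, CyclicDefect.resR hM ((1 : E →* Blocks.locRing hM) r) = multK (1 : E →* (ZMod p)ˣ) r := by
    intro r
    rw [MonoidHom.one_apply, map_one, multK_one, MonoidHom.one_apply]
  have hresinv : ∀ r, CyclicDefect.resR hM (φRinv r) = multK m⁻¹ r := by
    intro r
    show CyclicDefect.resR hM (φR r⁻¹) = _
    rw [hφres, multK_apply, multK_apply, map_inv]
    rfl
  have hranks : ∀ (τR : G →* Matrix (Fin n) (Fin n) (Blocks.locRing hM)),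
      (∀ g, (((τR g).trace : Blocks.locRing hM) : ℂ) = (D : G → ℂ) g) →
      finrank (BrauerPairs.Res M) (LinearMap.range (eigOp (redRep (CyclicDefect.resR hM) τR) E (multK m)
          (CyclicDefect.resR hM u))) = t + 1 ∧
        finrank (BrauerPairs.Res M) (LinearMap.range (eigOp (redRep (CyclicDefect.resR hM) τR) E (multK m⁻¹)
          (CyclicDefect.resR hM u))) = t + 1 ∧
        finrank (BrauerPairs.Res M) (LinearMap.range (eigOp (redRep (CyclicDefect.resR hM) τR) E
          (multK (1 : E →* (ZMod p)ˣ)) (CyclicDefect.resR hM u))) = t := by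
    intro τR htr
    have hptC : (p : ℂ) - 1 = (Nat.card E : ℂ) * t := by rw [hpt]; push_cast; ring
    have c1 := rank_eigen hM E τR m φR u hu1 (t + 1) (by
      simp only [htr]
      show ∑ y : E, φ y⁻¹ * (D : G → ℂ) y = _
      rw [hsum φ _ _ hS1 hS2, hptC]; push_cast; ring) hφres
    have c2 := rank_eigen hM E τR m⁻¹ φRinv u hu1 (t + 1) (by
      simp only [htr]
      show ∑ y : E, φ (y⁻¹)⁻¹ * (D : G → ℂ) y = _
      simp only [inv_inv]
      rw [← Fintype.sum_equiv (Equiv.inv E) (fun y => φ y⁻¹ * (D : G → ℂ) y) (fun y => φ y * (D : G → ℂ) y)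
        fun y => by simp [hDinv]]
      rw [hsum φ _ _ hS1 hS2, hptC]; push_cast; ring) hresinv
    have c0 := rank_eigen hM E τR 1 1 u hu1 t (by
      simp only [htr]
      show ∑ y : E, (1 : E →* ℂ) y⁻¹ * (D : G → ℂ) y = _
      have h1 : ∑ r : E, (1 : E →* ℂ) r⁻¹ * φ r = 0 := by simp [sum_hom, hφ1]
      have h2 : ∑ r : E, (1 : E →* ℂ) r⁻¹ * φ r⁻¹ = 0 := by
        simp only [MonoidHom.one_apply, one_mul]
        exact (hS0 φ).trans (if_neg hφ1)
      rw [hsum 1 _ _ h1 h2, hptC]; ring) hres1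
    have hbd : ∀ S : Submodule (BrauerPairs.Res M) (Fin n → BrauerPairs.Res M),
        finrank (BrauerPairs.Res M) S ≤ n := fun S => by
      simpa using Submodule.finrank_le S
    have e1 := eq_of_natCast_eq c1 (hbd _) htp (by omega)
    refine ⟨e1, eq_of_natCast_eq c2 (hbd _) htp (by omega), ?_⟩
    rcases Nat.lt_or_ge n (t + p) with h | h
    · exact eq_of_natCast_eq c0 (hbd _) (by omega) h
    refine eq_of_natCast_eq (n := n - 1) c0 ?_ (by omega) (by omega)
    have hne : LinearMap.range (eigOp (redRep (CyclicDefect.resR hM) τR) E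
          (multK (1 : E →* (ZMod p)ˣ)) (CyclicDefect.resR hM u)) ≠ ⊤ := by
      intro htop
      have hbot : LinearMap.range (eigOp (redRep (CyclicDefect.resR hM) τR) E (multK m)
          (CyclicDefect.resR hM u)) = ⊥ := by
        rw [eq_bot_iff]
        intro v hv
        have h1 := (mem_range_eigOp _ E _ _ hu1k).mp hv r₀
        have h2 := (mem_range_eigOp _ E _ _ hu1k).mp (htop ▸ Submodule.mem_top : v ∈ LinearMap.range
          (eigOp (redRep (CyclicDefect.resR hM) τR) E (multK (1 : E →* (ZMod p)ˣ)) (CyclicDefect.resR hM u))) r₀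
        rw [h2, multK_one, MonoidHom.one_apply, one_smul] at h1
        rw [Submodule.mem_bot]
        by_contra hv0
        have h3 : (multK (k := BrauerPairs.Res M) m r₀ - 1) • v = 0 := by rw [sub_smul, one_smul, ← h1, sub_self]
        rw [smul_eq_zero, sub_eq_zero] at h3
        exact (isPrimitiveRoot_multK m hminj hgen).ne_one (by omega) (h3.resolve_right hv0)
      rw [hbot, finrank_bot] at e1
      omega
    have := Submodule.finrank_lt hne
    rw [Module.finrank_fin_fun] at this
    omega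
  -- no fixed vectors
  have hga := Subgroup.card_mul_index (stabilizer G a)
  rw [index_stabilizer_of_transitive, Nat.card_eq_fintype_card (α := α), hα] at hga
  have hpa : ¬ p ∣ Nat.card (stabilizer G a) := by
    intro h
    apply not_sq_dvd (G := G) hα
    rw [← hga, pow_two]
    exact mul_dvd_mul h dvd_rfl
  have hnofix : ∀ (τR : G →* Matrix (Fin n) (Fin n) (Blocks.locRing hM)),
      (∀ g, (((τR g).trace : Blocks.locRing hM) : ℂ) = (D : G → ℂ) g) →
      ∀ v, (∀ g, redRep (CyclicDefect.resR hM) τR g v = v) → v = 0 := by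
    intro τR htr v hv
    haveI : Fintype (stabilizer G a) := Fintype.ofFinite _
    refine eq_zero_of_sum_trace_zero (CyclicDefect.resR hM) τR (stabilizer G a) 1
      ⟨(Nat.card (stabilizer G a) : ℂ)⁻¹, Blocks.memR_natCast_inv hM hpa⟩
      (Subtype.ext (by push_cast; exact inv_mul_cancel₀ (Nat.cast_ne_zero.2 (Nat.card_pos (α := stabilizer G a)).ne'))) ?_
      (fun y => by rw [hv, MonoidHom.one_apply, map_one, one_smul])
    apply Subtype.ext
    push_cast
    simp only [MonoidHom.one_apply, OneMemClass.coe_one, one_mul, htr]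
    rw [sum_stabilizer_eq_zero a hDcl hDπ, mul_zero]
  have hfunctional : ∀ (s s' : Representation (BrauerPairs.Res M) G (Fin n → BrauerPairs.Res M)),
      (∀ g v y, s' g v ⬝ᵥ s g y = v ⬝ᵥ y) → (∀ v, (∀ g, s' g v = v) → v = 0) →
      ∀ f : (Fin n → BrauerPairs.Res M) →ₗ[BrauerPairs.Res M] BrauerPairs.Res M,
        (∀ g v, f (s g v) = f v) → f = 0 := by
    intro s s' hss hvec f hf
    obtain ⟨c, hc⟩ : ∃ c, ∀ y, f y = c ⬝ᵥ y := by
      refine ⟨fun i => f (Pi.single i 1), fun y => ?_⟩
      conv_lhs => rw [pi_eq_sum_univ' y]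
      simp [dotProduct, map_sum, mul_comm]
    have hc0 : c = 0 := hvec c fun g => by
      refine sub_eq_zero.mp (dotProduct_eq_zero _ fun y => ?_)
      rw [sub_dotProduct, pair_swap s s' hss, ← hc, ← hc, hf, sub_self]
    exact LinearMap.ext fun y => by rw [hc, hc0, zero_dotProduct, LinearMap.zero_apply]
  -- the good eigenvector and the three dimensional quotient
  have hr₁ : multK (k := BrauerPairs.Res M) m r₀ * multK m r₀ ≠ 1 := by
    rw [← pow_two]
    exact (isPrimitiveRoot_multK m hminj hgen).pow_ne_one_of_pos_of_lt two_ne_zero (by omega)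
  obtain ⟨hr1, hr2, hr0⟩ := hranks ρR htrR
  have hgood := good_or_good σ x E m hxp hconj σ' hpair (by omega) (by omega) _ hu1k t hr1 hr2 hr0 r₀ hr₁
  have hns : ¬ Group.IsSolvable G := by
    haveI : Nontrivial G := IsSimpleGroup.toNontrivial
    exact not_solvable_of_perfect hG
  have htrk : ∀ g, LinearMap.trace (BrauerPairs.Res M) _ (σ' g) = LinearMap.trace (BrauerPairs.Res M) _ (σ g) := by
    intro g
    rw [hσ, hσ', trace_redRep, trace_redRep]
    congr 1
    exact Subtype.ext ((htrR' g).trans (htrR g).symm)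
  have htrinv : ∀ g, LinearMap.trace (BrauerPairs.Res M) _ (σ g⁻¹) = LinearMap.trace (BrauerPairs.Res M) _ (σ g) := by
    intro g
    rw [hσ, trace_redRep, trace_redRep]
    congr 1
    exact Subtype.ext (by rw [htrR, htrR, hDinv])
  obtain ⟨τ, hτtr, hτfun⟩ : ∃ τ : Representation (BrauerPairs.Res M) G (Fin 3 → BrauerPairs.Res M),
      (∀ g, LinearMap.trace _ _ (τ g) + ((Nat.card (fixedBy α g) : BrauerPairs.Res M) - 2) =
        LinearMap.trace (BrauerPairs.Res M) _ (σ g)) ∧
      ∀ f : (Fin 3 → BrauerPairs.Res M) →ₗ[BrauerPairs.Res M] BrauerPairs.Res M,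
        (∀ g v, f (τ g v) = f v) → f = 0 := by
    rcases hgood with h | h
    · exact exists_three hα hxp hbij hx (P : Subgroup G) hPx E hPE hPE' m hconj hfixa σ (by omega) hpe hns hnp h
        (hnofix ρR htrR) (hfunctional σ σ' hpair (hnofix ρR' htrR'))
    · obtain ⟨τ, h1, h2⟩ := exists_three hα hxp hbij hx (P : Subgroup G) hPx E hPE hPE' m hconj hfixa σ'
        (by omega) hpe hns hnp h (hnofix ρR' htrR') (hfunctional σ' σ hpair' (hnofix ρR htrR))
      exact ⟨τ, fun g => (h1 g).trans (htrk g), h2⟩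
  have heven : 2 ∣ Nat.card G := (hNE ▸ dvd_mul_right 2 _).trans (Subgroup.card_subgroup_dvd_card _)
  have h2 : (2 : BrauerPairs.Res M) ≠ 0 := fun h => by
    have := Nat.le_of_dvd two_pos ((CharP.cast_eq_zero_iff (BrauerPairs.Res M) p 2).mp (by exact_mod_cast h))
    omega
  haveI := three_irreducible hG heven h2 τ hτfun
  have hsymm : ∀ g, LinearMap.trace _ _ (τ g⁻¹) = LinearMap.trace (BrauerPairs.Res M) _ (τ g) := by
    intro g
    have e1 := hτtr g
    have e2 := hτtr g⁻¹
    rw [fixedBy_inv, htrinv] at e2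
    linear_combination e2 - e1
  obtain ⟨B, hB, hBdet, hBinv⟩ := exists_symm_form h2 τ hsymm
  let T : G →* Matrix (Fin 3) (Fin 3) (BrauerPairs.Res M) :=
    (LinearMap.toMatrixAlgEquiv' (R := BrauerPairs.Res M) (n := Fin 3)).toAlgHom.toRingHom.toMonoidHom.comp τ
  have hT1 : T ≠ 1 := by
    intro h
    have h3 : ∀ g, τ g = 1 := fun g => by
      apply (LinearMap.toMatrixAlgEquiv' (R := BrauerPairs.Res M) (n := Fin 3)).injective
      rw [map_one]
      exact DFunLike.congr_fun h g
    have := LinearMap.congr_fun (hτfun (LinearMap.proj 0) fun g v => by rw [h3 g]; rfl) (Pi.single 0 1)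
    simp at this
  have hint : ∀ b : BrauerPairs.Res M, IsIntegral ℤ b := fun b => by
    obtain ⟨z, rfl⟩ := Ideal.Quotient.mk_surjective b
    exact (integralClosure.isIntegral z).map (Ideal.Quotient.mk M).toIntAlgHom
  obtain ⟨F, _, _, _, ψ, hψ⟩ := exists_psl_hom (p := p) (by omega) hint hG T hT1 B hB hBdet hBinv
  refine identify hG hp5 ?_ (not_sq_dvd hα) ⟨stabilizer G a, ?_⟩ ψ hψ
  · exact Dvd.intro_left _ hga
  · rw [index_stabilizer_of_transitive, Nat.card_eq_fintype_card, hα]

end Cfsg.Agent.PrimeDegreeTI
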